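import Mathlib

/-!
# Automorphisms of `k⟦X⟧` of order `p` in characteristic `p` (helper99)

Ramification break computations: for a `k`-algebra automorphism `σ` of `k⟦X⟧` with `σ ^ p = 1`
and `ord (σ X - X) = m + 1`, we have `m ≥ 1`, `X ^ (m+1) ∣ σ g - g` for all `g`, and
`ord (σ y - y) = ord y + m` whenever `p ∤ ord y`.
-/

set_option autoImplicit false

namespace Groth.Agent.Lib.Helper99

open PowerSeries

section PSAut

variable {k : Type*} [Field k]

/-- a `k`-algebra endomorphism of `k⟦X⟧` sends `X` to a series without constant term -/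
theorem constantCoeff_algHom_X (τ : PowerSeries k →ₐ[k] PowerSeries k) :
    constantCoeff (τ X) = 0 := by
  by_contra h
  set a := constantCoeff (τ X) with ha
  have hu : IsUnit ((X : PowerSeries k) - C a) := by
    rw [isUnit_iff_constantCoeff]
    simp [h]
  have hu' : IsUnit (τ (X - C a)) := hu.map τ
  rw [isUnit_iff_constantCoeff] at hu'
  apply hu'.ne_zero
  have hC : τ (C a) = C a := τ.commutes a
  rw [map_sub, hC, map_sub, ← ha, constantCoeff_C, sub_self]

/-- a `k`-algebra endomorphism of `k⟦X⟧` preserves the constant coefficient -/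
theorem constantCoeff_algHom (τ : PowerSeries k →ₐ[k] PowerSeries k) (g : PowerSeries k) :
    constantCoeff (τ g) = constantCoeff g := by
  have hC : τ (C (constantCoeff g)) = C (constantCoeff g) := τ.commutes _
  conv_lhs => rw [eq_X_mul_shift_add_const g]
  rw [map_add, map_mul, hC, map_add, map_mul, constantCoeff_algHom_X, zero_mul, zero_add,
    constantCoeff_C]

/-- a `k`-algebra endomorphism of `k⟦X⟧` does not lower the order -/
theorem order_le_order_algHom (τ : PowerSeries k →ₐ[k] PowerSeries k) (x : PowerSeries k) :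
    x.order ≤ (τ x).order := by
  by_cases hx : x = 0
  · rw [hx, map_zero]
  · have h1 : (1 : ℕ∞) ≤ (τ X).order :=
      one_le_order_iff_constCoeff_eq_zero.mpr (constantCoeff_algHom_X τ)
    conv_rhs => rw [← X_pow_order_mul_divXPowOrder (f := x)]
    rw [map_mul, map_pow, order_mul, order_pow]
    calc x.order = x.order.toNat • (1 : ℕ∞) := by
          rw [nsmul_eq_mul, mul_one, coe_toNat_order hx]
      _ ≤ x.order.toNat • (τ X).order := nsmul_le_nsmul_right h1 _
      _ ≤ _ := le_self_add

/-- a `k`-algebra automorphism of `k⟦X⟧` preserves the order -/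
theorem order_algEquiv (τ : PowerSeries k ≃ₐ[k] PowerSeries k) (x : PowerSeries k) :
    (τ x).order = x.order := by
  apply le_antisymm
  · have := order_le_order_algHom (τ.symm : PowerSeries k →ₐ[k] PowerSeries k) (τ x)
    simpa using this
  · exact order_le_order_algHom (τ : PowerSeries k →ₐ[k] PowerSeries k) x

variable (σ : PowerSeries k ≃ₐ[k] PowerSeries k) (m : ℕ)

/-- `σ` is trivial modulo `X ^ (m+1)` -/
theorem X_pow_dvd_sub_of_order (hm : ((m + 1 : ℕ) : ℕ∞) ≤ (σ X - X).order) :
    ∀ n : ℕ, n ≤ m + 1 → ∀ g : PowerSeries k, X ^ n ∣ σ g - g := by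
  have hX : (X : PowerSeries k) ^ (m + 1) ∣ σ X - X := by
    rw [X_pow_dvd_iff]
    intro i hi
    apply coeff_of_lt_order
    exact lt_of_lt_of_le (by exact_mod_cast hi) hm
  intro n
  induction n with
  | zero => intro _ g; simp
  | succ n ih =>
    intro hn g
    have hC : σ (C (constantCoeff g)) = C (constantCoeff g) := σ.commutes _
    set g₁ : PowerSeries k := mk fun p => coeff (p + 1) g with hg₁
    have hg : g = X * g₁ + C (constantCoeff g) := eq_X_mul_shift_add_const g
    have h1 : σ g - g = (σ X - X) * σ g₁ + X * (σ g₁ - g₁) := by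
      conv_lhs => rw [hg]
      rw [map_add, map_mul, hC]
      ring
    rw [h1]
    apply dvd_add
    · exact Dvd.dvd.mul_right ((pow_dvd_pow X hn).trans hX) _
    · rw [pow_succ']
      exact mul_dvd_mul_left X (ih (by omega) g₁)

/-- the coefficient of `X` in `σ g` for `g` without constant term -/
theorem coeff_one_algEquiv (g : PowerSeries k) (hg : constantCoeff g = 0) :
    coeff 1 (σ g) = coeff 1 (σ X) * coeff 1 g := by
  obtain ⟨g₁, rfl⟩ := X_dvd_iff.mpr hg
  have h0 : coeff 0 (σ X) = 0 := by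
    rw [coeff_zero_eq_constantCoeff_apply]
    exact constantCoeff_algHom_X (σ : PowerSeries k →ₐ[k] PowerSeries k)
  have h1 : coeff 0 (σ g₁) = coeff 0 g₁ := by
    rw [coeff_zero_eq_constantCoeff_apply, coeff_zero_eq_constantCoeff_apply]
    exact constantCoeff_algHom (σ : PowerSeries k →ₐ[k] PowerSeries k) g₁
  rw [map_mul, coeff_mul, Finset.Nat.antidiagonal_succ, Finset.sum_cons]
  simp [h0, h1]

theorem coeff_one_pow_algEquiv (i : ℕ) :
    coeff 1 ((σ ^ i) X) = coeff 1 (σ X) ^ i := by
  induction i with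
  | zero => simp
  | succ i ih =>
    have h0 : constantCoeff ((σ ^ i) X) = 0 :=
      constantCoeff_algHom_X ((σ ^ i : PowerSeries k ≃ₐ[k] PowerSeries k) : PowerSeries k →ₐ[k] PowerSeries k)
    rw [pow_succ', AlgEquiv.mul_apply, coeff_one_algEquiv σ _ h0, ih, pow_succ']

/-- an automorphism of `p`-power order in characteristic `p` is trivial modulo `X ^ 2` -/
theorem coeff_one_algEquiv_X_eq_one (p : ℕ) [Fact p.Prime] [CharP k p] (hσp : σ ^ p = 1) :
    coeff 1 (σ X) = 1 := by
  have h1 := coeff_one_pow_algEquiv σ p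
  rw [hσp, AlgEquiv.one_apply, coeff_one_X] at h1
  have h2 : (coeff 1 (σ X) - 1) ^ p = 0 := by
    rw [sub_pow_char, ← h1, one_pow, sub_self]
  exact sub_eq_zero.mp (pow_eq_zero_iff (Fact.out : p.Prime).ne_zero |>.mp h2)

theorem one_le_of_order (p : ℕ) [Fact p.Prime] [CharP k p] (hσp : σ ^ p = 1)
    (hm : (σ X - X).order = ((m + 1 : ℕ) : ℕ∞)) : 1 ≤ m := by
  by_contra h
  have hm0 : m = 0 := by omega
  subst hm0
  have h1 : coeff 1 (σ X - X) ≠ 0 := by
    have := coeff_order (φ := σ X - X) (by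
      intro h0
      rw [h0, order_zero] at hm
      exact ENat.top_ne_natCast _ hm)
    rwa [hm] at this
  apply h1
  rw [map_sub, coeff_one_algEquiv_X_eq_one σ p hσp, coeff_one_X, sub_self]

/-- normal form of `σ X - X` -/
theorem exists_sub_X_eq (hm : (σ X - X).order = ((m + 1 : ℕ) : ℕ∞)) :
    ∃ (c : k) (u : PowerSeries k), c ≠ 0 ∧ σ X - X = X ^ (m + 1) * (C c + X * u) := by
  have hne : σ X - X ≠ 0 := by
    intro h0
    rw [h0, order_zero] at hm
    exact ENat.top_ne_natCast _ hm
  refine ⟨constantCoeff (divXPowOrder (σ X - X)),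
    mk fun p => coeff (p + 1) (divXPowOrder (σ X - X)), ?_, ?_⟩
  · rw [constantCoeff_divXPowOrder]
    exact coeff_order hne
  · conv_lhs => rw [← X_pow_order_mul_divXPowOrder (f := σ X - X)]
    rw [hm, ENat.toNat_natCast, add_comm (C _)]
    congr 1
    exact eq_X_mul_shift_add_const _

/-- normal form of `σ (X ^ j) - X ^ j` -/
theorem exists_sub_X_pow_eq (m' : ℕ) (c : k) (u : PowerSeries k)
    (hX : σ X - X = X ^ (m' + 1 + 1) * (C c + X * u)) (j : ℕ) :
    ∃ w : PowerSeries k,
      σ (X ^ j) - X ^ j = X ^ (j + (m' + 1)) * (C ((j : k) * c) + X * w) := by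
  induction j with
  | zero => exact ⟨0, by simp⟩
  | succ j ih =>
    obtain ⟨w, hw⟩ := ih
    refine ⟨w + (C ((j : k) * c) + X * w) * X ^ m' * (C c + X * u) + u, ?_⟩
    rw [pow_succ, map_mul, Nat.cast_succ, add_mul, one_mul, map_add]
    linear_combination (σ X) * hw + X ^ j * hX +
      (X ^ (j + (m' + 1)) * (C ((j : k) * c) + X * w)) * hX

/-- the ramification break: `ord (σ y - y) = ord y + m` when `p ∤ ord y` -/
theorem order_sub_eq (p : ℕ) [Fact p.Prime] [CharP k p] (hσp : σ ^ p = 1)
    (hm : (σ X - X).order = ((m + 1 : ℕ) : ℕ∞)) (y : PowerSeries k) (j : ℕ)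
    (hy : y.order = (j : ℕ∞)) (hj : ¬ p ∣ j) :
    (σ y - y).order = ((j + m : ℕ) : ℕ∞) := by
  obtain ⟨m', rfl⟩ : ∃ m', m = m' + 1 :=
    Nat.exists_eq_succ_of_ne_zero (by have := one_le_of_order σ m p hσp hm; omega)
  obtain ⟨c, u, hc, hX⟩ := exists_sub_X_eq σ _ hm
  obtain ⟨w, hw⟩ := exists_sub_X_pow_eq σ m' c u hX j
  have hyne : y ≠ 0 := by
    intro h0
    rw [h0, order_zero] at hy
    exact ENat.top_ne_natCast _ hy
  obtain ⟨g, hg0, hyg⟩ : ∃ g : PowerSeries k, constantCoeff g ≠ 0 ∧ y = X ^ j * g := by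
    refine ⟨divXPowOrder y, ?_, ?_⟩
    · rw [constantCoeff_divXPowOrder]
      exact coeff_order hyne
    · conv_lhs => rw [← X_pow_order_mul_divXPowOrder (f := y)]
      rw [hy, ENat.toNat_natCast]
  obtain ⟨w₂, hw₂⟩ := X_pow_dvd_sub_of_order σ (m' + 1) hm.ge (m' + 1 + 1) le_rfl g
  have key : σ y - y =
      X ^ (j + (m' + 1)) * ((C ((j : k) * c) + X * w) * σ g + X * w₂) := by
    rw [hyg, map_mul]
    linear_combination (σ g) * hw + X ^ j * hw₂
  have hjk : (j : k) ≠ 0 := by
    intro h0
    exact hj ((CharP.cast_eq_zero_iff k p j).mp h0)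
  have hunit : ((C ((j : k) * c) + X * w) * σ g + X * w₂).order = 0 := by
    apply le_antisymm _ zero_le
    have hσg : constantCoeff (σ g) = constantCoeff g :=
      constantCoeff_algHom (σ : PowerSeries k →ₐ[k] PowerSeries k) g
    have h0 : coeff 0 ((C ((j : k) * c) + X * w) * σ g + X * w₂) ≠ 0 := by
      have h1 : constantCoeff ((C ((j : k) * c) + X * w) * σ g + X * w₂) =
          (j : k) * c * constantCoeff g := by
        simp [hσg]
      rw [coeff_zero_eq_constantCoeff_apply, h1]
      exact mul_ne_zero (mul_ne_zero hjk hc) hg0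
    exact_mod_cast order_le 0 h0
  rw [key, order_mul, order_X_pow, hunit, add_zero]

theorem toLinearMap_pow_apply (i : ℕ) (y : PowerSeries k) :
    ((σ.toLinearMap : Module.End k (PowerSeries k)) ^ i) y = (σ ^ i) y := by
  induction i generalizing y with
  | zero => simp
  | succ i ih =>
    rw [pow_succ', pow_succ', Module.End.mul_apply, AlgEquiv.mul_apply, ih]
    rfl

/-- `D = σ - 1` satisfies `D ^ p = 0` in characteristic `p` when `σ ^ p = 1` -/
theorem iterate_sub_eq_zero (p : ℕ) [Fact p.Prime] [CharP k p] (hσp : σ ^ p = 1)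
    (g : PowerSeries k) : (fun y => σ y - y)^[p] g = 0 := by
  haveI : CharP (Module.End k (PowerSeries k)) p :=
    charP_of_injective_algebraMap (algebraMap k (Module.End k (PowerSeries k))).injective p
  have h0 : (σ.toLinearMap : Module.End k (PowerSeries k)) ^ p = 1 := by
    apply LinearMap.ext
    intro y
    rw [toLinearMap_pow_apply, hσp]
    rfl
  have h1 : ((σ.toLinearMap : Module.End k (PowerSeries k)) - 1) ^ p = 0 := by
    rw [sub_pow_char_of_commute _ (Commute.one_right _), one_pow, h0, sub_self]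
  have h2 : (fun y => σ y - y) = ⇑((σ.toLinearMap : Module.End k (PowerSeries k)) - 1) := by
    funext y
    simp
  rw [h2, ← Module.End.pow_apply, h1]
  rfl

/-- orders of the iterates `D^i (X^(p-1))` when `p ∣ m + 1` -/
theorem order_iterate_sub (p' : ℕ) [Fact (p' + 2).Prime] [CharP k (p' + 2)]
    (hσp : σ ^ (p' + 2) = 1) (hm : (σ X - X).order = ((m + 1 : ℕ) : ℕ∞))
    (hdiv : (p' + 2) ∣ m + 1) (i : ℕ) (hi : i ≤ p') :
    ((fun y => σ y - y)^[i] (X ^ (p' + 1))).order = ((p' + 1 + i * m : ℕ) : ℕ∞) := by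
  induction i with
  | zero => simp [order_X_pow]
  | succ i ih =>
    have ih' := ih (by omega)
    rw [Function.iterate_succ_apply']
    have hnd : ¬ (p' + 2) ∣ p' + 1 + i * m := by
      intro hdvd
      have h1 : (p' + 2) ∣ p' + 1 + i * m + (i + 1) := by
        obtain ⟨n, hn⟩ := hdiv
        refine ⟨1 + i * n, ?_⟩
        have : p' + 1 + i * m + (i + 1) = p' + 2 + i * (m + 1) := by ring
        rw [this, hn]
        ring
      have h2 : (p' + 2) ∣ i + 1 := (Nat.dvd_add_right hdvd).mp h1
      have := Nat.le_of_dvd (by omega) h2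
      omega
    rw [order_sub_eq σ m (p' + 2) hσp hm _ _ ih' hnd]
    congr 1
    ring

/-- the norm of `X` is `σ`-invariant -/
theorem norm_X_fixed (p : ℕ) (hσp : σ ^ p = 1) :
    σ (∏ i ∈ Finset.range p, (σ ^ i) X) = ∏ i ∈ Finset.range p, (σ ^ i) X := by
  have hX : (X : PowerSeries k) ≠ 0 := X_ne_zero
  apply mul_right_cancel₀ hX
  have h1 : σ (∏ i ∈ Finset.range p, (σ ^ i) X) = ∏ i ∈ Finset.range p, (σ ^ (i + 1)) X := by
    rw [map_prod]
    refine Finset.prod_congr rfl fun i _ => ?_
    rw [pow_succ', AlgEquiv.mul_apply]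
  have h2 := Finset.prod_range_succ' (fun i => (σ ^ i) (X : PowerSeries k)) p
  have h3 := Finset.prod_range_succ (fun i => (σ ^ i) (X : PowerSeries k)) p
  rw [h1]
  have h4 : (σ ^ p) (X : PowerSeries k) = X := by rw [hσp]; rfl
  have h5 : (σ ^ 0) (X : PowerSeries k) = X := by rw [pow_zero]; rfl
  rw [h4] at h3
  rw [h5] at h2
  rw [← h2, h3]

/-- the norm of `X` has order `p` -/
theorem order_norm_X (p : ℕ) :
    (∏ i ∈ Finset.range p, (σ ^ i) (X : PowerSeries k)).order = (p : ℕ∞) := by
  rw [order_prod]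
  have : ∀ i ∈ Finset.range p, ((σ ^ i) (X : PowerSeries k)).order = 1 := by
    intro i _
    rw [order_algEquiv, order_X]
  rw [Finset.sum_congr rfl this, Finset.sum_const, Finset.card_range, nsmul_eq_mul, mul_one]

end PSAut

end Groth.Agent.Lib.Helper99
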