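import Mathlib

/-!
# `n`-th roots in `k⟦X⟧` and the substitution `X ↦ X·u` with `u^n (1 + X^n) = 1` (helper99)
-/

set_option autoImplicit false

namespace Groth.Agent.Lib.Helper99.PSRoot

open PowerSeries

variable {k : Type*} [Field k]

/-- uniqueness of `n`-th roots with constant coefficient `1` when `n` is invertible -/
theorem eq_of_pow_eq (n : ℕ) (hnk : (n : k) ≠ 0) (x y : PowerSeries k)
    (hx : constantCoeff x = 1) (hy : constantCoeff y = 1) (h : x ^ n = y ^ n) : x = y := by
  have h1 := (Commute.all x y).mul_geom_sum₂ n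
  rw [h, sub_self] at h1
  have hunit : IsUnit (∑ i ∈ Finset.range n, x ^ i * y ^ (n - 1 - i)) := by
    rw [isUnit_iff_constantCoeff, map_sum]
    have : ∀ i ∈ Finset.range n, constantCoeff (x ^ i * y ^ (n - 1 - i)) = (1 : k) := by
      intro i _
      rw [map_mul, map_pow, map_pow, hx, hy, one_pow, one_pow, one_mul]
    rw [Finset.sum_congr rfl this, Finset.sum_const, Finset.card_range, nsmul_eq_mul, mul_one]
    exact isUnit_iff_ne_zero.mpr hnk
  have := hunit.mul_left_eq_zero.mp h1
  exact sub_eq_zero.mp this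

/-- an algebra endomorphism which is trivial on `X` modulo `X^(m+1)` is trivial modulo `X^(m+1)` -/
theorem X_pow_dvd_algHom_sub (τ : PowerSeries k →ₐ[k] PowerSeries k) (m : ℕ)
    (hX : (X : PowerSeries k) ^ (m + 1) ∣ τ X - X) :
    ∀ n : ℕ, n ≤ m + 1 → ∀ g : PowerSeries k, X ^ n ∣ τ g - g := by
  intro n
  induction n with
  | zero => intro _ g; simp
  | succ n ih =>
    intro hn g
    have hC : τ (C (constantCoeff g)) = C (constantCoeff g) := τ.commutes _
    set g₁ : PowerSeries k := mk fun p => coeff (p + 1) g with hg₁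
    have hg : g = X * g₁ + C (constantCoeff g) := eq_X_mul_shift_add_const g
    have h1 : τ g - g = (τ X - X) * τ g₁ + X * (τ g₁ - g₁) := by
      conv_lhs => rw [hg]
      rw [map_add, map_mul, hC]
      ring
    rw [h1]
    apply dvd_add
    · exact Dvd.dvd.mul_right ((pow_dvd_pow X hn).trans hX) _
    · rw [pow_succ']
      exact mul_dvd_mul_left X (ih (by omega) g₁)

/-- integer powers of a unit congruent to `1` modulo `X^n` -/
theorem zpow_eq_one_add (n : ℕ) (hn : 0 < n) (U : (PowerSeries k)ˣ) (g : PowerSeries k)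
    (hU : (U : PowerSeries k) = 1 + X ^ n * g) (i : ℤ) :
    ∃ gi : PowerSeries k, ((U ^ i : (PowerSeries k)ˣ) : PowerSeries k) = 1 + X ^ n * gi ∧
      constantCoeff gi = (i : k) * constantCoeff g := by
  have hXn : constantCoeff ((X : PowerSeries k) ^ n) = 0 := by
    rw [map_pow, constantCoeff_X, zero_pow hn.ne']
  have hnat : ∀ j : ℕ, ∃ gj : PowerSeries k,
      ((U ^ j : (PowerSeries k)ˣ) : PowerSeries k) = 1 + X ^ n * gj ∧
      constantCoeff gj = (j : k) * constantCoeff g := by
    intro j
    induction j with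
    | zero => exact ⟨0, by simp, by simp⟩
    | succ j ih =>
      obtain ⟨gj, h1, h2⟩ := ih
      refine ⟨gj + g + X ^ n * gj * g, ?_, ?_⟩
      · rw [pow_succ, Units.val_mul, h1, hU]; ring
      · rw [map_add, map_add, map_mul, map_mul, hXn, h2]
        push_cast
        ring
  rcases Int.eq_nat_or_neg i with ⟨j, rfl | rfl⟩
  · obtain ⟨gj, h1, h2⟩ := hnat j
    exact ⟨gj, by rw [zpow_natCast]; exact h1, by rw [h2]; push_cast; ring⟩
  · obtain ⟨gj, h1, h2⟩ := hnat j
    set b : PowerSeries k := ((U ^ (-(j : ℤ)) : (PowerSeries k)ˣ) : PowerSeries k) with hb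
    have hmul : b * (1 + X ^ n * gj) = 1 := by
      rw [hb, ← h1, ← Units.val_mul, zpow_neg, zpow_natCast, inv_mul_cancel, Units.val_one]
    have hb0 : constantCoeff b = 1 := by
      have := congrArg constantCoeff hmul
      rw [map_mul, map_add, map_mul, hXn, zero_mul, add_zero, map_one, mul_one] at this
      exact this
    refine ⟨-(gj * b), ?_, ?_⟩
    · have : b = 1 - b * (X ^ n * gj) := by
        rw [mul_add, mul_one] at hmul
        rw [← hmul]; ring
      calc b = 1 - b * (X ^ n * gj) := this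
        _ = 1 + X ^ n * (-(gj * b)) := by ring
    · rw [map_neg, map_mul, hb0, h2]
      push_cast
      ring

section sigma

variable (n : ℕ) (hn : 0 < n) (hnk : (n : k) ≠ 0) (u : PowerSeries k)
  (hu1 : constantCoeff u = 1) (hun : u ^ n * (1 + X ^ n) = 1)

include hn hnk hu1 hun in
theorem exists_eq_one_add :
    ∃ g : PowerSeries k, u = 1 + X ^ n * g ∧ constantCoeff g * (n : k) = -1 := by
  set s : PowerSeries k := ∑ i ∈ Finset.range n, u ^ i with hs
  have hs0 : constantCoeff s = (n : k) := by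
    rw [hs, map_sum]
    have : ∀ i ∈ Finset.range n, constantCoeff (u ^ i) = (1 : k) := by
      intro i _
      rw [map_pow, hu1, one_pow]
    rw [Finset.sum_congr rfl this, Finset.sum_const, Finset.card_range, nsmul_eq_mul, mul_one]
  have hsne : constantCoeff s ≠ 0 := by rw [hs0]; exact hnk
  have h1 : (u - 1) * s = u ^ n - 1 := mul_geom_sum u n
  have h2 : u ^ n - 1 = -(X ^ n * u ^ n) := by
    have : u ^ n - 1 = u ^ n - u ^ n * (1 + X ^ n) := by rw [hun]
    rw [this]; ring
  refine ⟨-(u ^ n * s⁻¹), ?_, ?_⟩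
  · have h3 : (u - 1) = -(X ^ n * u ^ n) * s⁻¹ := by
      rw [← h2, ← h1, mul_assoc, PowerSeries.mul_inv_cancel _ hsne, mul_one]
    calc u = 1 + (u - 1) := by ring
      _ = 1 + -(X ^ n * u ^ n) * s⁻¹ := by rw [← h3]
      _ = 1 + X ^ n * -(u ^ n * s⁻¹) := by ring
  · rw [map_neg, map_mul, map_pow, hu1, one_pow, one_mul, constantCoeff_inv, hs0, neg_mul,
      inv_mul_cancel₀ hnk]

include hn hnk hu1 hun in
theorem X_pow_dvd_subst_sub (f : PowerSeries k) :
    (X : PowerSeries k) ^ (n + 1) ∣ subst (X * u : PowerSeries k) f - f := by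
  have hs : HasSubst (X * u) := HasSubst.of_constantCoeff_zero' (by
    rw [map_mul, constantCoeff_X, zero_mul])
  obtain ⟨g, hg, _⟩ := exists_eq_one_add n hn hnk u hu1 hun
  have hX : (X : PowerSeries k) ^ (n + 1) ∣ substAlgHom (R := k) hs X - X := by
    rw [coe_substAlgHom, subst_X hs]
    refine ⟨g, ?_⟩
    conv_lhs => rw [hg]
    ring
  have := X_pow_dvd_algHom_sub (substAlgHom (R := k) hs) n hX (n + 1) le_rfl f
  rwa [coe_substAlgHom] at this

include hn hnk hu1 hun in
theorem coeff_subst_of_le (f : PowerSeries k) (j : ℕ) (hj : j ≤ n) :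
    coeff j (subst (X * u : PowerSeries k) f) = coeff j f := by
  have h := X_pow_dvd_subst_sub n hn hnk u hu1 hun f
  rw [X_pow_dvd_iff] at h
  have := h j (by omega)
  rw [map_sub, sub_eq_zero] at this
  exact this

end sigma

end Groth.Agent.Lib.Helper99.PSRoot
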