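import Mathlib
import Groth.Agent.Lib.Helper99.PSAut
import Groth.Agent.Lib.Helper99.PSRoot

/-!
# More on the substitution `X ↦ X·u`, `u^n (1 + X^n) = 1`, in characteristic `p` (helper99)
-/

set_option autoImplicit false

namespace Groth.Agent.Lib.Helper99.PSRoot

open PowerSeries

variable {k : Type*} [Field k]

/-- From an `n`-th root `u` of `(1 + X^n)⁻¹` and `ζ` with `ζ^n = -1`, an `n`-th root of
`(1 - X^(n q))⁻¹`. -/
theorem exists_root_v (n q : ℕ) (hq : 0 < q) (u : PowerSeries k)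
    (hu1 : constantCoeff u = 1) (hun : u ^ n * (1 + X ^ n) = 1) (ζ : k) (hζ : ζ ^ n = -1) :
    ∃ v : PowerSeries k, constantCoeff v = 1 ∧ v ^ n * (1 - X ^ (n * q)) = 1 := by
  have hb0 : constantCoeff (C ζ * X ^ q : PowerSeries k) = 0 := by
    rw [map_mul, map_pow, constantCoeff_X, zero_pow hq.ne', mul_zero]
  have hb : HasSubst (C ζ * X ^ q : PowerSeries k) := HasSubst.of_constantCoeff_zero' hb0
  set ψ := substAlgHom (R := k) hb with hψ
  have hψX : ψ X = C ζ * X ^ q := by
    rw [hψ, coe_substAlgHom, subst_X hb]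
  refine ⟨ψ u, ?_, ?_⟩
  · rw [Groth.Agent.Lib.Helper99.constantCoeff_algHom ψ u, hu1]
  · have h1 := congrArg ψ hun
    rw [map_mul, map_pow, map_add, map_one, map_pow, hψX] at h1
    have h2 : (C ζ * X ^ q : PowerSeries k) ^ n = -X ^ (n * q) := by
      rw [mul_pow, ← map_pow, hζ, ← pow_mul, map_neg, map_one, neg_one_mul, mul_comm q n]
    rw [h2] at h1
    rw [sub_eq_add_neg]
    exact h1

/-- the key identity `u^p · v(X u) = v` -/
theorem key_identity (p n : ℕ) [Fact p.Prime] [CharP k p] (hn : 0 < n) (hnk : (n : k) ≠ 0)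
    (u v : PowerSeries k) (hu1 : constantCoeff u = 1) (hun : u ^ n * (1 + X ^ n) = 1)
    (hv1 : constantCoeff v = 1) (hvn : v ^ n * (1 - X ^ (n * (p - 1))) = 1) :
    u ^ p * subst (X * u : PowerSeries k) v = v := by
  have : CharP (PowerSeries k) p :=
    charP_of_injective_algebraMap (algebraMap k (PowerSeries k)).injective p
  have hs : HasSubst (X * u : PowerSeries k) := HasSubst.of_constantCoeff_zero' (by
    rw [map_mul, constantCoeff_X, zero_mul])
  set τ := substAlgHom (R := k) hs with hτdef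
  have hτ : ∀ f, τ f = subst (X * u : PowerSeries k) f := by
    intro f
    rw [hτdef, coe_substAlgHom]
  have hτX : τ X = X * u := by rw [hτ, subst_X hs]
  rw [← hτ]
  obtain ⟨q, hq⟩ : ∃ q, p = q + 1 := ⟨p - 1, (Nat.succ_pred_eq_of_pos (Fact.out : p.Prime).pos).symm⟩
  have hq' : p - 1 = q := by omega
  rw [hq'] at hvn
  apply eq_of_pow_eq n hnk
  · rw [map_mul, map_pow, hu1, one_pow, one_mul,
      Groth.Agent.Lib.Helper99.constantCoeff_algHom τ v, hv1]
  · exact hv1
  · set T : PowerSeries k := X ^ n with hT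
    set A : PowerSeries k := u ^ n with hA
    set Bv : PowerSeries k := (τ v) ^ n with hBv
    have e1 : A * (1 + T) = 1 := hun
    have e2 : A ^ p * (1 + T ^ p) = 1 := by
      have := congrArg (· ^ p) e1
      simp only [one_pow, mul_pow] at this
      rw [add_pow_char, one_pow] at this
      exact this
    have e3 : Bv * (1 - (T * A) ^ q) = 1 := by
      have h1 := congrArg τ hvn
      rw [map_mul, map_pow, map_sub, map_one, map_pow, hτX] at h1
      rw [hBv]
      have : (X * u : PowerSeries k) ^ (n * q) = (T * A) ^ q := by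
        rw [pow_mul, mul_pow]
      rw [this] at h1
      exact h1
    have e4 : v ^ n * (1 - T ^ q) = 1 := by
      rw [hT, ← pow_mul]; exact hvn
    have e5 : A ^ p * (1 - T ^ q) = 1 - (T * A) ^ q := by
      have h1 : A ^ p * (1 - T ^ q) = A ^ p * (1 + T ^ p) - A ^ q * T ^ q * (A * (1 + T)) := by
        rw [hq]; ring
      rw [h1, e1, e2]; ring
    have e6 : A ^ p * Bv * (1 - T ^ q) = 1 := by
      calc A ^ p * Bv * (1 - T ^ q) = Bv * (A ^ p * (1 - T ^ q)) := by ring
        _ = 1 := by rw [e5, e3]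
    have e7 : (u ^ p * τ v) ^ n = A ^ p * Bv := by
      rw [mul_pow, ← pow_mul, mul_comm p n, pow_mul]
    rw [e7]
    calc A ^ p * Bv = A ^ p * Bv * (v ^ n * (1 - T ^ q)) := by rw [e4, mul_one]
      _ = v ^ n * (A ^ p * Bv * (1 - T ^ q)) := by ring
      _ = v ^ n := by rw [e6, mul_one]

end Groth.Agent.Lib.Helper99.PSRoot

namespace Groth.Agent.Lib.Helper99.PSRoot

open PowerSeries

variable {k : Type*} [Field k]

/-- if `v^n (1 + y) = 1` with `X^N ∣ y`, `v(0) = 1` and `n` invertible then `X^N ∣ v - 1` -/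
theorem X_pow_dvd_sub_one (n N : ℕ) (hnk : (n : k) ≠ 0) (v y : PowerSeries k)
    (hv1 : constantCoeff v = 1) (hvn : v ^ n * (1 + y) = 1) (hy : (X : PowerSeries k) ^ N ∣ y) :
    (X : PowerSeries k) ^ N ∣ v - 1 := by
  set s : PowerSeries k := ∑ i ∈ Finset.range n, v ^ i with hs
  have hs0 : constantCoeff s = (n : k) := by
    rw [hs, map_sum]
    have : ∀ i ∈ Finset.range n, constantCoeff (v ^ i) = (1 : k) := by
      intro i _
      rw [map_pow, hv1, one_pow]
    rw [Finset.sum_congr rfl this, Finset.sum_const, Finset.card_range, nsmul_eq_mul, mul_one]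
  have hsne : constantCoeff s ≠ 0 := by rw [hs0]; exact hnk
  have h1 : (v - 1) * s = v ^ n - 1 := mul_geom_sum v n
  have h2 : v ^ n - 1 = -(y * v ^ n) := by
    have : v ^ n - 1 = v ^ n - v ^ n * (1 + y) := by rw [hvn]
    rw [this]; ring
  have h3 : (v - 1) = -(y * v ^ n) * s⁻¹ := by
    rw [← h2, ← h1, mul_assoc, PowerSeries.mul_inv_cancel _ hsne, mul_one]
  rw [h3]
  obtain ⟨y', rfl⟩ := hy
  exact ⟨-(y' * v ^ n * s⁻¹), by ring⟩

end Groth.Agent.Lib.Helper99.PSRoot
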