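import Mathlib
import Groth.Prelude.Def_W4c2azumayainvolQEt
import Groth.Agent.Lib.Helper79.RInvJac

/-!
# Hermitian forms over a ring with involution whose fixed ring is local

Orthogonal families of vectors for the sesquilinear form `(x, y) ↦ (lam x)ᵀ h y`
(helper99; the two rank lemmas `mem_of_mulVec_mem`, `false_of_span_mod` are taken from helper1's
`AzInv/Gram.lean`).
-/

set_option autoImplicit false
set_option linter.unusedSectionVars false
set_option linter.unusedSimpArgs false
set_option linter.style.haveILetI false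
universe u v

namespace Groth.Agent.Lib.Helper99.HermFamily

open Matrix Groth.Agent.Lib.Helper79.RInvLib

section Rank

variable {K : Type*} [CommRing K] {ι : Type*} [Fintype ι] [DecidableEq ι]

/-- nondegeneracy modulo a prime -/
theorem mem_of_mulVec_mem (q : Ideal K) [q.IsPrime] (u : Matrix ι ι K) (hdet : u.det ∉ q)
    (z : ι → K) (h : ∀ l, (u *ᵥ z) l ∈ q) (l : ι) : z l ∈ q := by
  have h1 : (u.adjugate * u) *ᵥ z = u.det • z := by
    rw [Matrix.adjugate_mul, Matrix.smul_mulVec, Matrix.one_mulVec]
  have h2 : (u.adjugate *ᵥ (u *ᵥ z)) l ∈ q := by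
    rw [Matrix.mulVec, dotProduct]
    exact Ideal.sum_mem _ fun a _ => q.mul_mem_left _ (h a)
  rw [Matrix.mulVec_mulVec, h1, Pi.smul_apply, smul_eq_mul] at h2
  exact (Ideal.IsPrime.mem_or_mem ‹_› h2).resolve_left hdet

/-- modulo a prime, the standard free module of rank `card ι` is not spanned by fewer vectors -/
theorem false_of_span_mod {κ : Type*} [Fintype κ] (q : Ideal K) [q.IsPrime]
    (V : κ → ι → K) (c : κ → (ι → K) → K)
    (h : ∀ (x : ι → K) (l : ι), x l - ∑ i, c i x * V i l ∈ q)
    (hcard : Fintype.card κ < Fintype.card ι) : False := by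
  classical
  let F := q.ResidueField
  let ψ : K →+* F := algebraMap K F
  have hψ : ∀ x, x ∈ q → ψ x = 0 := fun x hx => Ideal.algebraMap_residueField_eq_zero.2 hx
  let A : Matrix ι κ F := Matrix.of fun m i => ψ (c i (Pi.single m 1))
  let Bm : Matrix κ ι F := Matrix.of fun i l => ψ (V i l)
  have hAB : A * Bm = 1 := by
    ext m l
    rw [Matrix.mul_apply]
    have := hψ _ (h (Pi.single m 1) l)
    rw [map_sub, map_sum, sub_eq_zero] at this
    simp only [A, Bm, Matrix.of_apply]
    rw [Matrix.one_apply]
    rw [← this.trans (Finset.sum_congr rfl fun i _ => map_mul ψ _ _)]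
    by_cases hml : m = l
    · subst hml; simp
    · simp [hml, Pi.single_apply, Ne.symm hml]
  have h1 : (A * Bm).rank ≤ Fintype.card κ :=
    (Matrix.rank_mul_le_left A Bm).trans (Matrix.rank_le_card_width A)
  rw [hAB, Matrix.rank_one] at h1
  omega

/-- an alternating matrix of odd size has determinant zero -/
theorem det_eq_zero_of_alt (M : Matrix ι ι K) (hskew : ∀ i j, M j i = - M i j)
    (hdiag : ∀ i, M i i = 0) (hodd : Odd (Fintype.card ι)) : M.det = 0 := by
  rw [Matrix.det_apply]
  refine Finset.sum_involution (fun σ _ => σ⁻¹) ?_ ?_ (fun _ _ => Finset.mem_univ _)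
    (fun σ _ => inv_inv σ)
  · intro σ _
    have e : ∏ i, M (σ⁻¹ i) i = ∏ i, M i (σ i) :=
      (Equiv.prod_comp σ (fun i => M (σ⁻¹ i) i)).symm.trans
        (Finset.prod_congr rfl fun i _ => by simp)
    have e2 : ∏ i, M i (σ i) = - ∏ i, M (σ i) i := by
      have : ∀ i, M i (σ i) = - M (σ i) i := fun i => hskew (σ i) i
      simp_rw [this]
      rw [Finset.prod_neg, Finset.card_univ, hodd.neg_one_pow, neg_one_mul]
    rw [Equiv.Perm.sign_inv, e, e2, smul_neg, add_neg_cancel]
  · intro σ _ hne heq
    apply hne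
    have h2 : σ ^ 2 = 1 := by
      rw [pow_two]
      calc σ * σ = σ⁻¹ * σ := by rw [heq]
        _ = 1 := inv_mul_cancel σ
    have hdvd := Equiv.Perm.two_dvd_card_support h2
    have hne' : σ.support ≠ Finset.univ := by
      intro hs
      rw [hs, Finset.card_univ] at hdvd
      exact (Nat.not_even_iff_odd.2 hodd) (even_iff_two_dvd.2 hdvd)
    obtain ⟨i, hi⟩ : ∃ i, i ∉ σ.support := by
      by_contra hc
      push Not at hc
      exact hne' (Finset.eq_univ_iff_forall.2 hc)
    rw [Equiv.Perm.notMem_support] at hi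
    have : ∏ j, M (σ j) j = 0 :=
      Finset.prod_eq_zero (Finset.mem_univ i) (by rw [hi]; exact hdiag i)
    rw [this, smul_zero]

end Rank

section Form

variable {A : Type*} [CommRing A] (lam : A ≃+* A) {ι : Type*} [Fintype ι] [DecidableEq ι]

/-- the sesquilinear form `(x, y) ↦ (lam x)ᵀ h y` -/
def H (h : Matrix ι ι A) (x y : ι → A) : A := (fun i => lam (x i)) ⬝ᵥ (h *ᵥ y)

variable (h : Matrix ι ι A)

theorem H_add_left (x x' y : ι → A) : H lam h (x + x') y = H lam h x y + H lam h x' y := by
  simp only [H, dotProduct, Pi.add_apply, map_add, add_mul, Finset.sum_add_distrib]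

theorem H_sub_left (x x' y : ι → A) : H lam h (x - x') y = H lam h x y - H lam h x' y := by
  simp only [H, dotProduct, Pi.sub_apply, map_sub, sub_mul, Finset.sum_sub_distrib]

theorem H_add_right (x y y' : ι → A) : H lam h x (y + y') = H lam h x y + H lam h x y' := by
  simp only [H, mulVec_add, dotProduct_add]

theorem H_sub_right (x y y' : ι → A) : H lam h x (y - y') = H lam h x y - H lam h x y' := by
  simp only [H, mulVec_sub, dotProduct_sub]

theorem H_smul_left (c : A) (x y : ι → A) : H lam h (c • x) y = lam c * H lam h x y := by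
  simp only [H, dotProduct, Pi.smul_apply, smul_eq_mul, map_mul, Finset.mul_sum, mul_assoc]

theorem H_smul_right (c : A) (x y : ι → A) : H lam h x (c • y) = c * H lam h x y := by
  simp only [H, mulVec_smul, dotProduct_smul, smul_eq_mul]

theorem H_zero_left (y : ι → A) : H lam h 0 y = 0 := by
  simp [H]

theorem H_zero_right (x : ι → A) : H lam h x 0 = 0 := by
  simp [H]

theorem H_sum_right {κ : Type*} (s : Finset κ) (x : ι → A) (y : κ → ι → A) :
    H lam h x (∑ i ∈ s, y i) = ∑ i ∈ s, H lam h x (y i) :=
  map_sum (AddMonoidHom.mk' (H lam h x) (H_add_right lam h x)) y s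

theorem H_sum_left {κ : Type*} (s : Finset κ) (x : κ → ι → A) (y : ι → A) :
    H lam h (∑ i ∈ s, x i) y = ∑ i ∈ s, H lam h (x i) y :=
  map_sum (AddMonoidHom.mk' (fun x => H lam h x y) (fun x x' => H_add_left lam h x x' y)) x s

theorem H_single_left (l : ι) (z : ι → A) : H lam h (Pi.single l 1) z = (h *ᵥ z) l := by
  have : (fun i => lam ((Pi.single l 1 : ι → A) i)) = Pi.single l 1 := by
    funext i
    by_cases hi : i = l
    · subst hi; simp
    · simp [Pi.single_apply, hi]
  rw [H, this, single_one_dotProduct]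

theorem H_single_single (l l' : ι) : H lam h (Pi.single l 1) (Pi.single l' 1) = h l l' := by
  rw [H_single_left, mulVec_single_one, col_apply]

/-- hermitian symmetry -/
theorem H_symm (hlam : Function.Involutive lam) {ε : A}
    (herm : ε • (h.map lam).transpose = h) (x y : ι → A) :
    H lam h y x = ε * lam (H lam h x y) := by
  have e : ∀ i j, h j i = ε * lam (h i j) := by
    intro i j
    conv_lhs => rw [← herm]
    simp [Matrix.smul_apply, Matrix.transpose_apply, Matrix.map_apply]
  simp only [H, dotProduct, mulVec, map_sum, map_mul, Finset.mul_sum]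
  rw [Finset.sum_comm]
  refine Finset.sum_congr rfl fun i _ => Finset.sum_congr rfl fun j _ => ?_
  rw [e i j, hlam (x i)]
  ring

theorem gram_apply {κ : Type*} (v : Matrix ι κ A) (p q : κ) :
    ((v.map lam).transpose * h * v) p q = H lam h (fun i => v i p) (fun i => v i q) := by
  rw [Matrix.mul_assoc, Matrix.mul_apply]
  rfl

theorem isUnit_of_gram_eq_diagonal (v : Matrix ι ι A) (d : ι → A) (hd : ∀ i, IsUnit (d i))
    (hv : (v.map lam).transpose * h * v = Matrix.diagonal d) : IsUnit v := by
  rw [Matrix.isUnit_iff_isUnit_det]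
  have h1 : IsUnit ((v.map lam).transpose * h * v).det := by
    rw [hv, Matrix.det_diagonal]
    exact IsUnit.prod_univ_iff.2 hd
  rw [Matrix.det_mul] at h1
  exact isUnit_of_mul_isUnit_right h1

end Form

section Ring

variable {B : Type u} {A : Type v} [CommRing B] [CommRing A] [Algebra B A] (lam : A ≃+* A)

theorem isUnit_add_of_mem_jacobson {a j : A} (ha : IsUnit a) (hj : j ∈ Ring.jacobson A) :
    IsUnit (a + j) := by
  obtain ⟨u, rfl⟩ := ha
  rw [← Ideal.jacobson_bot, Ideal.mem_jacobson_bot] at hj
  have h1 := hj (↑u⁻¹)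
  have h3 : (u : A) * ↑u⁻¹ = 1 := Units.mul_inv u
  have h2 : (u : A) + j = u * (j * ↑u⁻¹ + 1) := by
    linear_combination (-j) * h3
  rw [h2]
  exact u.isUnit.mul h1

theorem notMem_jacobson_of_isUnit [Nontrivial A] {a : A} (ha : IsUnit a) :
    a ∉ Ring.jacobson A := by
  intro hj
  obtain ⟨M, hM⟩ := Ideal.exists_maximal A
  haveI := hM
  exact hM.ne_top (Ideal.eq_top_of_isUnit_mem _ (Ring.jacobson_le_of_isMaximal M hj) ha)

/-- either `A` is local, or there is a maximal ideal `q` not stable under `lam`, with an element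
`e ≡ 1 mod q`, `e ≡ 0 mod lam⁻¹ q`. -/
theorem local_or_swap [IsLocalRing B] (hlam : Function.Involutive lam)
    (hB : RInv.IsFixedRing B A lam) :
    IsLocalRing A ∨ ∃ q : Ideal A, q.IsMaximal ∧ ∃ e : A, 1 - e ∈ q ∧ lam e ∈ q := by
  haveI : Nontrivial A := hB.1.nontrivial
  by_cases hstab : ∀ q : Ideal A, q.IsMaximal → ∀ c ∈ q, lam c ∈ q
  · left
    obtain ⟨q₀, hq₀⟩ := Ideal.exists_maximal A
    refine IsLocalRing.of_unique_max_ideal ⟨q₀, hq₀, fun q' hq' => ?_⟩
    have hle : q' ≤ q₀ := by
      intro c hc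
      obtain ⟨b, hb⟩ := exists_norm lam hlam hB c
      have hbn : ¬ IsUnit b := by
        intro hbu
        have : IsUnit (c * lam c) := hb ▸ hbu.map (algebraMap B A)
        exact hq'.ne_top (Ideal.eq_top_of_isUnit_mem _ hc (isUnit_of_mul_isUnit_left this))
      have hmem : algebraMap B A b ∈ q₀ :=
        algebraMap_mem_of_mem_maximalIdeal lam hlam hB q₀ hq₀ b hbn
      rw [hb] at hmem
      rcases hq₀.isPrime.mem_or_mem hmem with h1 | h1
      · exact h1
      · have := hstab q₀ hq₀ _ h1
        rwa [hlam c] at this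
    exact hq'.eq_of_le hq₀.ne_top hle
  · right
    push Not at hstab
    obtain ⟨q, hq, c, hc, hlc⟩ := hstab
    haveI := hq
    have hq₂ : (q.comap lam.toRingHom).IsMaximal :=
      Ideal.comap_isMaximal_of_surjective lam.toRingHom lam.surjective
    have hne : q.comap lam.toRingHom ≠ q := by
      intro heq
      apply hlc
      have : lam c ∈ q.comap lam.toRingHom := by
        rw [Ideal.mem_comap]
        change lam (lam c) ∈ q
        rw [hlam c]; exact hc
      rwa [heq] at this
    have hsup := hq₂.coprime_of_ne hq hne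
    have h1 : (1 : A) ∈ q.comap lam.toRingHom ⊔ q := by rw [hsup]; trivial
    obtain ⟨e, he, w, hw, hew⟩ := Submodule.mem_sup.1 h1
    refine ⟨q, hq, e, ?_, he⟩
    have : 1 - e = w := by rw [← hew]; ring
    rw [this]; exact hw

end Ring

section Family

variable {B : Type u} {A : Type v} [CommRing B] [CommRing A] [Algebra B A] (lam : A ≃+* A)
  {ι : Type*} [Fintype ι] [DecidableEq ι] (h : Matrix ι ι A)

/-- an orthogonal family with unit norms -/
def Orth {k : ℕ} (x : Fin k → ι → A) : Prop :=
  (∀ i j, i ≠ j → H lam h (x i) (x j) = 0) ∧ ∀ i, IsUnit (H lam h (x i) (x i))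

theorem H_eq_zero_symm {ε : A} (hsym : ∀ x y, H lam h y x = ε * lam (H lam h x y))
    {x y : ι → A} (hxy : H lam h x y = 0) : H lam h y x = 0 := by
  rw [hsym, hxy, map_zero, mul_zero]

theorem Orth.snoc {ε : A} (hsym : ∀ x y, H lam h y x = ε * lam (H lam h x y)) {k : ℕ}
    {x : Fin k → ι → A} (hx : Orth lam h x) {y : ι → A} (hy : ∀ i, H lam h (x i) y = 0)
    (hyu : IsUnit (H lam h y y)) : Orth lam h (Fin.snoc x y : Fin (k + 1) → ι → A) := by
  refine ⟨fun i j hij => ?_, fun i => ?_⟩
  · induction i using Fin.lastCases with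
    | last =>
      induction j using Fin.lastCases with
      | last => exact absurd rfl hij
      | cast j =>
        rw [Fin.snoc_last, Fin.snoc_castSucc]
        exact H_eq_zero_symm lam h hsym (hy j)
    | cast i =>
      induction j using Fin.lastCases with
      | last =>
        rw [Fin.snoc_last, Fin.snoc_castSucc]
        exact hy i
      | cast j =>
        rw [Fin.snoc_castSucc, Fin.snoc_castSucc]
        exact hx.1 i j (fun e => hij (by rw [e]))
  · induction i using Fin.lastCases with
    | last => rw [Fin.snoc_last]; exact hyu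
    | cast i => rw [Fin.snoc_castSucc]; exact hx.2 i

/-- projection to the orthogonal complement of an orthogonal family -/
noncomputable def proj {k : ℕ} (x : Fin k → ι → A) (z : ι → A) : ι → A :=
  z - ∑ i, (Ring.inverse (H lam h (x i) (x i)) * H lam h (x i) z) • x i

theorem H_proj {k : ℕ} {x : Fin k → ι → A} (hx : Orth lam h x) (j : Fin k) (z : ι → A) :
    H lam h (x j) (proj lam h x z) = 0 := by
  rw [proj, H_sub_right, H_sum_right, Finset.sum_eq_single j]
  · have e := Ring.inverse_mul_cancel _ (hx.2 j)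
    rw [H_smul_right]
    linear_combination (-(H lam h (x j) z)) * e
  · intro i _ hij
    rw [H_smul_right, hx.1 j i (Ne.symm hij), mul_zero]
  · intro hj; exact absurd (Finset.mem_univ j) hj

theorem H_proj_left {k : ℕ} (x : Fin k → ι → A) (t w : ι → A)
    (hw : ∀ i, H lam h (x i) w = 0) : H lam h (proj lam h x t) w = H lam h t w := by
  rw [proj, H_sub_left, H_sum_left, Finset.sum_eq_zero, sub_zero]
  intro i _
  rw [H_smul_left, hw i, mul_zero]

theorem exists_pair_notMem {k : ℕ} {x : Fin k → ι → A} (hx : Orth lam h x) (q : Ideal A)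
    [q.IsPrime] (hdet : h.det ∉ q) (hk : k < Fintype.card ι) :
    ∃ y z : ι → A, (∀ i, H lam h (x i) y = 0) ∧ (∀ i, H lam h (x i) z = 0) ∧
      H lam h y z ∉ q := by
  by_contra hcon
  push Not at hcon
  have h1 : ∀ s t, H lam h t (proj lam h x s) ∈ q := by
    intro s t
    rw [← H_proj_left lam h x t (proj lam h x s) (fun i => H_proj lam h hx i s)]
    exact hcon _ _ (fun i => H_proj lam h hx i t) (fun i => H_proj lam h hx i s)
  have h2 : ∀ s l, (proj lam h x s) l ∈ q := by
    intro s
    apply mem_of_mulVec_mem q h hdet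
    intro l
    rw [← H_single_left lam h l]
    exact h1 s _
  refine false_of_span_mod q x
    (fun i s => Ring.inverse (H lam h (x i) (x i)) * H lam h (x i) s) (fun s l => ?_)
    (by simpa using hk)
  have := h2 s l
  simp only [proj, Pi.sub_apply, Finset.sum_apply, Pi.smul_apply, smul_eq_mul] at this
  exact this

theorem norm_isUnit [IsLocalRing B] (hlam : Function.Involutive lam)
    (hB : RInv.IsFixedRing B A lam) {ε : A} (hε : ε = 1 ∨ ε = -1)
    (hsym : ∀ x y, H lam h y x = ε * lam (H lam h x y)) (w : ι → A)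
    (hw : H lam h w w ∉ Ring.jacobson A) : IsUnit (H lam h w w) := by
  apply isUnit_of_notMem_jacobson lam hlam hB _ _ hw
  have := hsym w w
  rcases hε with rfl | rfl
  · right; rw [one_mul] at this; exact this.symm
  · left; rw [neg_one_mul] at this
    exact neg_eq_iff_eq_neg.1 this.symm

/-- If all norms on the orthogonal complement of an orthogonal family (of size less than the
rank) lie in the Jacobson radical, then `A` is local, the complement contains a hyperbolic pair
and `c + ε lam c` lies in the radical for all `c`. -/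
theorem key [IsLocalRing B] (hlam : Function.Involutive lam) (hB : RInv.IsFixedRing B A lam)
    {ε : A} (hsym : ∀ x y, H lam h y x = ε * lam (H lam h x y))
    (hdet : IsUnit h.det) {k : ℕ} {x : Fin k → ι → A} (hx : Orth lam h x)
    (hk : k < Fintype.card ι)
    (hW : ∀ w : ι → A, (∀ i, H lam h (x i) w = 0) → H lam h w w ∈ Ring.jacobson A) :
    IsLocalRing A ∧ ∃ y z : ι → A, (∀ i, H lam h (x i) y = 0) ∧ (∀ i, H lam h (x i) z = 0) ∧
      H lam h y z = 1 ∧ ∀ c : A, c + ε * lam c ∈ Ring.jacobson A := by
  have hpol : ∀ y z : ι → A, (∀ i, H lam h (x i) y = 0) → (∀ i, H lam h (x i) z = 0) →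
      ∀ c : A, c * H lam h y z + ε * lam (c * H lam h y z) ∈ Ring.jacobson A := by
    intro y z hy hz c
    have hyz : ∀ i, H lam h (x i) (y + c • z) = 0 := fun i => by
      rw [H_add_right, H_smul_right, hy i, hz i, mul_zero, add_zero]
    have h1 := hW _ hyz
    have h2 := hW _ hy
    have h3 := hW _ hz
    have e : H lam h (y + c • z) (y + c • z) = H lam h y y + lam c * c * H lam h z z
        + (c * H lam h y z + ε * lam (c * H lam h y z)) := by
      simp only [H_add_left, H_add_right, H_smul_left, H_smul_right, hsym y z, map_mul]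
      ring
    have e' : c * H lam h y z + ε * lam (c * H lam h y z) =
        H lam h (y + c • z) (y + c • z) - H lam h y y - lam c * c * H lam h z z := by
      rw [e]; ring
    rw [e']
    exact Ideal.sub_mem _ (Ideal.sub_mem _ h1 h2) (Ideal.mul_mem_left _ _ h3)
  rcases local_or_swap lam hlam hB with hloc | ⟨q, hq, e, he1, he2⟩
  · haveI := hloc
    refine ⟨hloc, ?_⟩
    have hdetm : h.det ∉ IsLocalRing.maximalIdeal A := IsLocalRing.notMem_maximalIdeal.2 hdet
    obtain ⟨y, z, hy, hz, hyz⟩ :=
      exists_pair_notMem lam h hx (IsLocalRing.maximalIdeal A) hdetm hk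
    obtain ⟨u, hu⟩ := IsLocalRing.notMem_maximalIdeal.1 hyz
    have hz' : ∀ i, H lam h (x i) ((↑u⁻¹ : A) • z) = 0 := fun i => by
      rw [H_smul_right, hz i, mul_zero]
    have hyz' : H lam h y ((↑u⁻¹ : A) • z) = 1 := by
      rw [H_smul_right, ← hu, Units.inv_mul]
    refine ⟨y, (↑u⁻¹ : A) • z, hy, hz', hyz', fun c => ?_⟩
    have := hpol y _ hy hz' c
    rw [hyz', mul_one] at this
    exact this
  · exfalso
    haveI := hq
    have hdetq : h.det ∉ q := fun hm => hq.ne_top (Ideal.eq_top_of_isUnit_mem _ hm hdet)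
    obtain ⟨y, z, hy, hz, hyz⟩ := exists_pair_notMem lam h hx q hdetq hk
    obtain ⟨c₀, i₀, hi₀, hc₀⟩ := hq.exists_inv hyz
    have hJ := Ring.jacobson_le_of_isMaximal q (hpol y z hy hz (e * c₀))
    have hls : lam (e * c₀ * H lam h y z) ∈ q := by
      rw [map_mul, map_mul]
      exact q.mul_mem_right _ (q.mul_mem_right _ he2)
    have hs : e * c₀ * H lam h y z ∈ q := by
      have := q.sub_mem hJ (q.mul_mem_left ε hls)
      rwa [add_sub_cancel_right] at this
    have h1 : (1 : A) ∈ q := by
      have e1 : (1 : A) = (1 - e) + e * i₀ + e * c₀ * H lam h y z := by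
        linear_combination (-e) * hc₀
      rw [e1]
      exact q.add_mem (q.add_mem he1 (q.mul_mem_left _ hi₀)) hs
    exact hq.ne_top ((Ideal.eq_top_iff_one _).2 h1)

/-- extension step -/
theorem step [IsLocalRing B] (hlam : Function.Involutive lam) (hB : RInv.IsFixedRing B A lam)
    {ε : A} (hε : ε = 1 ∨ ε = -1) (hsym : ∀ x y, H lam h y x = ε * lam (H lam h x y))
    (hdet : IsUnit h.det) {k : ℕ} {x : Fin k → ι → A} {u : ι → A} (hx : Orth lam h x)
    (hu : ∀ i, H lam h (x i) u = 0) (huu : IsUnit (H lam h u u))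
    (hk : k + 1 < Fintype.card ι) :
    ∃ (x' : Fin (k + 1) → ι → A) (u' : ι → A), Orth lam h x' ∧ (∀ i, H lam h (x' i) u' = 0) ∧
      IsUnit (H lam h u' u') := by
  have hX : Orth lam h (Fin.snoc x u : Fin (k + 1) → ι → A) := hx.snoc lam h hsym hu huu
  by_cases hW : ∃ w : ι → A,
      (∀ i, H lam h ((Fin.snoc x u : Fin (k + 1) → ι → A) i) w = 0) ∧ IsUnit (H lam h w w)
  · obtain ⟨w, hw1, hw2⟩ := hW
    exact ⟨_, w, hX, hw1, hw2⟩
  · push Not at hW
    have hW' : ∀ w : ι → A, (∀ i, H lam h ((Fin.snoc x u : Fin (k + 1) → ι → A) i) w = 0) →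
        H lam h w w ∈ Ring.jacobson A := by
      intro w hw
      by_contra hn
      exact hW w hw (norm_isUnit lam h hlam hB hε hsym w hn)
    obtain ⟨hloc, y, z, hy, hz, hyz, -⟩ := key lam h hlam hB hsym hdet hX hk hW'
    have hxy : ∀ i, H lam h (x i) y = 0 := fun i => by
      have := hy i.castSucc
      rwa [Fin.snoc_castSucc] at this
    have huy : H lam h u y = 0 := by
      have := hy (Fin.last k)
      rwa [Fin.snoc_last] at this
    have hxz : ∀ i, H lam h (x i) z = 0 := fun i => by
      have := hz i.castSucc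
      rwa [Fin.snoc_castSucc] at this
    have huz : H lam h u z = 0 := by
      have := hz (Fin.last k)
      rwa [Fin.snoc_last] at this
    have hyu : H lam h y u = 0 := H_eq_zero_symm lam h hsym huy
    have hzu : H lam h z u = 0 := H_eq_zero_symm lam h hsym huz
    have hNy : H lam h y y ∈ Ring.jacobson A := hW' y hy
    have hNz : H lam h z z ∈ Ring.jacobson A := hW' z hz
    refine ⟨Fin.snoc x (u + y), u - (H lam h u u) • z, ?_, ?_, ?_⟩
    · apply hx.snoc lam h hsym
      · intro i; rw [H_add_right, hu i, hxy i, add_zero]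
      · have e : H lam h (u + y) (u + y) = H lam h u u + H lam h y y := by
          simp only [H_add_left, H_add_right, huy, hyu]; ring
        rw [e]; exact isUnit_add_of_mem_jacobson huu hNy
    · intro i
      induction i using Fin.lastCases with
      | last =>
        rw [Fin.snoc_last]
        simp only [H_add_left, H_sub_right, H_smul_right, huz, hyu, hyz]
        ring
      | cast i =>
        rw [Fin.snoc_castSucc, H_sub_right, H_smul_right, hu i, hxz i]
        ring
    · have e : H lam h (u - (H lam h u u) • z) (u - (H lam h u u) • z) =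
          H lam h u u + lam (H lam h u u) * H lam h u u * H lam h z z := by
        simp only [H_sub_left, H_sub_right, H_smul_left, H_smul_right, huz, hzu]
        ring
      rw [e]
      exact isUnit_add_of_mem_jacobson huu (Ideal.mul_mem_left _ _ hNz)

/-- start -/
theorem start [IsLocalRing B] (hlam : Function.Involutive lam) (hB : RInv.IsFixedRing B A lam)
    {ε : A} (hε : ε = 1 ∨ ε = -1) (hsym : ∀ x y, H lam h y x = ε * lam (H lam h x y))
    (hdet : IsUnit h.det) (hcard : 0 < Fintype.card ι)
    (hcase : (∃ a : A, lam a - a ∉ Ring.jacobson A) ∨ ε + 1 ∉ Ring.jacobson A ∨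
      Odd (Fintype.card ι)) :
    ∃ u : ι → A, IsUnit (H lam h u u) := by
  haveI : Nontrivial A := hB.1.nontrivial
  by_contra hno
  push Not at hno
  have hW : ∀ w : ι → A, H lam h w w ∈ Ring.jacobson A := by
    intro w
    by_contra hn
    exact hno w (norm_isUnit lam h hlam hB hε hsym w hn)
  have hx0 : Orth lam h (fun i : Fin 0 => (i.elim0 : ι → A)) :=
    ⟨fun i => i.elim0, fun i => i.elim0⟩
  rcases hcase with ⟨a, ha⟩ | hε1 | hodd
  · obtain ⟨-, y, z, -, -, -, hc⟩ := key lam h hlam hB hsym hdet hx0 hcard (fun w _ => hW w)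
    apply ha
    have h1 := hc 1
    have h2 := hc a
    have e : lam a - a = (1 + ε * lam 1) * lam a - (a + ε * lam a) := by
      rw [map_one]; ring
    rw [e]
    exact Ideal.sub_mem _ (Ideal.mul_mem_right _ _ h1) h2
  · obtain ⟨-, y, z, -, -, -, hc⟩ := key lam h hlam hB hsym hdet hx0 hcard (fun w _ => hW w)
    apply hε1
    have h1 := hc 1
    rw [map_one, mul_one, add_comm] at h1
    exact h1
  · have hdiag : ∀ i, h i i ∈ Ring.jacobson A := fun i => by
      have := hW (Pi.single i 1)
      rwa [H_single_single] at this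
    have hoff : ∀ i j, h i j + h j i ∈ Ring.jacobson A := fun i j => by
      have := hW (Pi.single i 1 + Pi.single j 1)
      simp only [H_add_left, H_add_right, H_single_single] at this
      have e : h i j + h j i = (h i i + h j i + (h i j + h j j)) - h i i - h j j := by ring
      rw [e]
      exact Ideal.sub_mem _ (Ideal.sub_mem _ this (hdiag i)) (hdiag j)
    have hdet0 : (h.map (Ideal.Quotient.mk (Ring.jacobson A))).det = 0 := by
      apply det_eq_zero_of_alt _ _ _ hodd
      · intro i j
        rw [Matrix.map_apply, Matrix.map_apply, eq_neg_iff_add_eq_zero, ← map_add,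
          Ideal.Quotient.eq_zero_iff_mem]
        rw [add_comm]
        exact hoff i j
      · intro i
        rw [Matrix.map_apply, Ideal.Quotient.eq_zero_iff_mem]
        exact hdiag i
    have h3 : Ideal.Quotient.mk (Ring.jacobson A) h.det = 0 := by
      rw [RingHom.map_det, RingHom.mapMatrix_apply]
      exact hdet0
    rw [Ideal.Quotient.eq_zero_iff_mem] at h3
    exact notMem_jacobson_of_isUnit hdet h3

/-- existence of an orthogonal basis with unit norms -/
theorem exists_orth_family [IsLocalRing B] (hlam : Function.Involutive lam)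
    (hB : RInv.IsFixedRing B A lam)
    {ε : A} (hε : ε = 1 ∨ ε = -1) (hsym : ∀ x y, H lam h y x = ε * lam (H lam h x y))
    (hdet : IsUnit h.det) (m : ℕ) (hcard : Fintype.card ι = m + 1)
    (hcase : (∃ a : A, lam a - a ∉ Ring.jacobson A) ∨ ε + 1 ∉ Ring.jacobson A ∨
      Odd (Fintype.card ι)) :
    ∃ X : Fin (m + 1) → ι → A, Orth lam h X := by
  have hQ : ∀ k, k ≤ m → ∃ (x : Fin k → ι → A) (u : ι → A), Orth lam h x ∧
      (∀ i, H lam h (x i) u = 0) ∧ IsUnit (H lam h u u) := by
    intro k
    induction k with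
    | zero =>
      intro _
      obtain ⟨u, hu⟩ := start lam h hlam hB hε hsym hdet (by omega) hcase
      exact ⟨fun i => i.elim0, u, ⟨fun i => i.elim0, fun i => i.elim0⟩, fun i => i.elim0, hu⟩
    | succ k ih =>
      intro hk
      obtain ⟨x, u, hx, hu, huu⟩ := ih (by omega)
      exact step lam h hlam hB hε hsym hdet hx hu huu (by omega)
  obtain ⟨x, u, hx, hu, huu⟩ := hQ m le_rfl
  exact ⟨Fin.snoc x u, hx.snoc lam h hsym hu huu⟩

end Family

end Groth.Agent.Lib.Helper99.HermFamily
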