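import Mathlib
import Groth.Prelude.Def_W4c2azumayainvolQEt
import Groth.Agent.Lib.Helper99.HermFamily

/-!
# Skew-hermitian forms with all norms in the Jacobson radical: symplectic families (helper99)
-/

set_option autoImplicit false
set_option linter.unusedSectionVars false
set_option linter.unusedSimpArgs false
set_option linter.style.haveILetI false
universe u v

namespace Groth.Agent.Lib.Helper99.HermFamily

open Matrix

section Sympl

variable {A : Type v} [CommRing A] (lam : A ≃+* A)
  {ι : Type*} [Fintype ι] [DecidableEq ι] (h : Matrix ι ι A)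

/-- a family of mutually orthogonal hyperbolic pairs -/
def Sympl {k : ℕ} (y z : Fin k → ι → A) : Prop :=
  (∀ i, H lam h (y i) (z i) = 1) ∧
  ∀ i j, i ≠ j → H lam h (y i) (y j) = 0 ∧ H lam h (y i) (z j) = 0 ∧
    H lam h (z i) (y j) = 0 ∧ H lam h (z i) (z j) = 0

noncomputable def alpha {k : ℕ} (y z : Fin k → ι → A) (i : Fin k) (s : ι → A) : A :=
  Ring.inverse (1 + H lam h (y i) (y i) * H lam h (z i) (z i)) *
    (H lam h (z i) (z i) * H lam h (y i) s - H lam h (z i) s)

noncomputable def beta {k : ℕ} (y z : Fin k → ι → A) (i : Fin k) (s : ι → A) : A :=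
  H lam h (y i) s - alpha lam h y z i s * H lam h (y i) (y i)

noncomputable def projS {k : ℕ} (y z : Fin k → ι → A) (s : ι → A) : ι → A :=
  s - ∑ i, (alpha lam h y z i s • y i + beta lam h y z i s • z i)

theorem H_y_projS {k : ℕ} {y z : Fin k → ι → A} (hS : Sympl lam h y z) (j : Fin k)
    (s : ι → A) : H lam h (y j) (projS lam h y z s) = 0 := by
  rw [projS, H_sub_right, H_sum_right, Finset.sum_eq_single j]
  · simp only [H_add_right, H_smul_right, hS.1 j, beta]
    ring
  · intro i _ hij
    have := hS.2 j i (Ne.symm hij)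
    rw [H_add_right, H_smul_right, H_smul_right, this.1, this.2.1, mul_zero, mul_zero, add_zero]
  · intro hj; exact absurd (Finset.mem_univ j) hj

theorem H_z_projS {k : ℕ} {y z : Fin k → ι → A} (hS : Sympl lam h y z)
    (hzy : ∀ i, H lam h (z i) (y i) = -1)
    (hu : ∀ i, IsUnit (1 + H lam h (y i) (y i) * H lam h (z i) (z i))) (j : Fin k)
    (s : ι → A) : H lam h (z j) (projS lam h y z s) = 0 := by
  rw [projS, H_sub_right, H_sum_right, Finset.sum_eq_single j]
  · have e := Ring.inverse_mul_cancel _ (hu j)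
    simp only [H_add_right, H_smul_right, hzy j, beta, alpha]
    linear_combination (H lam h (z j) (z j) * H lam h (y j) s - H lam h (z j) s) * e
  · intro i _ hij
    have := hS.2 j i (Ne.symm hij)
    rw [H_add_right, H_smul_right, H_smul_right, this.2.2.1, this.2.2.2, mul_zero, mul_zero,
      add_zero]
  · intro hj; exact absurd (Finset.mem_univ j) hj

theorem H_projS_left {k : ℕ} (y z : Fin k → ι → A) (t w : ι → A)
    (hyw : ∀ i, H lam h (y i) w = 0) (hzw : ∀ i, H lam h (z i) w = 0) :
    H lam h (projS lam h y z t) w = H lam h t w := by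
  rw [projS, H_sub_left, H_sum_left, Finset.sum_eq_zero, sub_zero]
  intro i _
  rw [H_add_left, H_smul_left, H_smul_left, hyw i, hzw i, mul_zero, mul_zero, add_zero]

theorem exists_pair_sympl {k : ℕ} {y z : Fin k → ι → A} (hS : Sympl lam h y z)
    (hzy : ∀ i, H lam h (z i) (y i) = -1)
    (hu : ∀ i, IsUnit (1 + H lam h (y i) (y i) * H lam h (z i) (z i)))
    (q : Ideal A) [q.IsPrime] (hdet : h.det ∉ q) (hk : 2 * k < Fintype.card ι) :
    ∃ y' z' : ι → A, (∀ i, H lam h (y i) y' = 0) ∧ (∀ i, H lam h (z i) y' = 0) ∧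
      (∀ i, H lam h (y i) z' = 0) ∧ (∀ i, H lam h (z i) z' = 0) ∧ H lam h y' z' ∉ q := by
  by_contra hcon
  push Not at hcon
  have h1 : ∀ s t, H lam h t (projS lam h y z s) ∈ q := by
    intro s t
    rw [← H_projS_left lam h y z t (projS lam h y z s) (fun i => H_y_projS lam h hS i s)
      (fun i => H_z_projS lam h hS hzy hu i s)]
    exact hcon _ _ (fun i => H_y_projS lam h hS i t) (fun i => H_z_projS lam h hS hzy hu i t)
      (fun i => H_y_projS lam h hS i s) (fun i => H_z_projS lam h hS hzy hu i s)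
  have h2 : ∀ s l, (projS lam h y z s) l ∈ q := by
    intro s
    apply mem_of_mulVec_mem q h hdet
    intro l
    rw [← H_single_left lam h l]
    exact h1 s _
  refine false_of_span_mod (κ := Fin k ⊕ Fin k) q (Sum.elim y z)
    (Sum.elim (fun i s => alpha lam h y z i s) (fun i s => beta lam h y z i s)) (fun s l => ?_)
    (by simp only [Fintype.card_sum, Fintype.card_fin]; omega)
  have e : s l - ∑ p : Fin k ⊕ Fin k,
      (Sum.elim (fun i s => alpha lam h y z i s) (fun i s => beta lam h y z i s) p s) *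
        (Sum.elim y z p l) = (projS lam h y z s) l := by
    rw [Fintype.sum_sum_type]
    simp only [Sum.elim_inl, Sum.elim_inr, projS, Pi.sub_apply, Finset.sum_apply, Pi.add_apply,
      Pi.smul_apply, smul_eq_mul, Finset.sum_add_distrib]
  rw [e]
  exact h2 s l

theorem sympl_zy (hsym : ∀ x y, H lam h y x = (-1) * lam (H lam h x y)) {k : ℕ}
    {y z : Fin k → ι → A} (hS : Sympl lam h y z) (i : Fin k) : H lam h (z i) (y i) = -1 := by
  rw [hsym, hS.1 i, map_one, mul_one]

theorem sympl_step [IsLocalRing A] (hsym : ∀ x y, H lam h y x = (-1) * lam (H lam h x y))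
    (hN : ∀ w : ι → A, H lam h w w ∈ Ring.jacobson A) (hdet : IsUnit h.det) {k : ℕ}
    {y z : Fin k → ι → A} (hS : Sympl lam h y z) (hk : 2 * k < Fintype.card ι) :
    ∃ y' z' : Fin (k + 1) → ι → A, Sympl lam h y' z' := by
  have hzy := sympl_zy lam h hsym hS
  have hu : ∀ i, IsUnit (1 + H lam h (y i) (y i) * H lam h (z i) (z i)) := fun i =>
    isUnit_add_of_mem_jacobson isUnit_one (Ideal.mul_mem_left _ _ (hN _))
  have hdetm : h.det ∉ IsLocalRing.maximalIdeal A := IsLocalRing.notMem_maximalIdeal.2 hdet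
  obtain ⟨y', z', hy1, hy2, hz1', hz2', hyz⟩ :=
    exists_pair_sympl lam h hS hzy hu (IsLocalRing.maximalIdeal A) hdetm hk
  obtain ⟨u, hu'⟩ := IsLocalRing.notMem_maximalIdeal.1 hyz
  have hz1 : ∀ i, H lam h (y i) ((↑u⁻¹ : A) • z') = 0 := fun i => by
    rw [H_smul_right, hz1' i, mul_zero]
  have hz2 : ∀ i, H lam h (z i) ((↑u⁻¹ : A) • z') = 0 := fun i => by
    rw [H_smul_right, hz2' i, mul_zero]
  have hyz' : H lam h y' ((↑u⁻¹ : A) • z') = 1 := by
    rw [H_smul_right, ← hu', Units.inv_mul]
  refine ⟨Fin.snoc y y', Fin.snoc z ((↑u⁻¹ : A) • z'), fun i => ?_, fun i j hij => ?_⟩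
  · induction i using Fin.lastCases with
    | last => rw [Fin.snoc_last, Fin.snoc_last]; exact hyz'
    | cast i => rw [Fin.snoc_castSucc, Fin.snoc_castSucc]; exact hS.1 i
  · induction i using Fin.lastCases with
    | last =>
      induction j using Fin.lastCases with
      | last => exact absurd rfl hij
      | cast j =>
        simp only [Fin.snoc_last, Fin.snoc_castSucc]
        exact ⟨H_eq_zero_symm lam h hsym (hy1 j), H_eq_zero_symm lam h hsym (hy2 j),
          H_eq_zero_symm lam h hsym (hz1 j), H_eq_zero_symm lam h hsym (hz2 j)⟩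
    | cast i =>
      induction j using Fin.lastCases with
      | last =>
        simp only [Fin.snoc_last, Fin.snoc_castSucc]
        exact ⟨hy1 i, hz1 i, hy2 i, hz2 i⟩
      | cast j =>
        simp only [Fin.snoc_castSucc]
        exact hS.2 i j (fun e => hij (by rw [e]))

theorem exists_sympl [IsLocalRing A] (hsym : ∀ x y, H lam h y x = (-1) * lam (H lam h x y))
    (hN : ∀ w : ι → A, H lam h w w ∈ Ring.jacobson A) (hdet : IsUnit h.det) (r : ℕ)
    (hcard : Fintype.card ι = 2 * r) :
    ∃ y z : Fin r → ι → A, Sympl lam h y z := by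
  have hQ : ∀ k, k ≤ r → ∃ y z : Fin k → ι → A, Sympl lam h y z := by
    intro k
    induction k with
    | zero =>
      intro _
      exact ⟨fun i => i.elim0, fun i => i.elim0, fun i => i.elim0, fun i => i.elim0⟩
    | succ k ih =>
      intro hk
      obtain ⟨y, z, hS⟩ := ih (by omega)
      exact sympl_step lam h hsym hN hdet hS (by omega)
  exact hQ r le_rfl

end Sympl

end Groth.Agent.Lib.Helper99.HermFamily
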