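import Mathlib
import Groth.Prelude.Def_SymTen
import Groth.Prelude.Def_PolLaw2
import Groth.Prelude.Def_W4c5normfunctorschNorm

/-!
# Symmetric tensors act on the top exterior power through the norm (helper99)
-/

set_option autoImplicit false
universe u
open scoped TensorProduct

namespace Groth.Agent.Lib.Helper99.SymNorm

section Basic

variable (R : Type u) [CommRing R] (R' : Type u) [CommRing R'] [Algebra R R'] (d : ℕ)

theorem tpowAct_self (t x : ⨂[R] _ : Fin d, R') :
    SymTen.tpowAct R R' R' d t x = t * x := by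
  have h : SymTen.tpowAct R R' R' d = LinearMap.mul R (⨂[R] _ : Fin d, R') := by
    apply PiTensorProduct.ext
    refine MultilinearMap.ext fun a => ?_
    simp only [LinearMap.compMultilinearMap_apply]
    apply PiTensorProduct.ext
    refine MultilinearMap.ext fun p => ?_
    simp [SymTen.tpowAct, PiTensorProduct.tprod_mul_tprod]
    rfl
  rw [h]
  rfl

end Basic

section Det

variable {R : Type u} [CommRing R] {R' : Type u} [CommRing R'] [Algebra R R'] {d : ℕ}

/-- the determinant functional on the tensor power -/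
noncomputable def detT (e : Module.Basis (Fin d) R R') : (⨂[R] _ : Fin d, R') →ₗ[R] R :=
  PiTensorProduct.lift e.det.toMultilinearMap

theorem detT_tprod (e : Module.Basis (Fin d) R R') (v : Fin d → R') :
    detT e (PiTensorProduct.tprod R v) = e.det v := by
  simp [detT]

variable (R R' d) in
/-- the tautological alternating map into the quotient by `altSpan`. -/
noncomputable def qAlt : R' [⋀^Fin d]→ₗ[R] ((⨂[R] _ : Fin d, R') ⧸ SymTen.altSpan R R' d) :=
  { (SymTen.altSpan R R' d).mkQ.compMultilinearMap (PiTensorProduct.tprod R) with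
    map_eq_zero_of_eq' := by
      intro v i j hv hij
      show (SymTen.altSpan R R' d).mkQ (PiTensorProduct.tprod R v) = 0
      rw [Submodule.mkQ_apply, Submodule.Quotient.mk_eq_zero]
      exact Submodule.subset_span ⟨v, i, j, hij, hv, rfl⟩ }

theorem qAlt_apply (v : Fin d → R') :
    qAlt R R' d v = Submodule.Quotient.mk (PiTensorProduct.tprod R v) := rfl

theorem mk_tprod (e : Module.Basis (Fin d) R R') (v : Fin d → R') :
    (Submodule.Quotient.mk (PiTensorProduct.tprod R v) :
        (⨂[R] _ : Fin d, R') ⧸ SymTen.altSpan R R' d) =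
      e.det v • Submodule.Quotient.mk (PiTensorProduct.tprod R e) := by
  have h : qAlt R R' d =
      (LinearMap.toSpanSingleton R _ (Submodule.Quotient.mk (PiTensorProduct.tprod R e) :
        (⨂[R] _ : Fin d, R') ⧸ SymTen.altSpan R R' d)).compAlternatingMap e.det := by
    refine Module.Basis.ext_alternating e fun f hf => ?_
    obtain ⟨σ, rfl⟩ : ∃ σ : Equiv.Perm (Fin d), f = σ :=
      ⟨Equiv.ofBijective f (Finite.injective_iff_bijective.mp hf), rfl⟩
    have h1 := (qAlt R R' d).map_perm e σ
    have h2 := e.det.map_perm e σ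
    rw [LinearMap.compAlternatingMap_apply]
    change qAlt R R' d (e ∘ σ) = e.det (e ∘ σ) • _
    rw [h1, h2, Module.Basis.det_self, qAlt_apply]
    rcases Int.units_eq_one_or (Equiv.Perm.sign σ) with h | h <;> simp [h]
  have := congrArg (fun g => g v) h
  simpa [qAlt_apply] using this

theorem sub_detT_smul_mem (e : Module.Basis (Fin d) R R') (x : ⨂[R] _ : Fin d, R') :
    x - detT e x • PiTensorProduct.tprod R e ∈ SymTen.altSpan R R' d := by
  rw [← Submodule.Quotient.eq]
  induction x using PiTensorProduct.induction_on with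
  | smul_tprod r v =>
    rw [map_smul, detT_tprod, Submodule.Quotient.mk_smul, mk_tprod e v, Submodule.Quotient.mk_smul,
      smul_eq_mul, mul_smul]
  | add x y hx hy =>
    rw [map_add, add_smul, Submodule.Quotient.mk_add, hx, hy, Submodule.Quotient.mk_add]

/-- one term of the Leibniz expansion of the determinant functional. -/
noncomputable def Lσ (e : Module.Basis (Fin d) R R') (σ : Equiv.Perm (Fin d)) :
    (⨂[R] _ : Fin d, R') →ₗ[R] R :=
  PiTensorProduct.lift
    ((MultilinearMap.mkPiAlgebra R (Fin d) R).compLinearMap (fun i => e.coord (σ i)))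

theorem Lσ_tprod (e : Module.Basis (Fin d) R R') (σ : Equiv.Perm (Fin d)) (v : Fin d → R') :
    Lσ e σ (PiTensorProduct.tprod R v) = ∏ i, e.repr (v i) (σ i) := by
  simp [Lσ]

theorem detT_eq_sum (e : Module.Basis (Fin d) R R') (y : ⨂[R] _ : Fin d, R') :
    detT e y = ∑ σ : Equiv.Perm (Fin d), ((Equiv.Perm.sign σ : ℤ) : R) * Lσ e σ y := by
  induction y using PiTensorProduct.induction_on with
  | smul_tprod r v =>
    simp only [map_smul, detT_tprod, Lσ_tprod, smul_eq_mul, Module.Basis.det_apply,
      Matrix.det_apply', Module.Basis.toMatrix_apply, Finset.mul_sum]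
    refine Finset.sum_congr rfl fun σ _ => ?_
    ring
  | add x y hx hy => simp only [map_add, hx, hy, mul_add, Finset.sum_add_distrib]

theorem Lσ_perm (e : Module.Basis (Fin d) R R') (σ τ : Equiv.Perm (Fin d))
    (y : ⨂[R] _ : Fin d, R') :
    Lσ e σ (SymTen.perm R R' d τ y) = Lσ e (σ * τ) y := by
  induction y using PiTensorProduct.induction_on with
  | smul_tprod r v =>
    simp only [map_smul, SymTen.perm_tprod, Lσ_tprod, Equiv.Perm.coe_mul, Function.comp_apply]
    congr 1
    exact (Fintype.prod_equiv τ (fun i => e.repr (v i) (σ (τ i)))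
      (fun j => e.repr (v (τ.symm j)) (σ j)) (fun i => by simp)).symm
  | add x y hx hy => simp only [map_add, hx, hy]

theorem detT_eq_zero_of_swap_fixed (e : Module.Basis (Fin d) R R') {i j : Fin d} (hij : i ≠ j)
    (y : ⨂[R] _ : Fin d, R') (hy : SymTen.perm R R' d (Equiv.swap i j) y = y) :
    detT e y = 0 := by
  rw [detT_eq_sum]
  refine Finset.sum_ninvolution (fun σ => σ * Equiv.swap i j) ?_ ?_ (fun _ => Finset.mem_univ _) ?_
  · intro σ
    rw [← Lσ_perm e σ (Equiv.swap i j) y, hy, Equiv.Perm.sign_mul, Equiv.Perm.sign_swap hij]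
    simp
  · intro σ _ h
    exact hij (Equiv.swap_eq_one_iff.mp (mul_left_cancel (a := σ) (by simpa using h)))
  · intro σ
    simp [mul_assoc]

theorem detT_mul_of_mem_altSpan (e : Module.Basis (Fin d) R R') (t : ⨂[R] _ : Fin d, R')
    (ht : ∀ σ, SymTen.perm R R' d σ t = t) (a : ⨂[R] _ : Fin d, R')
    (ha : a ∈ SymTen.altSpan R R' d) : detT e (t * a) = 0 := by
  unfold SymTen.altSpan at ha
  induction ha using Submodule.span_induction with
  | mem a h =>
    obtain ⟨p, i, j, hij, hp, rfl⟩ := h
    apply detT_eq_zero_of_swap_fixed e hij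
    rw [map_mul, ht, SymTen.perm_tprod]
    congr 2
    funext k
    rw [Equiv.symm_swap]
    by_cases hk : k = i
    · subst hk
      rw [Equiv.swap_apply_left]
      exact hp.symm
    · by_cases hk' : k = j
      · subst hk'
        rw [Equiv.swap_apply_right]
        exact hp
      · rw [Equiv.swap_apply_of_ne_of_ne hk hk']
  | zero => simp
  | add x y _ _ hx hy => rw [mul_add, map_add, hx, hy, add_zero]
  | smul r x _ hx => rw [mul_smul_comm, map_smul, hx, smul_zero]

theorem detT_mul_eq (e : Module.Basis (Fin d) R R') (t : ⨂[R] _ : Fin d, R')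
    (ht : ∀ σ, SymTen.perm R R' d σ t = t) (x : ⨂[R] _ : Fin d, R') :
    detT e (t * x) = detT e (t * PiTensorProduct.tprod R e) * detT e x := by
  have hx := sub_detT_smul_mem e x
  have h0 := detT_mul_of_mem_altSpan e t ht _ hx
  rw [mul_sub, map_sub, mul_smul_comm, map_smul, smul_eq_mul, sub_eq_zero] at h0
  rw [h0, mul_comm]

end Det

section Laws

variable {R : Type u} [CommRing R]

/-- two polynomial laws that agree on all test algebras which are rings are equal. -/
theorem law_ext_ring {M N : Type u} [AddCommGroup M] [Module R M] [AddCommGroup N] [Module R N]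
    (F G : M →ₚₗ[R] N)
    (h : ∀ (S : Type u) [CommRing S] [Algebra R S] (x : S ⊗[R] M), F.toFun' S x = G.toFun' S x) :
    F = G := by
  refine PolynomialLaw.ext ?_
  funext S _ _ x
  let ι : S →ₐ[R] R ⊗[R] S := (Algebra.TensorProduct.lid R S).symm.toAlgHom
  have hF := congrFun (F.isCompat' ι) x
  have hG := congrFun (G.isCompat' ι) x
  simp only [Function.comp_apply] at hF hG
  have h' := h (R ⊗[R] S) (ι.toLinearMap.rTensor M x)
  have hinj : Function.Injective (ι.toLinearMap.rTensor N) := by
    have h2 : (Algebra.TensorProduct.lid R S).toAlgHom.toLinearMap ∘ₗ ι.toLinearMap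
        = LinearMap.id := by
      ext s
      simp [ι]
    have h3 : (Algebra.TensorProduct.lid R S).toAlgHom.toLinearMap.rTensor N ∘ₗ
        ι.toLinearMap.rTensor N = LinearMap.id := by
      rw [← LinearMap.rTensor_comp, h2, LinearMap.rTensor_id]
    intro a b hab
    have := congrArg ((Algebra.TensorProduct.lid R S).toAlgHom.toLinearMap.rTensor N) hab
    rw [← LinearMap.comp_apply, ← LinearMap.comp_apply, h3] at this
    simpa using this
  apply hinj
  rw [hF, hG, h']

theorem postcomp_comp {M N P Q : Type u} [AddCommGroup M] [Module R M] [AddCommGroup N] [Module R N]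
    [AddCommGroup P] [Module R P] [AddCommGroup Q] [Module R Q]
    (g : P →ₗ[R] Q) (f : N →ₗ[R] P) (F : M →ₚₗ[R] N) :
    PolLaw.postcomp (g ∘ₗ f) F = PolLaw.postcomp g (PolLaw.postcomp f F) := by
  refine PolynomialLaw.ext ?_
  funext S _ _ x
  show (g ∘ₗ f).lTensor S (F.toFun' S x) = g.lTensor S (f.lTensor S (F.toFun' S x))
  rw [LinearMap.lTensor_comp, LinearMap.comp_apply]

theorem postcomp_toFun' {M N P : Type u} [AddCommGroup M] [Module R M] [AddCommGroup N] [Module R N]
    [AddCommGroup P] [Module R P] (g : N →ₗ[R] P) (F : M →ₚₗ[R] N)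
    (S : Type u) [CommSemiring S] [Algebra R S] (x : S ⊗[R] M) :
    (PolLaw.postcomp g F).toFun' S x = g.lTensor S (F.toFun' S x) := rfl

end Laws

section Perm

variable (R : Type u) [CommRing R] (R' : Type u) [CommRing R'] [Algebra R R'] (d : ℕ)

theorem perm_comp_single (σ : Equiv.Perm (Fin d)) (j : Fin d) :
    (SymTen.perm R R' d σ).comp
        (PiTensorProduct.singleAlgHom (R := R) (A := fun _ : Fin d => R') j) =
      PiTensorProduct.singleAlgHom (R := R) (A := fun _ : Fin d => R') (σ j) := by
  ext b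
  simp only [AlgHom.comp_apply, PiTensorProduct.singleAlgHom_apply, SymTen.perm_tprod]
  congr 1
  funext i
  simp only [MonoidHom.mulSingle_apply, Pi.mulSingle_apply, Equiv.symm_apply_eq]

theorem map_perm_map_single {S : Type u} [CommSemiring S] [Algebra R S] (σ : Equiv.Perm (Fin d))
    (j : Fin d) (x : S ⊗[R] R') :
    Algebra.TensorProduct.map (AlgHom.id S S) (SymTen.perm R R' d σ)
      (Algebra.TensorProduct.map (AlgHom.id S S)
        (PiTensorProduct.singleAlgHom (R := R) (A := fun _ : Fin d => R') j) x) =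
    Algebra.TensorProduct.map (AlgHom.id S S)
      (PiTensorProduct.singleAlgHom (R := R) (A := fun _ : Fin d => R') (σ j)) x := by
  induction x using TensorProduct.induction_on with
  | zero => simp
  | tmul s b =>
    simp only [Algebra.TensorProduct.map_tmul]
    rw [← perm_comp_single R R' d σ j]
    rfl
  | add x y hx hy => simp only [map_add, hx, hy]

theorem postcomp_perm_tpowLaw (σ : Equiv.Perm (Fin d)) :
    PolLaw.postcomp (SymTen.perm R R' d σ).toLinearMap (SymTen.tpowLaw R R' d).law =
      (SymTen.tpowLaw R R' d).law := by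
  refine PolynomialLaw.ext ?_
  funext S _ _ x
  show (SymTen.perm R R' d σ).toLinearMap.lTensor S ((SymTen.tpowLaw R R' d).law.toFun' S x) =
    (SymTen.tpowLaw R R' d).law.toFun' S x
  rw [PolLaw.lTensor_algHom_apply]
  unfold SymTen.tpowLaw
  rw [PolLaw.MulLaw.prodMap_toFun', map_prod]
  rw [← Equiv.prod_comp σ (fun j => Algebra.TensorProduct.map (AlgHom.id S S)
    (PiTensorProduct.singleAlgHom (R := R) (A := fun _ : Fin d => R') j) x)]
  exact Finset.prod_congr rfl fun j _ => map_perm_map_single R R' d σ j x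

variable {R R' d}

theorem perm_phi_eq {C : Type u} [CommRing C] [Algebra R C] (γ : PolLaw.MulLaw R R' C d)
    (hγ : PolLaw.IsGammaD γ) (φ : C →ₐ[R] (⨂[R] _ : Fin d, R'))
    (hφ : PolLaw.MulLaw.postcomp φ γ = SymTen.tpowLaw R R' d) (σ : Equiv.Perm (Fin d)) (c : C) :
    SymTen.perm R R' d σ (φ c) = φ c := by
  obtain ⟨f, -, hf⟩ := hγ _ (SymTen.tpowLaw R R' d)
  have h1 : PolLaw.postcomp φ.toLinearMap γ.law = (SymTen.tpowLaw R R' d).law :=
    congrArg PolLaw.MulLaw.law hφ
  have h2 : PolLaw.postcomp ((SymTen.perm R R' d σ).comp φ).toLinearMap γ.law =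
      (SymTen.tpowLaw R R' d).law := by
    rw [AlgHom.comp_toLinearMap, postcomp_comp, h1, postcomp_perm_tpowLaw]
  have := (hf _ h2).trans (hf _ h1).symm
  exact DFunLike.congr_fun this c

end Perm

section Psi

variable {R : Type u} [CommRing R] {R' : Type u} [CommRing R'] [Algebra R R'] {d : ℕ}

/-- the candidate algebra map: the action of `φ c` on the top exterior power. -/
noncomputable def psi {C : Type u} [CommRing C] [Algebra R C] (φ : C →ₐ[R] (⨂[R] _ : Fin d, R'))
    (hsym : ∀ σ c, SymTen.perm R R' d σ (φ c) = φ c) (e : Module.Basis (Fin d) R R') : C →ₐ[R] R :=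
  AlgHom.ofLinearMap
    ((detT e ∘ₗ LinearMap.mulRight R (PiTensorProduct.tprod R e)) ∘ₗ φ.toLinearMap)
    (by
      show detT e (φ 1 * PiTensorProduct.tprod R e) = 1
      rw [map_one, one_mul, detT_tprod, Module.Basis.det_self])
    (by
      intro a b
      show detT e (φ (a * b) * PiTensorProduct.tprod R e) =
        detT e (φ a * PiTensorProduct.tprod R e) * detT e (φ b * PiTensorProduct.tprod R e)
      rw [map_mul φ a b, mul_assoc,
        detT_mul_eq e (φ a) (fun σ => hsym σ a) (φ b * PiTensorProduct.tprod R e)])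

theorem psi_apply {C : Type u} [CommRing C] [Algebra R C] (φ : C →ₐ[R] (⨂[R] _ : Fin d, R'))
    (hsym : ∀ σ c, SymTen.perm R R' d σ (φ c) = φ c) (e : Module.Basis (Fin d) R R') (c : C) :
    psi φ hsym e c = detT e (φ c * PiTensorProduct.tprod R e) := rfl

theorem psi_toLinearMap {C : Type u} [CommRing C] [Algebra R C]
    (φ : C →ₐ[R] (⨂[R] _ : Fin d, R'))
    (hsym : ∀ σ c, SymTen.perm R R' d σ (φ c) = φ c) (e : Module.Basis (Fin d) R R') :
    (psi φ hsym e).toLinearMap =
      (detT e ∘ₗ LinearMap.mulRight R (PiTensorProduct.tprod R e)) ∘ₗ φ.toLinearMap := rfl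

end Psi

section Norm

variable {R : Type u} [CommRing R] {R' : Type u} [CommRing R'] [Algebra R R'] {d : ℕ}

theorem prod_single (a : Fin d → R') :
    ∏ j, PiTensorProduct.singleAlgHom (R := R) (A := fun _ : Fin d => R') j (a j) =
      PiTensorProduct.tprod R a := by
  simp only [PiTensorProduct.singleAlgHom_apply, MonoidHom.mulSingle_apply]
  rw [← PiTensorProduct.tprod_prod]
  exact congrArg _ (Finset.univ_prod_mulSingle a)

variable (S : Type u) [CommRing S] [Algebra R S]

/-- the `j`-th coordinate inclusion, base changed to `S`. -/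
noncomputable abbrev rho (j : Fin d) : S ⊗[R] R' →ₐ[S] S ⊗[R] (⨂[R] _ : Fin d, R') :=
  Algebra.TensorProduct.map (AlgHom.id S S)
    (PiTensorProduct.singleAlgHom (R := R) (A := fun _ : Fin d => R') j)

theorem prod_rho_one_tmul (a : Fin d → R') :
    ∏ j, rho (R := R) (R' := R') (d := d) S j ((1 : S) ⊗ₜ[R] a j) =
      (1 : S) ⊗ₜ[R] PiTensorProduct.tprod R a := by
  simp only [rho, Algebra.TensorProduct.map_tmul, map_one]
  rw [← prod_single a]
  exact (map_prod (Algebra.TensorProduct.includeRight :
    (⨂[R] _ : Fin d, R') →ₐ[R] S ⊗[R] (⨂[R] _ : Fin d, R')) _ _).symm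

/-- the determinant functional, base changed to `S`. -/
noncomputable def DS (e : Module.Basis (Fin d) R R') : S ⊗[R] (⨂[R] _ : Fin d, R') →ₗ[S] S :=
  LinearMap.liftBaseChange S ((Algebra.linearMap R S) ∘ₗ detT e)

theorem DS_tmul (e : Module.Basis (Fin d) R R') (s : S) (t : ⨂[R] _ : Fin d, R') :
    DS S e (s ⊗ₜ[R] t) = s * algebraMap R S (detT e t) := by
  simp [DS]

theorem lTensor_detT_mulRight (e : Module.Basis (Fin d) R R')
    (z : S ⊗[R] (⨂[R] _ : Fin d, R')) :
    (detT e ∘ₗ LinearMap.mulRight R (PiTensorProduct.tprod R e)).lTensor S z =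
      DS S e (z * ((1 : S) ⊗ₜ[R] PiTensorProduct.tprod R e)) ⊗ₜ[R] (1 : R) := by
  induction z using TensorProduct.induction_on with
  | zero => simp
  | tmul s t =>
    rw [LinearMap.lTensor_tmul, Algebra.TensorProduct.tmul_mul_tmul, mul_one, DS_tmul]
    simp only [LinearMap.comp_apply, LinearMap.mulRight_apply]
    rw [mul_comm s, ← Algebra.smul_def, TensorProduct.smul_tmul, smul_eq_mul, mul_one]
  | add x y hx hy => rw [map_add, add_mul, map_add, TensorProduct.add_tmul, hx, hy]

/-- the `S`-multilinear map `(n_j) ↦ ∏ j, ρ_j (n_j)`. -/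
noncomputable def mu :
    MultilinearMap S (fun _ : Fin d => S ⊗[R] R') (S ⊗[R] (⨂[R] _ : Fin d, R')) :=
  (MultilinearMap.mkPiAlgebra S (Fin d) (S ⊗[R] (⨂[R] _ : Fin d, R'))).compLinearMap
    (fun j => (rho (R := R) (R' := R') (d := d) S j).toLinearMap)

theorem mu_apply (n : Fin d → S ⊗[R] R') :
    mu (R := R) (R' := R') (d := d) S n = ∏ j, rho (R := R) (R' := R') (d := d) S j (n j) := by
  simp only [mu, MultilinearMap.compLinearMap_apply, MultilinearMap.mkPiAlgebra_apply,
    AlgHom.toLinearMap_apply]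

theorem DS_comp_mu (e : Module.Basis (Fin d) R R') :
    (DS S e).compMultilinearMap (mu (R := R) (R' := R') (d := d) S) =
      (Algebra.TensorProduct.basis S e).det.toMultilinearMap := by
  classical
  refine Module.Basis.ext_multilinear (fun _ => Algebra.TensorProduct.basis S e) fun f => ?_
  have hL : (DS S e).compMultilinearMap (mu (R := R) (R' := R') (d := d) S)
      (fun i => (Algebra.TensorProduct.basis S e) (f i)) =
      algebraMap R S (e.det (fun i => e (f i))) := by
    rw [LinearMap.compMultilinearMap_apply, mu_apply]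
    simp only [Algebra.TensorProduct.basis_apply]
    rw [prod_rho_one_tmul S (fun j => e (f j)), DS_tmul, one_mul, detT_tprod]
  rw [hL, AlternatingMap.coe_multilinearMap, Module.Basis.det_apply, Module.Basis.det_apply,
    RingHom.map_det]
  congr 1
  ext i j
  simp [Module.Basis.toMatrix_apply, Algebra.TensorProduct.basis_repr_tmul]
  rw [Finsupp.single_apply, Finsupp.single_apply]
  split_ifs <;> simp

theorem key_norm (e : Module.Basis (Fin d) R R') (x : S ⊗[R] R') :
    (detT e ∘ₗ LinearMap.mulRight R (PiTensorProduct.tprod R e)).lTensor S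
      (∏ j : Fin d, rho (R := R) (R' := R') (d := d) S j x) = Algebra.norm S x ⊗ₜ[R] (1 : R) := by
  classical
  rw [lTensor_detT_mulRight]
  congr 1
  rw [← prod_rho_one_tmul S e, ← Finset.prod_mul_distrib]
  rw [show ∏ j, (rho (R := R) (R' := R') (d := d) S j x *
        rho (R := R) (R' := R') (d := d) S j ((1 : S) ⊗ₜ[R] e j)) =
      ∏ j, rho (R := R) (R' := R') (d := d) S j (x * ((1 : S) ⊗ₜ[R] e j)) from
    Finset.prod_congr rfl (fun j _ => (map_mul (rho (R := R) (R' := R') (d := d) S j) x _).symm)]
  have h := congrArg (fun g => g (fun j => x * ((1 : S) ⊗ₜ[R] e j))) (DS_comp_mu S e)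
  simp only [LinearMap.compMultilinearMap_apply, mu_apply, AlternatingMap.coe_multilinearMap] at h
  rw [h, Module.Basis.det_apply, Algebra.norm_eq_matrix_det (Algebra.TensorProduct.basis S e)]
  congr 1
  ext i j
  rw [Module.Basis.toMatrix_apply, Algebra.leftMulMatrix_eq_repr_mul,
    Algebra.TensorProduct.basis_apply]

theorem postcomp_psi_eq_normLaw [Module.Free R R'] [Module.Finite R R']
    (hd : Module.finrank R R' = d) {C : Type u} [CommRing C] [Algebra R C]
    (γ : PolLaw.MulLaw R R' C d) (φ : C →ₐ[R] (⨂[R] _ : Fin d, R'))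
    (hφ : PolLaw.MulLaw.postcomp φ γ = SymTen.tpowLaw R R' d)
    (hsym : ∀ σ c, SymTen.perm R R' d σ (φ c) = φ c) (e : Module.Basis (Fin d) R R') :
    PolLaw.postcomp (psi φ hsym e).toLinearMap γ.law = (PolLaw.normLaw R R' d hd).law := by
  apply law_ext_ring
  intro S _ _ x
  rw [postcomp_toFun', psi_toLinearMap, LinearMap.lTensor_comp, LinearMap.comp_apply]
  have h1 : PolLaw.postcomp φ.toLinearMap γ.law = (SymTen.tpowLaw R R' d).law :=
    congrArg PolLaw.MulLaw.law hφ
  have h2 : φ.toLinearMap.lTensor S (γ.law.toFun' S x) =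
      (SymTen.tpowLaw R R' d).law.toFun' S x := by
    rw [← h1]
    rfl
  rw [h2, PolLaw.normLaw_apply]
  exact key_norm S e x

end Norm

end Groth.Agent.Lib.Helper99.SymNorm
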