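import Mathlib

/-!
# ℤ-graded modules over a nonnegatively graded algebra of finite type over a field (helper99)

* `coe_decompose_smul_of_mem` : the degree-`n` component of `a • m` for `m` homogeneous of degree `e`.
* `finite_piece_ring`, `finite_piece` : graded pieces are finite-dimensional.
-/

set_option autoImplicit false
universe u

namespace Groth.Agent.Lib.Helper99

open DirectSum

section Proj

variable {R : Type*} [CommRing R] {σ : Type*} [SetLike σ R] [AddSubgroupClass σ R]
  (𝒜 : ℤ → σ) [GradedRing 𝒜]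
  {M : Type*} [AddCommGroup M] [Module R M] {τ : Type*} [SetLike τ M] [AddSubgroupClass τ M]
  (ℳ : ℤ → τ) [DirectSum.Decomposition ℳ] [SetLike.GradedSMul 𝒜 ℳ]

/-- the degree-`n` component of `a • m`, `m` homogeneous of degree `e`, is `a_{n-e} • m` -/
theorem coe_decompose_smul_of_mem (a : R) {m : M} {e : ℤ} (hm : m ∈ ℳ e) (n : ℤ) :
    ((decompose ℳ (a • m)) n : M) = ((decompose 𝒜 a) (n - e) : R) • m := by
  induction a using DirectSum.Decomposition.inductionOn 𝒜 with
  | zero => simp
  | @homogeneous i a =>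
    have h1 : (a : R) • m ∈ ℳ (i + e) := SetLike.GradedSMul.smul_mem a.2 hm
    by_cases h : i + e = n
    · subst h
      rw [decompose_of_mem_same ℳ h1]
      have : i + e - e = i := by ring
      rw [this, decompose_of_mem_same 𝒜 a.2]
    · rw [decompose_of_mem_ne ℳ h1 h]
      have h' : i ≠ n - e := fun h'' => h (by omega)
      rw [decompose_of_mem_ne 𝒜 a.2 h', zero_smul]
  | add a b ha hb =>
    rw [add_smul, decompose_add, DirectSum.add_apply, AddMemClass.coe_add, ha, hb, decompose_add,
      DirectSum.add_apply, AddMemClass.coe_add, add_smul]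

/-- an element of degree `n` in the `R`-span of finitely many homogeneous elements is a combination with
homogeneous coefficients of the complementary degrees -/
theorem exists_homogeneous_coeff (u : Finset M) (deg : M → ℤ) (hu : ∀ m ∈ u, m ∈ ℳ (deg m))
    {x : M} (hx : x ∈ Submodule.span R (u : Set M)) {n : ℤ} (hxn : x ∈ ℳ n) :
    ∃ c : M → R, (∀ m ∈ u, c m ∈ 𝒜 (n - deg m)) ∧ x = ∑ m ∈ u, c m • m := by
  classical
  obtain ⟨c, hc⟩ := Submodule.mem_span_finset'.mp hx
  refine ⟨fun m => ((decompose 𝒜 (if h : m ∈ u then c ⟨m, h⟩ else 0)) (n - deg m) : R), ?_, ?_⟩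
  · intro m _
    exact SetLike.coe_mem _
  · have h1 : x = ((decompose ℳ x) n : M) := (decompose_of_mem_same ℳ hxn).symm
    rw [h1, ← hc, decompose_sum, DFinsupp.finsetSum_apply, AddSubmonoidClass.coe_finsetSum]
    rw [← Finset.sum_attach u (fun m => _ • m)]
    refine Finset.sum_congr rfl ?_
    intro m _
    rw [coe_decompose_smul_of_mem 𝒜 ℳ _ (hu m.1 m.2), dif_pos m.2]

end Proj

section Field

variable {k : Type*} [Field k] {R : Type*} [CommRing R] [Algebra k R]
  (𝒜 : ℤ → Submodule k R) [GradedAlgebra 𝒜]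
  {M : Type*} [AddCommGroup M] [Module R M] [Module k M] [IsScalarTower k R M]
  (ℳ : ℤ → AddSubgroup M) [DirectSum.Decomposition ℳ] [SetLike.GradedSMul 𝒜 ℳ]

theorem algebraMap_mem_zero (c : k) : algebraMap k R c ∈ 𝒜 0 := by
  rw [Algebra.algebraMap_eq_smul_one]
  exact (𝒜 0).smul_mem c SetLike.GradedOne.one_mem

include 𝒜 in
theorem smul_mem_piece (c : k) {x : M} {n : ℤ} (hx : x ∈ ℳ n) : c • x ∈ ℳ n := by
  have h0 : c • x = (algebraMap k R c) • x := (algebraMap_smul R c x).symm
  rw [h0]
  have := SetLike.GradedSMul.smul_mem (A := 𝒜) (B := ℳ) (algebraMap_mem_zero 𝒜 c) hx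
  simpa using this

/-- the degree-`n` piece of a graded module as a `k`-subspace -/
def pieceK (n : ℤ) : Submodule k M where
  carrier := ℳ n
  add_mem' := add_mem
  zero_mem' := zero_mem _
  smul_mem' c _ hx := smul_mem_piece 𝒜 ℳ c hx

@[simp] theorem mem_pieceK {n : ℤ} {x : M} : x ∈ pieceK 𝒜 ℳ n ↔ x ∈ ℳ n := Iff.rfl

/-- graded pieces of a graded module generated over `R` by finitely many homogeneous elements are finite-dimensional,
provided the pieces of `R` are -/
theorem finite_pieceK_of_span (hR : ∀ n, Module.Finite k (𝒜 n)) (u : Finset M) (deg : M → ℤ)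
    (hu : ∀ m ∈ u, m ∈ ℳ (deg m)) (N : Submodule R M) (hN : N = Submodule.span R (u : Set M)) (n : ℤ)
    (P : Submodule k M) (hP : ∀ x ∈ P, x ∈ N ∧ x ∈ ℳ n) : Module.Finite k P := by
  let S : {m // m ∈ u} → Submodule k M := fun m =>
    (𝒜 (n - deg m.1)).map ((LinearMap.toSpanSingleton R M m.1).restrictScalars k)
  have hS : ∀ m, Module.Finite k (S m) := fun m => by
    haveI := hR (n - deg m.1)
    exact Module.Finite.map _ _
  have hfin : FiniteDimensional k (⨆ m, S m : Submodule k M) := Submodule.finiteDimensional_iSup S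
  have hle : P ≤ ⨆ m, S m := by
    intro x hx
    obtain ⟨hxN, hxn⟩ := hP x hx
    rw [hN] at hxN
    obtain ⟨c, hc, rfl⟩ := exists_homogeneous_coeff 𝒜 ℳ u deg hu hxN hxn
    rw [← Finset.sum_attach u (fun m => c m • m)]
    refine Submodule.sum_mem _ fun m _ => ?_
    refine Submodule.mem_iSup_of_mem m ?_
    exact ⟨c m.1, hc m.1 m.2, rfl⟩
  exact Submodule.finiteDimensional_of_le hle

/-- finitely many homogeneous generators of an `R`-submodule spanned by homogeneous elements -/
theorem exists_finset_homogeneous_span (N : Submodule R M) (hfg : N.FG) (s : Set M)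
    (hs : ∀ m ∈ s, ∃ n, m ∈ ℳ n) (hN : N = Submodule.span R s) :
    ∃ (u : Finset M) (deg : M → ℤ), (u : Set M) ⊆ s ∧ (∀ m ∈ u, m ∈ ℳ (deg m)) ∧
      N = Submodule.span R (u : Set M) := by
  classical
  rw [hN] at hfg
  obtain ⟨u, hus, hu⟩ := (Submodule.fg_span_iff_fg_span_finset_subset _).mp hfg
  refine ⟨u, fun m => if h : ∃ n, m ∈ ℳ n then h.choose else 0, hus, ?_, hN.trans hu⟩
  intro m hm
  have h := hs m (hus hm)
  simp only [dif_pos h]
  exact h.choose_spec

/-- the graded pieces of a nonnegatively graded algebra of finite type over a field `k`, with degree-zero part `k`,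
are finite-dimensional -/
theorem finite_piece_ring (hpos : ∀ n : ℤ, n < 0 → 𝒜 n = ⊥) (h0 : 𝒜 0 = Submodule.span k {(1 : R)})
    [Algebra.FiniteType k R] (n : ℤ) : Module.Finite k (𝒜 n) := by
  classical
  haveI : IsNoetherianRing R := Algebra.FiniteType.isNoetherianRing k R
  -- the irrelevant ideal and homogeneous generators of positive degree
  let s : Set R := ⋃ n ∈ Set.Ioi (0 : ℤ), (𝒜 n : Set R)
  have hs : ∀ m ∈ s, ∃ n, 0 < n ∧ m ∈ 𝒜 n := by
    intro m hm
    simp only [s, Set.mem_iUnion, Set.mem_Ioi, SetLike.mem_coe] at hm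
    obtain ⟨n, hn, hmn⟩ := hm
    exact ⟨n, hn, hmn⟩
  obtain ⟨u, hus, hu⟩ := (Submodule.fg_span_iff_fg_span_finset_subset _).mp
    (IsNoetherian.noetherian (Submodule.span R s))
  let deg : R → ℤ := fun m => if h : ∃ n, 0 < n ∧ m ∈ 𝒜 n then h.choose else 1
  have hdeg : ∀ m ∈ u, 0 < deg m ∧ m ∈ 𝒜 (deg m) := by
    intro m hm
    have h := hs m (hus hm)
    simp only [deg, dif_pos h]
    exact h.choose_spec
  -- induction
  have key : ∀ N : ℕ, ∀ n : ℤ, n < N → Module.Finite k (𝒜 n) := by
    intro N
    induction N with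
    | zero =>
      intro n hn
      rw [hpos n (by simpa using hn)]
      infer_instance
    | succ N ih =>
      intro n hn
      by_cases hlt : n < N
      · exact ih n hlt
      have hnN : n = N := by push_cast at hn; omega
      by_cases hN0 : N = 0
      · subst hN0
        simp only [Nat.cast_zero] at hnN
        rw [hnN, h0]
        infer_instance
      have hnpos : 0 < n := by omega
      have hR : ∀ m : R, m ∈ u → Module.Finite k (𝒜 (n - deg m)) := fun m hm =>
        ih _ (by have := (hdeg m hm).1; omega)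
      -- express via the generic lemma with modified pieces
      let S : {m // m ∈ u} → Submodule k R := fun m =>
        (𝒜 (n - deg m.1)).map ((LinearMap.toSpanSingleton R R m.1).restrictScalars k)
      have hS : ∀ m, Module.Finite k (S m) := fun m => by
        have := hR m.1 m.2
        exact Module.Finite.map _ _
      have hfin : FiniteDimensional k (⨆ m, S m : Submodule k R) := Submodule.finiteDimensional_iSup S
      have hle : 𝒜 n ≤ ⨆ m, S m := by
        intro x hx
        have hxs : x ∈ Submodule.span R s := by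
          apply Submodule.subset_span
          simp only [s, Set.mem_iUnion, Set.mem_Ioi, SetLike.mem_coe]
          exact ⟨n, hnpos, hx⟩
        rw [hu] at hxs
        obtain ⟨c, hc, rfl⟩ := exists_homogeneous_coeff 𝒜 𝒜 u deg (fun m hm => (hdeg m hm).2) hxs hx
        rw [← Finset.sum_attach u (fun m => c m • m)]
        refine Submodule.sum_mem _ fun m _ => ?_
        refine Submodule.mem_iSup_of_mem m ?_
        exact ⟨c m.1, hc m.1 m.2, rfl⟩
      exact Submodule.finiteDimensional_of_le hle
  exact key (n.toNat + 1) n (by push_cast; omega)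

/-- the graded pieces of a finitely generated graded module over such an algebra are finite-dimensional -/
theorem finite_pieceK (hpos : ∀ n : ℤ, n < 0 → 𝒜 n = ⊥) (h0 : 𝒜 0 = Submodule.span k {(1 : R)})
    [Algebra.FiniteType k R] [Module.Finite R M] (n : ℤ) : Module.Finite k (pieceK 𝒜 ℳ n) := by
  classical
  have htop : (⊤ : Submodule R M) = Submodule.span R (⋃ n, (ℳ n : Set M)) := by
    symm
    rw [eq_top_iff]
    intro x _
    rw [← DirectSum.sum_support_decompose ℳ x]
    refine Submodule.sum_mem _ fun i _ => Submodule.subset_span ?_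
    exact Set.mem_iUnion.mpr ⟨i, SetLike.coe_mem _⟩
  obtain ⟨u, deg, _, hu, hspan⟩ := exists_finset_homogeneous_span ℳ (⊤ : Submodule R M)
    Module.Finite.fg_top (⋃ n, (ℳ n : Set M))
    (fun m hm => by simpa using hm) htop
  exact finite_pieceK_of_span 𝒜 ℳ (finite_piece_ring 𝒜 hpos h0) u deg hu ⊤ hspan n _
    (fun x hx => ⟨Submodule.mem_top, hx⟩)

end Field

end Groth.Agent.Lib.Helper99
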