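import Groth.Prelude.Def_GrSeg
import Groth.Agent.Lib.Helper99.GrMod

/-!
# Graded duals (`GrSeg.IsGDual`): separation and representability lemmas (helper99)
-/

set_option autoImplicit false
universe u

namespace Groth.Agent.Lib.Helper99

open DirectSum

section Dual

variable {k : Type u} [Field k] {R : Type u} [CommRing R] [Algebra k R]
  {M : Type u} [AddCommGroup M] [Module R M] [Module k M] [IsScalarTower k R M]
  {ℳ : ℤ → AddSubgroup M} [DirectSum.Decomposition ℳ]
  {D : Type u} [AddCommGroup D] [Module R D] [Module k D] [IsScalarTower k R D]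
  {𝒟 : ℤ → AddSubgroup D} [DirectSum.Decomposition 𝒟]
  {β : D →ₗ[k] M →ₗ[k] k}

/-- pairing with a homogeneous `d ∈ D_n` only sees the component of degree `-n` -/
theorem gdual_pair_proj (hD : GrSeg.IsGDual R ℳ 𝒟 β) {n : ℤ} {d : D} (hd : d ∈ 𝒟 n) (y : M) :
    β d y = β d ((decompose ℳ y) (-n) : M) := by
  induction y using DirectSum.Decomposition.inductionOn ℳ with
  | zero => simp
  | @homogeneous i y =>
    by_cases h : i = -n
    · subst h
      rw [decompose_of_mem_same ℳ y.2]
    · rw [decompose_of_mem_ne ℳ y.2 h, map_zero]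
      exact hD.vanish n d hd i h y y.2
  | add y y' hy hy' =>
    rw [map_add, hy, hy', decompose_add, DirectSum.add_apply, AddMemClass.coe_add, map_add]

/-- pairing with a homogeneous `y ∈ M_n` only sees the component of degree `-n` -/
theorem gdual_pair_proj_left (hD : GrSeg.IsGDual R ℳ 𝒟 β) {n : ℤ} {y : M} (hy : y ∈ ℳ n) (d : D) :
    β d y = β ((decompose 𝒟 d) (-n) : D) y := by
  induction d using DirectSum.Decomposition.inductionOn 𝒟 with
  | zero => simp
  | @homogeneous i d =>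
    by_cases h : i = -n
    · subst h
      rw [decompose_of_mem_same 𝒟 d.2]
    · rw [decompose_of_mem_ne 𝒟 d.2 h, map_zero, LinearMap.zero_apply]
      exact hD.vanish i d d.2 n (fun h' => h (by omega)) y hy
  | add d d' hd hd' =>
    rw [map_add, LinearMap.add_apply, hd, hd', decompose_add, DirectSum.add_apply, AddMemClass.coe_add, map_add,
      LinearMap.add_apply]

/-- a homogeneous element of `M` pairing to zero with the complementary piece of `D` is zero -/
theorem gdual_sep_homogeneous (hD : GrSeg.IsGDual R ℳ 𝒟 β) {m : ℤ} {y : M} (hy : y ∈ ℳ m)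
    (h : ∀ d ∈ 𝒟 (-m), β d y = 0) : y = 0 := by
  rw [← Module.forall_dual_apply_eq_zero_iff k]
  intro φ
  obtain ⟨d, hd, hdφ⟩ := hD.exists_eq (-m) φ
  have hy' : y ∈ ℳ (- -m) := by rwa [neg_neg]
  rw [← hdφ y hy']
  exact h d hd

/-- an element of `M` pairing to zero with all of `D` is zero -/
theorem gdual_sep (hD : GrSeg.IsGDual R ℳ 𝒟 β) {y : M} (h : ∀ d, β d y = 0) : y = 0 := by
  have h1 : ∀ m, ((decompose ℳ y) m : M) = 0 := by
    intro m
    apply gdual_sep_homogeneous hD (SetLike.coe_mem _)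
    intro d hd
    have := gdual_pair_proj hD hd y
    rw [neg_neg] at this
    rw [← this]
    exact h d
  have h2 : decompose ℳ y = 0 := by
    ext m
    rw [h1 m]
    rfl
  exact (decompose ℳ).injective (h2.trans (decompose_zero ℳ).symm)

section Rep

variable (𝒜 : ℤ → Submodule k R) [GradedAlgebra 𝒜] [SetLike.GradedSMul 𝒜 ℳ] [SetLike.GradedSMul 𝒜 𝒟]

/-- when `M_n` is finite-dimensional, every functional on `D_{-n}` is pairing with an element of `M_n` -/
theorem gdual_exists_rep_piece (hD : GrSeg.IsGDual R ℳ 𝒟 β) (n : ℤ) [Module.Finite k (pieceK 𝒜 ℳ n)]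
    (ℓ : D →ₗ[k] k) : ∃ y ∈ ℳ n, ∀ d ∈ 𝒟 (-n), β d y = ℓ d := by
  let V : Submodule k M := pieceK 𝒜 ℳ n
  let W : Submodule k D := pieceK 𝒜 𝒟 (-n)
  let B : W →ₗ[k] Module.Dual k V := β.compl₁₂ W.subtype V.subtype
  have hBinj : Function.Injective B := by
    rw [← LinearMap.ker_eq_bot, LinearMap.ker_eq_bot']
    intro d hd
    apply Subtype.ext
    apply hD.eq_zero (-n) d.1 d.2
    intro x hx
    rw [neg_neg] at hx
    have := LinearMap.congr_fun hd (⟨x, hx⟩ : V)
    simpa [B] using this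
  have hBsurj : Function.Surjective B := by
    intro ψ
    obtain ⟨g, hg⟩ := LinearMap.exists_extend ψ
    obtain ⟨d, hd, hdg⟩ := hD.exists_eq (-n) g
    refine ⟨⟨d, hd⟩, ?_⟩
    ext x
    have hx : (x : M) ∈ ℳ (- -n) := by rw [neg_neg]; exact x.2
    have h1 := hdg x hx
    have h2 : g x = ψ x := by rw [← hg]; rfl
    simp only [B, LinearMap.compl₁₂_apply, Submodule.subtype_apply]
    rw [h1, h2]
  let e : W ≃ₗ[k] Module.Dual k V := LinearEquiv.ofBijective B ⟨hBinj, hBsurj⟩
  let ℓ' : Module.Dual k (Module.Dual k V) := (ℓ ∘ₗ W.subtype) ∘ₗ e.symm.toLinearMap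
  let y : V := (Module.evalEquiv k V).symm ℓ'
  have hy : ∀ ψ : Module.Dual k V, ψ y = ℓ' ψ := by
    intro ψ
    have := LinearEquiv.apply_symm_apply (Module.evalEquiv k V) ℓ'
    have h2 := LinearMap.congr_fun this ψ
    rw [← h2]
    rfl
  refine ⟨y.1, y.2, ?_⟩
  intro d hd
  have h3 := hy (e ⟨d, hd⟩)
  simp only [ℓ', LinearMap.comp_apply, LinearEquiv.coe_coe, LinearEquiv.symm_apply_apply,
    Submodule.subtype_apply] at h3
  rw [← h3]
  rfl

/-- a functional on `D` supported in degree `-n` is pairing with an element of `M_n` -/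
theorem gdual_exists_rep (hD : GrSeg.IsGDual R ℳ 𝒟 β) (n : ℤ) [Module.Finite k (pieceK 𝒜 ℳ n)]
    (ℓ : D →ₗ[k] k) (hℓ : ∀ m, m ≠ -n → ∀ d ∈ 𝒟 m, ℓ d = 0) : ∃ y ∈ ℳ n, ∀ d, β d y = ℓ d := by
  obtain ⟨y, hy, hyℓ⟩ := gdual_exists_rep_piece 𝒜 hD n ℓ
  refine ⟨y, hy, ?_⟩
  intro d
  induction d using DirectSum.Decomposition.inductionOn 𝒟 with
  | zero => simp
  | @homogeneous i d =>
    by_cases h : i = -n
    · subst h
      exact hyℓ d.1 d.2
    · rw [hℓ i h d.1 d.2]
      exact hD.vanish i d.1 d.2 n (fun h' => h (by omega)) y hy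
  | add d d' hd hd' =>
    rw [map_add, LinearMap.add_apply, hd, hd', map_add]

end Rep

end Dual

end Groth.Agent.Lib.Helper99
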