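import Groth.Agent.Lib.Helper99.GrMod

/-!
# More on ℤ-graded modules (helper99)
-/

set_option autoImplicit false
universe u

namespace Groth.Agent.Lib.Helper99

open DirectSum

section Proj

variable {R : Type*} [CommRing R] {σ : Type*} [SetLike σ R] [AddSubgroupClass σ R]
  (𝒜 : ℤ → σ) [GradedRing 𝒜]
  {M : Type*} [AddCommGroup M] [Module R M] {τ : Type*} [SetLike τ M] [AddSubgroupClass τ M]
  (ℳ : ℤ → τ) [DirectSum.Decomposition ℳ] [SetLike.GradedSMul 𝒜 ℳ]

/-- the degree-`n` component of `r • y`, `r` homogeneous of degree `j`, is `r • y_{n-j}` -/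
theorem coe_decompose_smul_of_left_mem {r : R} {j : ℤ} (hr : r ∈ 𝒜 j) (y : M) (n : ℤ) :
    ((decompose ℳ (r • y)) n : M) = r • ((decompose ℳ y) (n - j) : M) := by
  induction y using DirectSum.Decomposition.inductionOn ℳ with
  | zero => simp
  | @homogeneous i y =>
    have h1 : r • (y : M) ∈ ℳ (j + i) := SetLike.GradedSMul.smul_mem hr y.2
    by_cases h : j + i = n
    · subst h
      rw [decompose_of_mem_same ℳ h1]
      have : j + i - j = i := by ring
      rw [this, decompose_of_mem_same ℳ y.2]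
    · rw [decompose_of_mem_ne ℳ h1 h]
      have h' : i ≠ n - j := fun h'' => h (by omega)
      rw [decompose_of_mem_ne ℳ y.2 h', smul_zero]
  | add a b ha hb =>
    rw [smul_add, decompose_add, DirectSum.add_apply, AddMemClass.coe_add, ha, hb, decompose_add,
      DirectSum.add_apply, AddMemClass.coe_add, smul_add]

end Proj

section Hom

variable {R : Type*} [CommRing R]
  {M : Type*} [AddCommGroup M] [Module R M] {τ : Type*} [SetLike τ M] [AddSubgroupClass τ M]
  (ℳ : ℤ → τ) [DirectSum.Decomposition ℳ]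
  {N : Type*} [AddCommGroup N] [Module R N] {τ' : Type*} [SetLike τ' N] [AddSubgroupClass τ' N]
  (𝒩 : ℤ → τ') [DirectSum.Decomposition 𝒩]

/-- a degree-preserving linear map commutes with taking homogeneous components -/
theorem coe_decompose_map (f : M →ₗ[R] N) (hf : ∀ (g : ℤ) (m : M), m ∈ ℳ g → f m ∈ 𝒩 g) (x : M) (n : ℤ) :
    ((decompose 𝒩 (f x)) n : N) = f ((decompose ℳ x) n : M) := by
  induction x using DirectSum.Decomposition.inductionOn ℳ with
  | zero => simp
  | @homogeneous i y =>
    by_cases h : i = n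
    · subst h
      rw [decompose_of_mem_same 𝒩 (hf i y y.2), decompose_of_mem_same ℳ y.2]
    · rw [decompose_of_mem_ne 𝒩 (hf i y y.2) h, decompose_of_mem_ne ℳ y.2 h, map_zero]
  | add a b ha hb =>
    rw [map_add, decompose_add, DirectSum.add_apply, AddMemClass.coe_add, ha, hb, decompose_add,
      DirectSum.add_apply, AddMemClass.coe_add, map_add]

end Hom

section Field

variable {k : Type*} [Field k] {R : Type*} [CommRing R] [Algebra k R]
  (𝒜 : ℤ → Submodule k R) [GradedAlgebra 𝒜]
  {M : Type*} [AddCommGroup M] [Module R M] [Module k M] [IsScalarTower k R M]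
  (ℳ : ℤ → AddSubgroup M) [DirectSum.Decomposition ℳ] [SetLike.GradedSMul 𝒜 ℳ]

/-- a finitely generated graded module over a nonnegatively graded ring vanishes in low degrees -/
theorem exists_piece_eq_zero_of_lt (hpos : ∀ n : ℤ, n < 0 → 𝒜 n = ⊥) [Module.Finite R M] :
    ∃ b : ℤ, ∀ j : ℤ, j < b → ∀ x ∈ ℳ j, x = 0 := by
  classical
  have htop : (⊤ : Submodule R M) = Submodule.span R (⋃ n, (ℳ n : Set M)) := by
    symm
    rw [eq_top_iff]
    intro x _
    rw [← DirectSum.sum_support_decompose ℳ x]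
    refine Submodule.sum_mem _ fun i _ => Submodule.subset_span ?_
    exact Set.mem_iUnion.mpr ⟨i, SetLike.coe_mem _⟩
  obtain ⟨u, deg, _, hu, hspan⟩ := exists_finset_homogeneous_span ℳ (⊤ : Submodule R M)
    Module.Finite.fg_top (⋃ n, (ℳ n : Set M))
    (fun m hm => by simpa using hm) htop
  obtain ⟨b, hb⟩ : ∃ b : ℤ, ∀ m ∈ u, b ≤ deg m := by
    by_cases hne : u.Nonempty
    · exact ⟨(u.image deg).min' (hne.image deg), fun m hm =>
        Finset.min'_le _ _ (Finset.mem_image_of_mem deg hm)⟩
    · exact ⟨0, fun m hm => (hne ⟨m, hm⟩).elim⟩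
  refine ⟨b, fun j hj x hx => ?_⟩
  have hxs : x ∈ Submodule.span R (u : Set M) := by rw [← hspan]; exact Submodule.mem_top
  obtain ⟨c, hc, rfl⟩ := exists_homogeneous_coeff 𝒜 ℳ u deg hu hxs hx
  refine Finset.sum_eq_zero fun m hm => ?_
  have h1 := hc m hm
  rw [hpos (j - deg m) (by have := hb m hm; omega)] at h1
  rw [(Submodule.mem_bot k).mp h1, zero_smul]

/-- `R = k·1 + R_+` -/
theorem exists_sub_mem_irrelevant (hpos : ∀ n : ℤ, n < 0 → 𝒜 n = ⊥)
    (h0 : 𝒜 0 = Submodule.span k {(1 : R)}) (r : R) :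
    ∃ c : k, r - algebraMap k R c ∈ Ideal.span (⋃ n ∈ Set.Ioi (0 : ℤ), (𝒜 n : Set R)) := by
  classical
  have h1 : ((decompose 𝒜 r) 0 : R) ∈ Submodule.span k {(1 : R)} := by
    rw [← h0]; exact SetLike.coe_mem _
  obtain ⟨c, hc⟩ := Submodule.mem_span_singleton.mp h1
  refine ⟨c, ?_⟩
  rw [Algebra.algebraMap_eq_smul_one, hc]
  nth_rewrite 1 [← DirectSum.sum_support_decompose 𝒜 r]
  by_cases h0s : (0 : ℤ) ∈ (decompose 𝒜 r).support
  · rw [← Finset.add_sum_erase _ _ h0s, add_sub_cancel_left]
    refine Submodule.sum_mem _ fun i hi => ?_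
    have hi0 : i ≠ 0 := (Finset.mem_erase.mp hi).1
    have hine : ((decompose 𝒜 r) i : R) ≠ 0 := by
      have := (Finset.mem_erase.mp hi).2
      rw [DFinsupp.mem_support_iff] at this
      exact fun h => this (Subtype.ext h)
    have hipos : 0 < i := by
      by_contra hneg
      have hlt : i < 0 := by omega
      have hall : ∀ z ∈ 𝒜 i, z = 0 := by
        rw [hpos i hlt]
        exact fun z hz => (Submodule.mem_bot k).mp hz
      exact hine (hall _ (SetLike.coe_mem _))
    apply Ideal.subset_span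
    simp only [Set.mem_iUnion, Set.mem_Ioi, SetLike.mem_coe]
    exact ⟨i, hipos, SetLike.coe_mem _⟩
  · have hz : ((decompose 𝒜 r) 0 : R) = 0 := by
      rw [DFinsupp.mem_support_iff, not_not] at h0s
      rw [h0s]; rfl
    rw [hz, sub_zero]
    refine Submodule.sum_mem _ fun i hi => ?_
    have hine : ((decompose 𝒜 r) i : R) ≠ 0 := by
      rw [DFinsupp.mem_support_iff] at hi
      exact fun h => hi (Subtype.ext h)
    have hi0 : i ≠ 0 := fun h => by subst h; exact hine hz
    have hipos : 0 < i := by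
      by_contra hneg
      have hlt : i < 0 := by omega
      have hall : ∀ z ∈ 𝒜 i, z = 0 := by
        rw [hpos i hlt]
        exact fun z hz => (Submodule.mem_bot k).mp hz
      exact hine (hall _ (SetLike.coe_mem _))
    apply Ideal.subset_span
    simp only [Set.mem_iUnion, Set.mem_Ioi, SetLike.mem_coe]
    exact ⟨i, hipos, SetLike.coe_mem _⟩

end Field

end Groth.Agent.Lib.Helper99
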