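import Groth.Prelude.Def_GrSeg
import Groth.Agent.Lib.Helper99.GrDual
import Groth.Agent.Lib.Helper99.GrMod2

/-!
# Initial forms of submodules of a ℤ-graded module; chain conditions through the graded dual (helper99)
-/

set_option autoImplicit false
universe u

namespace Groth.Agent.Lib.Helper99

open DirectSum

section InForm

variable {R : Type*} [CommRing R] {σ : Type*} [SetLike σ R] [AddSubgroupClass σ R]
  (𝒜 : ℤ → σ) [GradedRing 𝒜]
  {D : Type*} [AddCommGroup D] [Module R D]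
  (𝒟 : ℤ → AddSubgroup D) [DirectSum.Decomposition 𝒟] [SetLike.GradedSMul 𝒜 𝒟]

/-- the degree-`i` initial components (for the order `s * ·`) of elements of `N` -/
def lowSet (s : ℤ) (N : Submodule R D) (i : ℤ) : Set D :=
  {c | ∃ y ∈ N, ((decompose 𝒟 y) i : D) = c ∧ ∀ j, s * j < s * i → ((decompose 𝒟 y) j : D) = 0}

theorem lowSet_zero (s : ℤ) (N : Submodule R D) (i : ℤ) : (0 : D) ∈ lowSet 𝒟 s N i :=
  ⟨0, N.zero_mem, by simp, fun j _ => by simp⟩

theorem lowSet_add (s : ℤ) (N : Submodule R D) (i : ℤ) {c c' : D} (hc : c ∈ lowSet 𝒟 s N i)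
    (hc' : c' ∈ lowSet 𝒟 s N i) : c + c' ∈ lowSet 𝒟 s N i := by
  obtain ⟨y, hy, rfl, hy0⟩ := hc
  obtain ⟨y', hy', rfl, hy0'⟩ := hc'
  refine ⟨y + y', N.add_mem hy hy', ?_, ?_⟩
  · rw [decompose_add, DirectSum.add_apply, AddMemClass.coe_add]
  · intro j hj
    rw [decompose_add, DirectSum.add_apply, AddMemClass.coe_add, hy0 j hj, hy0' j hj, add_zero]

theorem lowSet_mono (s : ℤ) {N N' : Submodule R D} (h : N ≤ N') (i : ℤ) :
    lowSet 𝒟 s N i ⊆ lowSet 𝒟 s N' i := by
  rintro c ⟨y, hy, hc, hy0⟩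
  exact ⟨y, h hy, hc, hy0⟩

include 𝒜 in
theorem lowSet_smul (s : ℤ) (N : Submodule R D) (r : R) {d : D}
    (hd : ∀ i, ((decompose 𝒟 d) i : D) ∈ lowSet 𝒟 s N i) :
    ∀ i, ((decompose 𝒟 (r • d)) i : D) ∈ lowSet 𝒟 s N i := by
  induction r using DirectSum.Decomposition.inductionOn 𝒜 with
  | zero =>
    intro i
    rw [zero_smul, decompose_zero]
    exact lowSet_zero 𝒟 s N i
  | @homogeneous j r =>
    intro i
    rw [coe_decompose_smul_of_left_mem 𝒜 𝒟 r.2 d i]
    obtain ⟨y, hy, hyc, hy0⟩ := hd (i - j)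
    refine ⟨(r : R) • y, N.smul_mem _ hy, ?_, ?_⟩
    · rw [coe_decompose_smul_of_left_mem 𝒜 𝒟 r.2 y i, hyc]
    · intro l hl
      rw [coe_decompose_smul_of_left_mem 𝒜 𝒟 r.2 y l, hy0 (l - j) (by nlinarith), smul_zero]
  | add r r' hr hr' =>
    intro i
    rw [add_smul, decompose_add, DirectSum.add_apply, AddMemClass.coe_add]
    exact lowSet_add 𝒟 s N i (hr i) (hr' i)

/-- the submodule of initial forms of `N` (for the order `s * ·` on degrees) -/
def inForm (s : ℤ) (N : Submodule R D) : Submodule R D where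
  carrier := {d | ∀ i, ((decompose 𝒟 d) i : D) ∈ lowSet 𝒟 s N i}
  add_mem' := by
    intro a b ha hb i
    rw [decompose_add, DirectSum.add_apply, AddMemClass.coe_add]
    exact lowSet_add 𝒟 s N i (ha i) (hb i)
  zero_mem' := by
    intro i
    rw [decompose_zero]
    exact lowSet_zero 𝒟 s N i
  smul_mem' := fun r d hd => lowSet_smul 𝒜 𝒟 s N r hd

theorem mem_inForm (s : ℤ) (N : Submodule R D) (d : D) :
    d ∈ inForm 𝒜 𝒟 s N ↔ ∀ i, ((decompose 𝒟 d) i : D) ∈ lowSet 𝒟 s N i := Iff.rfl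

theorem inForm_mono (s : ℤ) {N N' : Submodule R D} (h : N ≤ N') : inForm 𝒜 𝒟 s N ≤ inForm 𝒜 𝒟 s N' :=
  fun _ hd i => lowSet_mono 𝒟 s h i (hd i)

theorem coe_mem_inForm_of_mem_lowSet (s : ℤ) (N : Submodule R D) {i : ℤ} {c : D} (hci : c ∈ 𝒟 i)
    (hc : c ∈ lowSet 𝒟 s N i) : c ∈ inForm 𝒜 𝒟 s N := by
  intro l
  by_cases h : i = l
  · subst h
    rw [decompose_of_mem_same 𝒟 hci]
    exact hc
  · rw [decompose_of_mem_ne 𝒟 hci h]
    exact lowSet_zero 𝒟 s N l

theorem inForm_isHomogeneous (s : ℤ) (N : Submodule R D) : (inForm 𝒜 𝒟 s N).IsHomogeneous 𝒟 := by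
  intro i d hd
  exact coe_mem_inForm_of_mem_lowSet 𝒜 𝒟 s N (SetLike.coe_mem _) (hd i)

/-- if the grading of `D` is bounded (for the order `s * ·`), a submodule is determined among bigger
submodules by its initial forms -/
theorem le_of_inForm_le {s : ℤ} (hs : s = 1 ∨ s = -1) {N N' : Submodule R D} (hNN' : N ≤ N')
    (hin : inForm 𝒜 𝒟 s N' ≤ inForm 𝒜 𝒟 s N) (c : ℤ) (hc : ∀ n, c < s * n → ∀ d ∈ 𝒟 n, d = 0) :
    N' ≤ N := by
  classical
  have key : ∀ t : ℕ, ∀ x ∈ N', (∀ j, s * j < c + 1 - t → ((decompose 𝒟 x) j : D) = 0) → x ∈ N := by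
    intro t
    induction t with
    | zero =>
      intro x _ hx
      have h0 : ∀ j, ((decompose 𝒟 x) j : D) = 0 := by
        intro j
        by_cases hj : s * j < c + 1
        · exact hx j (by simpa using hj)
        · exact hc j (by omega) _ (SetLike.coe_mem _)
      have h2 : decompose 𝒟 x = 0 := by
        ext n
        rw [h0 n]; rfl
      have : x = 0 := (decompose 𝒟).injective (h2.trans (decompose_zero 𝒟).symm)
      rw [this]
      exact N.zero_mem
    | succ t ih =>
      intro x hx hx0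
      -- the index i with s * i = c - t
      obtain ⟨i, hi⟩ : ∃ i : ℤ, s * i = c - t := by
        rcases hs with rfl | rfl
        · exact ⟨c - t, by ring⟩
        · exact ⟨-(c - t), by ring⟩
      have hx0' : ∀ j, s * j < s * i → ((decompose 𝒟 x) j : D) = 0 := by
        intro j hj
        apply hx0 j
        push_cast
        omega
      have h1 : ((decompose 𝒟 x) i : D) ∈ lowSet 𝒟 s N' i := ⟨x, hx, rfl, hx0'⟩
      have h2 : ((decompose 𝒟 x) i : D) ∈ inForm 𝒜 𝒟 s N :=
        hin (coe_mem_inForm_of_mem_lowSet 𝒜 𝒟 s N' (SetLike.coe_mem _) h1)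
      have h3 := h2 i
      rw [decompose_of_mem_same 𝒟 (SetLike.coe_mem _)] at h3
      obtain ⟨y, hy, hyi, hy0⟩ := h3
      have hz : x - y ∈ N := by
        apply ih (x - y) (N'.sub_mem hx (hNN' hy))
        intro j hj
        rw [decompose_sub, DirectSum.sub_apply, AddSubgroupClass.coe_sub]
        by_cases hji : s * j < s * i
        · rw [hx0' j hji, hy0 j hji, sub_zero]
        · have hji' : s * j = s * i := by omega
          have : j = i := by
            rcases hs with rfl | rfl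
            · omega
            · omega
          subst this
          rw [hyi, sub_self]
      have : x = (x - y) + y := by abel
      rw [this]
      exact N.add_mem hz hy
  intro x hx
  -- a lower bound for the support of x
  obtain ⟨b, hb⟩ : ∃ b : ℤ, ∀ j, s * j < b → ((decompose 𝒟 x) j : D) = 0 := by
    by_cases hne : ((decompose 𝒟 x).support.image (fun j => s * j)).Nonempty
    · refine ⟨((decompose 𝒟 x).support.image (fun j => s * j)).min' hne, fun j hj => ?_⟩
      by_contra h0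
      have hmem : j ∈ (decompose 𝒟 x).support := by
        rw [DFinsupp.mem_support_iff]
        exact fun h => h0 (by rw [h]; rfl)
      have := Finset.min'_le _ _ (Finset.mem_image_of_mem (fun j => s * j) hmem)
      omega
    · refine ⟨0, fun j _ => ?_⟩
      by_contra h0
      apply hne
      have hmem : j ∈ (decompose 𝒟 x).support := by
        rw [DFinsupp.mem_support_iff]
        exact fun h => h0 (by rw [h]; rfl)
      exact ⟨s * j, Finset.mem_image_of_mem (fun j => s * j) hmem⟩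
  apply key (c + 1 - b).toNat x hx
  intro j hj
  apply hb j
  omega

end InForm

section Perp

variable {k : Type u} [Field k] {R : Type u} [CommRing R] [Algebra k R]
  (𝒜 : ℤ → Submodule k R) [GradedAlgebra 𝒜]
  {M : Type u} [AddCommGroup M] [Module R M] [Module k M] [IsScalarTower k R M]
  {ℳ : ℤ → AddSubgroup M} [DirectSum.Decomposition ℳ] [SetLike.GradedSMul 𝒜 ℳ]
  {D : Type u} [AddCommGroup D] [Module R D] [Module k D] [IsScalarTower k R D]
  {𝒟 : ℤ → AddSubgroup D} [DirectSum.Decomposition 𝒟] [SetLike.GradedSMul 𝒜 𝒟]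
  {β : D →ₗ[k] M →ₗ[k] k}

/-- the orthogonal in `M` of a submodule of the graded dual -/
def perp (hD : GrSeg.IsGDual R ℳ 𝒟 β) (G : Submodule R D) : Submodule R M where
  carrier := {x | ∀ d ∈ G, β d x = 0}
  add_mem' := by
    intro a b ha hb d hd
    rw [map_add, ha d hd, hb d hd, add_zero]
  zero_mem' := by
    intro d _
    rw [map_zero]
  smul_mem' := by
    intro r x hx d hd
    rw [← hD.map_smul]
    exact hx _ (G.smul_mem r hd)

theorem perp_antitone (hD : GrSeg.IsGDual R ℳ 𝒟 β) {G G' : Submodule R D} (h : G ≤ G') :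
    perp hD G' ≤ perp hD G := fun _ hx d hd => hx d (h hd)

/-- strictness of the orthogonal on homogeneous submodules, when the pieces of `M` are finite-dimensional -/
theorem exists_mem_perp_not_mem (hD : GrSeg.IsGDual R ℳ 𝒟 β) (hfin : ∀ n, Module.Finite k (pieceK 𝒜 ℳ n))
    {G G' : Submodule R D} (hG : G.IsHomogeneous 𝒟) (hG' : G'.IsHomogeneous 𝒟)
    {d : D} (hdG' : d ∈ G') (hdG : d ∉ G) : ∃ x, x ∈ perp hD G ∧ x ∉ perp hD G' := by
  classical
  -- a homogeneous component outside G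
  have hex : ∃ n, ((decompose 𝒟 d) n : D) ∉ G := by
    by_contra hall
    push Not at hall
    apply hdG
    rw [← DirectSum.sum_support_decompose 𝒟 d]
    exact Submodule.sum_mem _ fun i _ => hall i
  obtain ⟨n, hn⟩ := hex
  have hn' : ((decompose 𝒟 d) n : D) ∉ G.restrictScalars k := hn
  obtain ⟨φ, hφd, hφG⟩ := Submodule.exists_dual_map_eq_bot_of_notMem hn' inferInstance
  have hφ0 : ∀ g ∈ G, φ g = 0 := by
    intro g hg
    have : φ g ∈ Submodule.map φ (G.restrictScalars k) := ⟨g, hg, rfl⟩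
    rw [hφG] at this
    exact (Submodule.mem_bot k).mp this
  haveI := hfin (-n)
  obtain ⟨x, hx, hxφ⟩ := gdual_exists_rep_piece 𝒜 hD (-n) φ
  rw [neg_neg] at hxφ
  refine ⟨x, ?_, ?_⟩
  · intro g hg
    have h1 := gdual_pair_proj_left hD hx g
    rw [neg_neg] at h1
    rw [h1, hxφ _ (SetLike.coe_mem _)]
    exact hφ0 _ (hG n hg)
  · intro hxG'
    apply hφd
    rw [← hxφ _ (SetLike.coe_mem _)]
    exact hxG' _ (hG' n hdG')

/-- the strictly antitone map from submodules of `D` to submodules of `M` -/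
theorem strictAnti_perp_inForm (hD : GrSeg.IsGDual R ℳ 𝒟 β) (hfin : ∀ n, Module.Finite k (pieceK 𝒜 ℳ n))
    {s : ℤ} (hs : s = 1 ∨ s = -1) (c : ℤ) (hc : ∀ n, c < s * n → ∀ d ∈ 𝒟 n, d = 0) :
    StrictAnti (fun N : Submodule R D => perp hD (inForm 𝒜 𝒟 s N)) := by
  intro N N' hlt
  refine lt_of_le_of_ne (perp_antitone hD (inForm_mono 𝒜 𝒟 s hlt.le)) ?_
  intro heq
  have hnot : ¬ inForm 𝒜 𝒟 s N' ≤ inForm 𝒜 𝒟 s N := by
    intro hin
    exact (not_le_of_gt hlt) (le_of_inForm_le 𝒜 𝒟 hs hlt.le hin c hc)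
  obtain ⟨d, hdN', hdN⟩ := SetLike.not_le_iff_exists.mp hnot
  obtain ⟨x, hx, hx'⟩ := exists_mem_perp_not_mem 𝒜 hD hfin (inForm_isHomogeneous 𝒜 𝒟 s N)
    (inForm_isHomogeneous 𝒜 𝒟 s N') hdN' hdN
  apply hx'
  change x ∈ perp hD (inForm 𝒜 𝒟 s N')
  have : perp hD (inForm 𝒜 𝒟 s N') = perp hD (inForm 𝒜 𝒟 s N) := heq
  rw [this]
  exact hx

theorem isArtinian_gdual_of_isNoetherian (hD : GrSeg.IsGDual R ℳ 𝒟 β)
    (hfin : ∀ n, Module.Finite k (pieceK 𝒜 ℳ n)) (c : ℤ) (hc : ∀ n, c < n → ∀ d ∈ 𝒟 n, d = 0)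
    [IsNoetherian R M] : IsArtinian R D := by
  haveI : WellFoundedGT (Submodule R M) := isNoetherian_iff'.mp inferInstance
  exact (strictAnti_perp_inForm 𝒜 hD hfin (s := 1) (Or.inl rfl) c
    (fun n hn => hc n (by simpa using hn))).wellFoundedLT

theorem isNoetherian_gdual_of_isArtinian (hD : GrSeg.IsGDual R ℳ 𝒟 β)
    (hfin : ∀ n, Module.Finite k (pieceK 𝒜 ℳ n)) (c : ℤ) (hc : ∀ n, n < c → ∀ d ∈ 𝒟 n, d = 0)
    [IsArtinian R M] : IsNoetherian R D := by
  haveI : WellFoundedLT (Submodule R M) := inferInstance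
  rw [isNoetherian_iff']
  exact (strictAnti_perp_inForm 𝒜 hD hfin (s := -1) (Or.inr rfl) (-c)
    (fun n hn => hc n (by omega))).wellFoundedGT

/-- the transposed pairing presents `M` as the graded dual of `D`, when the pieces of `M` are finite-dimensional -/
theorem isGDual_flip (hD : GrSeg.IsGDual R ℳ 𝒟 β) (hfin : ∀ n, Module.Finite k (pieceK 𝒜 ℳ n)) :
    GrSeg.IsGDual R 𝒟 ℳ β.flip where
  map_smul r x d := by
    simp only [LinearMap.flip_apply]
    exact (hD.map_smul r d x).symm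
  vanish n x hx m hm d hd := by
    simp only [LinearMap.flip_apply]
    exact hD.vanish m d hd n (fun h => hm (by omega)) x hx
  eq_zero n x hx h := by
    apply gdual_sep_homogeneous hD hx
    intro d hd
    exact h d hd
  exists_eq n g := by
    haveI := hfin n
    obtain ⟨y, hy, hyg⟩ := gdual_exists_rep_piece 𝒜 hD n g
    exact ⟨y, hy, fun d hd => hyg d hd⟩

end Perp

section Art

variable {k : Type u} [Field k] {R : Type u} [CommRing R] [Algebra k R]
  (𝒜 : ℤ → Submodule k R) [GradedAlgebra 𝒜]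
  {M : Type u} [AddCommGroup M] [Module R M] [Module k M] [IsScalarTower k R M]
  (ℳ : ℤ → AddSubgroup M) [DirectSum.Decomposition ℳ] [SetLike.GradedSMul 𝒜 ℳ]

/-- the submodule of elements with no component of degree `< n`, for a nonnegatively graded ring -/
def geSub (hpos : ∀ n : ℤ, n < 0 → 𝒜 n = ⊥) (n : ℤ) : Submodule R M where
  carrier := {x | ∀ j, j < n → ((decompose ℳ x) j : M) = 0}
  add_mem' := by
    intro a b ha hb j hj
    rw [decompose_add, DirectSum.add_apply, AddMemClass.coe_add, ha j hj, hb j hj, add_zero]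
  zero_mem' := by
    intro j _
    rw [decompose_zero]; rfl
  smul_mem' := by
    intro r x hx
    induction r using DirectSum.Decomposition.inductionOn 𝒜 with
    | zero =>
      intro j _
      rw [zero_smul, decompose_zero]; rfl
    | @homogeneous i r =>
      intro j hj
      rw [coe_decompose_smul_of_left_mem 𝒜 ℳ r.2 x j]
      by_cases hi : i < 0
      · have hr : (r : R) = 0 := by
          have hall : ∀ z ∈ 𝒜 i, z = 0 := by
            rw [hpos i hi]
            exact fun z hz => (Submodule.mem_bot k).mp hz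
          exact hall _ r.2
        rw [hr, zero_smul]
      · rw [hx (j - i) (by omega), smul_zero]
    | add r r' hr hr' =>
      intro j hj
      rw [add_smul, decompose_add, DirectSum.add_apply, AddMemClass.coe_add, hr j hj, hr' j hj, add_zero]

/-- an Artinian graded module over a nonnegatively graded ring vanishes in high degrees -/
theorem exists_piece_eq_zero_of_gt (hpos : ∀ n : ℤ, n < 0 → 𝒜 n = ⊥) [IsArtinian R M] :
    ∃ c : ℤ, ∀ n : ℤ, c < n → ∀ x ∈ ℳ n, x = 0 := by
  let f : ℕ →o (Submodule R M)ᵒᵈ :=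
    ⟨fun m => OrderDual.toDual (geSub 𝒜 ℳ hpos (m : ℤ)), by
      intro a b hab
      change geSub 𝒜 ℳ hpos (b : ℤ) ≤ geSub 𝒜 ℳ hpos (a : ℤ)
      intro x hx j hj
      have hab' : (a : ℤ) ≤ b := by exact_mod_cast hab
      exact hx j (by omega)⟩
  obtain ⟨n₀, hn₀⟩ := IsArtinian.monotone_stabilizes f
  refine ⟨n₀, fun n hn x hx => ?_⟩
  have hn0 : 0 ≤ n := by omega
  obtain ⟨m, rfl⟩ := Int.eq_ofNat_of_zero_le hn0
  have hnm : n₀ < m := by exact_mod_cast hn
  have h1 : x ∈ geSub 𝒜 ℳ hpos (m : ℤ) := by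
    intro j hj
    exact decompose_of_mem_ne ℳ hx (by omega)
  have e1 : geSub 𝒜 ℳ hpos (n₀ : ℤ) = geSub 𝒜 ℳ hpos (m : ℤ) :=
    congrArg OrderDual.ofDual (hn₀ m hnm.le)
  have e2 : geSub 𝒜 ℳ hpos (n₀ : ℤ) = geSub 𝒜 ℳ hpos ((m + 1 : ℕ) : ℤ) :=
    congrArg OrderDual.ofDual (hn₀ (m + 1) (by omega))
  have h2 : x ∈ geSub 𝒜 ℳ hpos ((m + 1 : ℕ) : ℤ) := by rw [← e2, e1]; exact h1
  have h3 := h2 (m : ℤ) (by push_cast; omega)
  rw [decompose_of_mem_same ℳ hx] at h3
  exact h3

/-- the degree-`n` part of the `R`-span of a `k`-subspace of `M_n` is that subspace (`R_0 = k`) -/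
theorem mem_of_mem_span_of_mem_piece (h0 : 𝒜 0 = Submodule.span k {(1 : R)}) {n : ℤ} (U : Submodule k M)
    (hU : ∀ x ∈ U, x ∈ ℳ n) {x : M} (hx : x ∈ Submodule.span R (U : Set M)) (hxn : x ∈ ℳ n) : x ∈ U := by
  classical
  obtain ⟨c, hcs, rfl⟩ := Submodule.mem_span_set.mp hx
  have h1 := (decompose_of_mem_same ℳ hxn).symm
  rw [h1, Finsupp.sum, decompose_sum, DFinsupp.finsetSum_apply, AddSubmonoidClass.coe_finsetSum]
  refine Submodule.sum_mem _ fun m hm => ?_
  have hmU : m ∈ U := hcs hm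
  rw [coe_decompose_smul_of_mem 𝒜 ℳ (c m) (hU m hmU) n, sub_self]
  have h2 : ((decompose 𝒜 (c m)) 0 : R) ∈ Submodule.span k {(1 : R)} := by
    rw [← h0]; exact SetLike.coe_mem _
  obtain ⟨t, ht⟩ := Submodule.mem_span_singleton.mp h2
  rw [← ht, smul_assoc, one_smul]
  exact U.smul_mem t hmU

/-- the graded pieces of an Artinian graded module are finite-dimensional (`R_0 = k`) -/
theorem finite_pieceK_of_isArtinian (h0 : 𝒜 0 = Submodule.span k {(1 : R)}) [IsArtinian R M] (n : ℤ) :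
    Module.Finite k (pieceK 𝒜 ℳ n) := by
  let V : Submodule k M := pieceK 𝒜 ℳ n
  let ι : Submodule k V → Submodule R M := fun U => Submodule.span R ((U.map V.subtype : Submodule k M) : Set M)
  have hι : StrictMono ι := by
    intro U U' hlt
    refine lt_of_le_of_ne (Submodule.span_mono (Submodule.map_mono hlt.le)) ?_
    intro heq
    apply not_le_of_gt hlt
    intro v hv
    have h1 : (v : M) ∈ ι U' := Submodule.subset_span ⟨v, hv, rfl⟩
    have h1' : (v : M) ∈ ι U := by
      have : ι U = ι U' := heq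
      rw [this]; exact h1
    have h2 := mem_of_mem_span_of_mem_piece 𝒜 ℳ h0 (n := n) (U.map V.subtype)
      (by rintro x ⟨w, _, rfl⟩; exact w.2) h1' v.2
    obtain ⟨w, hw, hwv⟩ := h2
    have : w = v := Subtype.ext hwv
    rw [← this]; exact hw
  haveI : WellFoundedLT (Submodule k V) := hι.wellFoundedLT
  have hart : IsArtinian k V := inferInstance
  exact ((IsSemisimpleModule.finite_tfae (R := k) (M := V)).out 2 0).mp hart

end Art

end Groth.Agent.Lib.Helper99
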