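import Groth.Prelude.Def_HMNum

/-!
# Conjugation invariance of the GIT numerical function (helper99)

`IsMu B l (α·x) m → IsMu B (α⁻¹ l α) x m` for a `k`-point `α` of `G`, over `S = Spec k`, `k` a field.
-/

set_option autoImplicit false
universe u
open CategoryTheory MonoidalCategory CartesianMonoidalCategory MonObj AlgebraicGeometry Opposite

namespace Groth.Agent.Lib.Helper99

noncomputable section

variable {S : Scheme.{u}} {G X V : Over S} [GrpObj G]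

/-- points form of the unit law of an `AlgGrp.Action` -/
theorem act_one (a : AlgGrp.Action G X) {T : Over S} (x : T ⟶ X) :
    lift (1 : T ⟶ G) x ≫ a.act = x :=
  (Magnet.MonAct.ofAction a).lift_one_act x

/-- points form of the multiplication law of an `AlgGrp.Action` -/
theorem act_mul (a : AlgGrp.Action G X) {T : Over S} (g h : T ⟶ G) (x : T ⟶ X) :
    lift (g * h) x ≫ a.act = lift g (lift h x ≫ a.act) ≫ a.act :=
  (Magnet.MonAct.ofAction a).lift_mul_act g h x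

theorem act_inv_act (a : AlgGrp.Action G X) {T : Over S} (g : T ⟶ G) (x : T ⟶ X) :
    lift g⁻¹ (lift g x ≫ a.act) ≫ a.act = x := by
  rw [← act_mul, inv_mul_cancel, act_one]

theorem act_act_inv (a : AlgGrp.Action G X) {T : Over S} (g : T ⟶ G) (x : T ⟶ X) :
    lift g (lift g⁻¹ x ≫ a.act) ≫ a.act = x := by
  rw [← act_mul, mul_inv_cancel, act_one]

theorem comp_act (a : AlgGrp.Action G X) {T T' : Over S} (t : T' ⟶ T) (g : T ⟶ G) (x : T ⟶ X) :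
    t ≫ lift g x ≫ a.act = lift (t ≫ g) (t ≫ x) ≫ a.act := by
  rw [comp_lift_assoc]

/-- Conjugating the one-parameter subgroup and translating the point: limit points correspond. -/
theorem isLimitPt_conj (a : AlgGrp.Action G X) (l l' : Red.Gm S ⟶ G) [IsMonHom l] [IsMonHom l'] {T : Over S}
    (g₀ : T ⟶ G)
    (hl' : ∀ (T' : Over S) (t : T' ⟶ T) (g : T' ⟶ Red.Gm S), g ≫ l' = (t ≫ g₀)⁻¹ * (g ≫ l) * (t ≫ g₀))
    (x y : T ⟶ X) (h : HMNum.IsLimitPt a l (lift g₀ x ≫ a.act) y) :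
    HMNum.IsLimitPt a l' x (lift g₀⁻¹ y ≫ a.act) := by
  obtain ⟨φ, hφx, hφy⟩ := h
  have hφ := φ.2
  rw [Magnet.MonAct.mem_eqvHom_iff] at hφ
  refine ⟨⟨lift (snd _ _ ≫ g₀⁻¹) φ.1 ≫ a.act, ?_⟩, ?_, ?_⟩
  · rw [Magnet.MonAct.mem_eqvHom_iff]
    intro T' g b t
    rw [comp_lift_assoc, lift_snd_assoc, hφ, comp_lift_assoc, lift_snd_assoc,
      Magnet.MonAct.lift_restrict_act, Magnet.MonAct.lift_restrict_act, Magnet.MonAct.ofAction_act,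
      ← act_mul, ← act_mul, hl' T' t g, GrpObj.comp_inv]
    congr 2
    group
  · change lift (toUnit T ≫ η[_]) (𝟙 T) ≫ lift (snd _ _ ≫ g₀⁻¹) φ.1 ≫ a.act = x
    have h1 : lift (toUnit T ≫ η[_]) (𝟙 T) ≫ φ.1 = lift g₀ x ≫ a.act := hφx
    rw [comp_lift_assoc, lift_snd_assoc, Category.id_comp, h1, act_inv_act]
  · rw [HMNum.limitPt_eq] at hφy
    refine (HMNum.limitPt_eq (a := a) (l := l') _).trans ?_
    change lift (toUnit T ≫ HMNum.origin S) (𝟙 T) ≫ lift (snd _ _ ≫ g₀⁻¹) φ.1 ≫ a.act = _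
    rw [comp_lift_assoc, lift_snd_assoc, Category.id_comp, hφy]

theorem appLE_congr_hom {Y Z : Scheme.{u}} {f f' : Y ⟶ Z} (e : f = f') (U : Z.Opens) (W : Y.Opens)
    (h : W ≤ f ⁻¹ᵁ U) (h' : W ≤ f' ⁻¹ᵁ U) (s : Γ(Z, U)) : f.appLE U W h s = f'.appLE U W h' s := by
  subst e; rfl

theorem evalFn_congr (π : V ⟶ X) {U : X.left.Opens} (y : Γ(V.left, π.left ⁻¹ᵁ U)) {T' : Over S}
    {v v' : T' ⟶ V} (e : v = v') (h : ⊤ ≤ v.left ⁻¹ᵁ (π.left ⁻¹ᵁ U)) (h' : ⊤ ≤ v'.left ⁻¹ᵁ (π.left ⁻¹ᵁ U)) :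
    HMNum.evalFn π y v h = HMNum.evalFn π y v' h' := by
  subst e; rfl

/-- Evaluating the fibrewise-linearity identity at a point `(γ, u)` of `G × V`. -/
theorem linear_eval (a : AlgGrp.Action G X) (π : V ⟶ X) (Φ : AlgGrp.Action G V)
    (hπ : Φ.act ≫ π = (G ◁ π) ≫ a.act) {U U' : X.left.Opens}
    (y : Γ(V.left, π.left ⁻¹ᵁ U)) (y' : Γ(V.left, π.left ⁻¹ᵁ U'))
    (c : Γ((G ⊗ X).left, a.act.left ⁻¹ᵁ U' ⊓ (snd G X).left ⁻¹ᵁ U))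
    (hc : Φ.act.left.appLE (π.left ⁻¹ᵁ U') (GLinSh.liftOpen a π U U') (GLinSh.liftOpen_le_act a π Φ hπ) y' =
        (G ◁ π).left.appLE _ (GLinSh.liftOpen a π U U') (GLinSh.liftOpen_le_base a π) c *
          (snd G V).left.appLE (π.left ⁻¹ᵁ U) (GLinSh.liftOpen a π U U') (GLinSh.liftOpen_le_snd a π) y)
    {T' : Over S} (γ : T' ⟶ G) (u : T' ⟶ V) (q : T' ⟶ G ⊗ X) (hq : q = lift γ (u ≫ π))
    (hqU : ⊤ ≤ q.left ⁻¹ᵁ (a.act.left ⁻¹ᵁ U' ⊓ (snd G X).left ⁻¹ᵁ U))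
    (h1 : ⊤ ≤ u.left ⁻¹ᵁ (π.left ⁻¹ᵁ U)) (h2 : ⊤ ≤ (lift γ u ≫ Φ.act).left ⁻¹ᵁ (π.left ⁻¹ᵁ U')) :
    HMNum.evalFn π y' (lift γ u ≫ Φ.act) h2 = q.left.appLE _ ⊤ hqU c * HMNum.evalFn π y u h1 := by
  subst hq
  have hpq : lift γ u ≫ (G ◁ π) = lift γ (u ≫ π) := lift_whiskerLeft _ _ _
  have hp : ⊤ ≤ (lift γ u).left ⁻¹ᵁ (GLinSh.liftOpen a π U U') := by
    have e1 : (lift γ u).left ⁻¹ᵁ (GLinSh.liftOpen a π U U') =
        (lift γ u ≫ (G ◁ π)).left ⁻¹ᵁ (a.act.left ⁻¹ᵁ U' ⊓ (snd G X).left ⁻¹ᵁ U) := rfl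
    rw [e1, hpq]
    exact hqU
  have key := congrArg ((lift γ u).left.appLE _ ⊤ hp).hom hc
  rw [map_mul] at key
  simp only [← CommRingCat.comp_apply, Scheme.Hom.appLE_comp_appLE] at key
  unfold HMNum.evalFn
  refine Eq.trans ?_ (key.trans ?_)
  · rfl
  · congr 1
    · exact appLE_congr_hom (by rw [← Over.comp_left, hpq]) _ _ _ _ _
    · exact appLE_congr_hom (by rw [← Over.comp_left, lift_snd]) _ _ _ _ _

theorem isFixedBy_conj (a : AlgGrp.Action G X) (l l' : Red.Gm S ⟶ G) {T : Over S} (g₀ : T ⟶ G)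
    (hl' : ∀ (T' : Over S) (t : T' ⟶ T) (g : T' ⟶ Red.Gm S), g ≫ l' = (t ≫ g₀)⁻¹ * (g ≫ l) * (t ≫ g₀))
    (y : T ⟶ X) (h : HMNum.IsFixedBy a l y) : HMNum.IsFixedBy a l' (lift g₀⁻¹ y ≫ a.act) := by
  intro T' t g
  rw [comp_act, ← act_mul, hl' T' t g, GrpObj.comp_inv]
  have : (t ≫ g₀)⁻¹ * g ≫ l * t ≫ g₀ * (t ≫ g₀)⁻¹ = (t ≫ g₀)⁻¹ * (g ≫ l) := by group
  rw [this, act_mul, h T' t g]

end

section field

variable {k : Type u} [Field k] {G X : Over (Spec (CommRingCat.of k))} [GrpObj G]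

theorem preimage_eq_top_of_mem {X : Over (Spec (CommRingCat.of k))}
    (y : 𝟙_ (Over (Spec (CommRingCat.of k))) ⟶ X) (U : X.left.Opens)
    (h : y.left.base (default : ↥(Spec (CommRingCat.of k))) ∈ U) : y.left ⁻¹ᵁ U = ⊤ := by
  ext p
  have hp : p = (default : ↥(Spec (CommRingCat.of k))) :=
    Subsingleton.elim (α := ↥(Spec (CommRingCat.of k))) _ _
  subst hp
  simpa using h

theorem hasFibreWeight_conj {a : AlgGrp.Action G X} (B : GLinSh.LinBun G a)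
    (l l' : Red.Gm (Spec (CommRingCat.of k)) ⟶ G) (g₀ : 𝟙_ (Over (Spec (CommRingCat.of k))) ⟶ G)
    (hl' : ∀ (T' : Over (Spec (CommRingCat.of k))) (t : T' ⟶ 𝟙_ (Over (Spec (CommRingCat.of k))))
      (g : T' ⟶ Red.Gm (Spec (CommRingCat.of k))), g ≫ l' = (t ≫ g₀)⁻¹ * (g ≫ l) * (t ≫ g₀))
    (y : 𝟙_ (Over (Spec (CommRingCat.of k))) ⟶ X) (w : ℤ) (h : HMNum.HasFibreWeight B l y w) :
    HMNum.HasFibreWeight B l' (lift g₀⁻¹ y ≫ a.act) w := by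
  obtain ⟨hfix, U, yc, hyc, hU, hw⟩ := h
  refine ⟨isFixedBy_conj a l l' g₀ hl' y hfix, ?_⟩
  obtain ⟨U', hptU', y'c, hy'c⟩ := B.atlas.cover
    ((lift g₀⁻¹ y ≫ a.act).left.base (default : ↥(Spec (CommRingCat.of k))))
  have hU' : (lift g₀⁻¹ y ≫ a.act).left ⁻¹ᵁ U' = ⊤ := preimage_eq_top_of_mem _ _ hptU'
  obtain ⟨c, hc⟩ := B.lift_linear U U' yc y'c hyc hy'c
  refine ⟨U', y'c, hy'c, hU', ?_⟩
  intro T' t g v hv hgv
  have hu₀ : (lift (t ≫ g₀) v ≫ B.lift.act) ≫ B.π = t ≫ y := by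
    rw [Category.assoc, B.lift_π, lift_whiskerLeft_assoc, hv, comp_act, GrpObj.comp_inv, act_act_inv]
  have hu₁ : (lift (g ≫ l) (lift (t ≫ g₀) v ≫ B.lift.act) ≫ B.lift.act) ≫ B.π = t ≫ y := by
    rw [Category.assoc, B.lift_π, lift_whiskerLeft_assoc, hu₀, hfix T' t g]
  have e1 : lift (g ≫ l') v ≫ B.lift.act =
      lift (t ≫ g₀)⁻¹ (lift (g ≫ l) (lift (t ≫ g₀) v ≫ B.lift.act) ≫ B.lift.act) ≫ B.lift.act := by
    rw [hl' T' t g, act_mul, act_mul]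
  have e2 : v = lift (t ≫ g₀)⁻¹ (lift (t ≫ g₀) v ≫ B.lift.act) ≫ B.lift.act := by
    rw [act_inv_act]
  have hqU : ⊤ ≤ (lift (t ≫ g₀)⁻¹ (t ≫ y)).left ⁻¹ᵁ (a.act.left ⁻¹ᵁ U' ⊓ (snd G X).left ⁻¹ᵁ U) := by
    have e3 : (lift (t ≫ g₀)⁻¹ (t ≫ y)).left ⁻¹ᵁ (a.act.left ⁻¹ᵁ U' ⊓ (snd G X).left ⁻¹ᵁ U) =
        (lift (t ≫ g₀)⁻¹ (t ≫ y) ≫ a.act).left ⁻¹ᵁ U' ⊓ (lift (t ≫ g₀)⁻¹ (t ≫ y) ≫ snd G X).left ⁻¹ᵁ U := rfl
    have e4 : lift (t ≫ g₀)⁻¹ (t ≫ y) ≫ a.act = t ≫ (lift g₀⁻¹ y ≫ a.act) := by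
      rw [comp_act, GrpObj.comp_inv]
    have e5 : (t ≫ (lift g₀⁻¹ y ≫ a.act)).left ⁻¹ᵁ U' = t.left ⁻¹ᵁ ((lift g₀⁻¹ y ≫ a.act).left ⁻¹ᵁ U') := rfl
    have e6 : (t ≫ y).left ⁻¹ᵁ U = t.left ⁻¹ᵁ (y.left ⁻¹ᵁ U) := rfl
    rw [e3, e4, lift_snd, e5, e6, hU', hU]
    exact le_of_eq (by simp)
  have L1 := linear_eval a B.π B.lift B.lift_π yc y'c c hc (t ≫ g₀)⁻¹
    (lift (g ≫ l) (lift (t ≫ g₀) v ≫ B.lift.act) ≫ B.lift.act) (lift (t ≫ g₀)⁻¹ (t ≫ y)) (by rw [hu₁]) hqU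
    (HMNum.top_le_preimage B.π hU hu₁)
    (by rw [← e1]; exact HMNum.top_le_preimage B.π hU' hgv)
  have L0 := linear_eval a B.π B.lift B.lift_π yc y'c c hc (t ≫ g₀)⁻¹
    (lift (t ≫ g₀) v ≫ B.lift.act) (lift (t ≫ g₀)⁻¹ (t ≫ y)) (by rw [hu₀]) hqU
    (HMNum.top_le_preimage B.π hU hu₀)
    (by rw [← e2]; exact HMNum.top_le_preimage B.π hU' hv)
  have W := hw T' t g (lift (t ≫ g₀) v ≫ B.lift.act) hu₀ hu₁
  rw [evalFn_congr B.π y'c e1 _ (by rw [← e1]; exact HMNum.top_le_preimage B.π hU' hgv), L1, W,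
    evalFn_congr B.π y'c e2 _ (by rw [← e2]; exact HMNum.top_le_preimage B.π hU' hv), L0]
  ring

theorem conj_pointwise (l l' : Red.Gm (Spec (CommRingCat.of k)) ⟶ G)
    (g₀ : 𝟙_ (Over (Spec (CommRingCat.of k))) ⟶ G)
    (hl' : l' = (toUnit _ ≫ g₀)⁻¹ * l * (toUnit _ ≫ g₀))
    (T' : Over (Spec (CommRingCat.of k))) (t : T' ⟶ 𝟙_ (Over (Spec (CommRingCat.of k))))
    (g : T' ⟶ Red.Gm (Spec (CommRingCat.of k))) : g ≫ l' = (t ≫ g₀)⁻¹ * (g ≫ l) * (t ≫ g₀) := by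
  have ht : g ≫ toUnit _ = t := toUnit_unique _ _
  rw [hl', MonObj.comp_mul, MonObj.comp_mul, GrpObj.comp_inv, ← Category.assoc, ht]

/-- `μ(α·x, λ) = m → μ(x, α⁻¹λα) = m`. -/
theorem isMu_conj {a : AlgGrp.Action G X} (B : GLinSh.LinBun G a)
    (l l' : Red.Gm (Spec (CommRingCat.of k)) ⟶ G) [IsMonHom l] [IsMonHom l']
    (g₀ : 𝟙_ (Over (Spec (CommRingCat.of k))) ⟶ G)
    (hl' : l' = (toUnit _ ≫ g₀)⁻¹ * l * (toUnit _ ≫ g₀))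
    (x : 𝟙_ (Over (Spec (CommRingCat.of k))) ⟶ X) (m : ℤ)
    (h : HMNum.IsMu B l (lift g₀ x ≫ a.act) m) : HMNum.IsMu B l' x m := by
  obtain ⟨y, hy, hw⟩ := h
  exact ⟨lift g₀⁻¹ y ≫ a.act, isLimitPt_conj a l l' g₀ (conj_pointwise l l' g₀ hl') x y hy,
    hasFibreWeight_conj B l l' g₀ (conj_pointwise l l' g₀ hl') y (-m) hw⟩

/-- `μ(α·x, λ) = m ↔ μ(x, α⁻¹λα) = m`. -/
theorem isMu_conj_iff {a : AlgGrp.Action G X} (B : GLinSh.LinBun G a)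
    (l l' : Red.Gm (Spec (CommRingCat.of k)) ⟶ G) [IsMonHom l] [IsMonHom l']
    (g₀ : 𝟙_ (Over (Spec (CommRingCat.of k))) ⟶ G)
    (hl' : l' = (toUnit _ ≫ g₀)⁻¹ * l * (toUnit _ ≫ g₀))
    (x : 𝟙_ (Over (Spec (CommRingCat.of k))) ⟶ X) (m : ℤ) :
    HMNum.IsMu B l (lift g₀ x ≫ a.act) m ↔ HMNum.IsMu B l' x m := by
  refine ⟨isMu_conj B l l' g₀ hl' x m, fun h => ?_⟩
  have hl : l = (toUnit _ ≫ g₀⁻¹)⁻¹ * l' * (toUnit _ ≫ g₀⁻¹) := by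
    rw [hl', GrpObj.comp_inv]
    group
  refine isMu_conj B l' l g₀⁻¹ hl (lift g₀ x ≫ a.act) m ?_
  rwa [act_inv_act]

/-- a conjugate of a one-parameter subgroup by a `k`-point is a homomorphism -/
theorem isMonHom_conj (l : Red.Gm (Spec (CommRingCat.of k)) ⟶ G) [IsMonHom l]
    (g₀ : 𝟙_ (Over (Spec (CommRingCat.of k))) ⟶ G) :
    IsMonHom ((toUnit _ ≫ g₀)⁻¹ * l * (toUnit _ ≫ g₀)) where
  one_hom := by
    have h := conj_pointwise l _ g₀ rfl (𝟙_ _) (𝟙 _) η[Red.Gm (Spec (CommRingCat.of k))]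
    rw [h, IsMonHom.one_hom, MonObj.one_eq_one]
    group
  mul_hom := by
    have h := conj_pointwise l _ g₀ rfl _ (toUnit _)
      (μ[Red.Gm (Spec (CommRingCat.of k))])
    have h1 := conj_pointwise l _ g₀ rfl _ (toUnit _)
      (fst (Red.Gm (Spec (CommRingCat.of k))) (Red.Gm (Spec (CommRingCat.of k))))
    have h2 := conj_pointwise l _ g₀ rfl _ (toUnit _)
      (snd (Red.Gm (Spec (CommRingCat.of k))) (Red.Gm (Spec (CommRingCat.of k))))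
    rw [h, ← lift_fst_comp_snd_comp, ← Hom.mul_def, h1, h2, IsMonHom.mul_hom, ← lift_fst_comp_snd_comp,
      ← Hom.mul_def]
    group

end field

end Groth.Agent.Lib.Helper99
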