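import Mathlib

/-!
# The Eakin–Nagata theorem (helper99)

Formanek's proof.

* `isNoetherian_of_annihilator`: a finite module whose annihilator contains that of a Noetherian
  module is Noetherian.
* `isNoetherian_of_max_smul_top`: (Formanek) a finite module `M` such that the submodules `I • ⊤`
  satisfy the maximal condition is Noetherian.
* `isNoetherianRing_of_finite_of_injective`: (Eakin–Nagata) if `B → A` is injective, `A` is a
  finite `B`-module and `A` is a Noetherian ring, then `B` is a Noetherian ring.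
-/

set_option autoImplicit false
set_option linter.style.haveILetI false

namespace Groth.Agent.Lib.Helper99.EakinNagata

theorem isNoetherian_of_annihilator {R : Type*} [CommRing R] {M N : Type*} [AddCommGroup M]
    [Module R M] [AddCommGroup N] [Module R N] [Module.Finite R M] [IsNoetherian R N]
    (h : ∀ r : R, (∀ n : N, r • n = 0) → ∀ m : M, r • m = 0) : IsNoetherian R M := by
  classical
  obtain ⟨k, n, hn⟩ := Module.Finite.exists_fin (R := R) (M := N)
  obtain ⟨l, m, hm⟩ := Module.Finite.exists_fin (R := R) (M := M)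
  obtain ⟨𝔞, h𝔞⟩ : ∃ 𝔞 : Ideal R, 𝔞 = Module.annihilator R N := ⟨_, rfl⟩
  let f : R →ₗ[R] (Fin k → N) := LinearMap.pi fun i => LinearMap.toSpanSingleton R N (n i)
  have hfapp : ∀ r i, f r i = r • n i := fun r i => rfl
  have hf : LinearMap.ker f = 𝔞 := by
    ext r
    rw [LinearMap.mem_ker, h𝔞, Module.mem_annihilator]
    constructor
    · intro hr x
      have hx : x ∈ Submodule.span R (Set.range n) := by rw [hn]; trivial
      induction hx using Submodule.span_induction with
      | mem y hy =>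
        obtain ⟨i, rfl⟩ := hy
        have := congrFun hr i
        rw [hfapp] at this
        exact this
      | zero => exact smul_zero r
      | add y z _ _ hy hz => rw [smul_add, hy, hz, add_zero]
      | smul c y _ hy => rw [smul_comm, hy, smul_zero]
    · intro hr
      funext i
      rw [hfapp]
      exact hr (n i)
  have hι : Function.Injective (Submodule.liftQ 𝔞 f hf.ge) := by
    rw [← LinearMap.ker_eq_bot]
    exact Submodule.ker_liftQ_eq_bot _ _ _ hf.le
  haveI : IsNoetherian R (R ⧸ 𝔞) := isNoetherian_of_injective (Submodule.liftQ 𝔞 f hf.ge) hι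
  have hkill : ∀ i, 𝔞 ≤ LinearMap.ker (LinearMap.toSpanSingleton R M (m i)) := by
    intro i r hr
    rw [LinearMap.mem_ker, LinearMap.toSpanSingleton_apply]
    rw [h𝔞] at hr
    exact h r (Module.mem_annihilator.mp hr) (m i)
  let π : (Fin l → R ⧸ 𝔞) →ₗ[R] M :=
    ∑ i, (Submodule.liftQ 𝔞 (LinearMap.toSpanSingleton R M (m i)) (hkill i)).comp
      (LinearMap.proj i)
  have hπ : Function.Surjective π := by
    intro x
    have hx : x ∈ Submodule.span R (Set.range m) := by rw [hm]; trivial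
    obtain ⟨c, rfl⟩ := (Submodule.mem_span_range_iff_exists_fun R).mp hx
    refine ⟨fun i => Submodule.Quotient.mk (c i), ?_⟩
    simp only [π, LinearMap.sum_apply, LinearMap.comp_apply, LinearMap.proj_apply]
    refine Finset.sum_congr rfl fun i _ => ?_
    rw [Submodule.liftQ_apply, LinearMap.toSpanSingleton_apply]
  exact isNoetherian_of_surjective π (LinearMap.range_eq_top.mpr hπ)

theorem isNoetherian_of_max_smul_top {R : Type*} [CommRing R] {M : Type*} [AddCommGroup M]
    [Module R M] [Module.Finite R M]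
    (hmax : ∀ T : Set (Ideal R), T.Nonempty → ∃ I ∈ T, ∀ J ∈ T,
      I • (⊤ : Submodule R M) ≤ J • (⊤ : Submodule R M) →
        J • (⊤ : Submodule R M) = I • (⊤ : Submodule R M)) :
    IsNoetherian R M := by
  classical
  by_contra hM
  have hbot : (⊥ : Ideal R) ∈
      {I : Ideal R | ¬ IsNoetherian R (M ⧸ (I • (⊤ : Submodule R M)))} := by
    intro h
    apply hM
    have e : (M ⧸ ((⊥ : Ideal R) • (⊤ : Submodule R M))) ≃ₗ[R] M :=
      Submodule.quotEquivOfEqBot _ (Submodule.bot_smul _)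
    exact isNoetherian_of_linearEquiv e
  obtain ⟨I₀, hI₀, hI₀max⟩ := hmax _ ⟨⊥, hbot⟩
  obtain ⟨K₀, hK₀⟩ : ∃ K₀ : Submodule R M, K₀ = I₀ • (⊤ : Submodule R M) := ⟨_, rfl⟩
  have hspan : ∀ r : R, (Ideal.span {r} : Ideal R) • (⊤ : Submodule R M) =
      LinearMap.range (LinearMap.lsmul R M r) := by
    intro r
    apply le_antisymm
    · rw [Submodule.smul_le]
      intro a ha x _
      obtain ⟨c, rfl⟩ := Ideal.mem_span_singleton'.mp ha
      exact ⟨c • x, by rw [LinearMap.lsmul_apply, smul_smul, mul_comm]⟩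
    · rintro _ ⟨x, rfl⟩
      rw [LinearMap.lsmul_apply]
      exact Submodule.smul_mem_smul (Ideal.mem_span_singleton_self r) Submodule.mem_top
  have hstar : ∀ r : R, LinearMap.range (LinearMap.lsmul R M r) ≤ K₀ ∨
      IsNoetherian R (M ⧸ (K₀ ⊔ LinearMap.range (LinearMap.lsmul R M r))) := by
    intro r
    have hJ : (I₀ ⊔ Ideal.span {r}) • (⊤ : Submodule R M) =
        K₀ ⊔ LinearMap.range (LinearMap.lsmul R M r) := by
      rw [Submodule.sup_smul, hspan, hK₀]
    by_cases hT : ¬ IsNoetherian R (M ⧸ ((I₀ ⊔ Ideal.span {r}) • (⊤ : Submodule R M)))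
    · left
      have h1 := hI₀max _ hT (by rw [hJ, ← hK₀]; exact le_sup_left)
      rw [hJ, ← hK₀] at h1
      rw [← h1]
      exact le_sup_right
    · right
      rw [not_not, hJ] at hT
      exact hT
  obtain ⟨S, hS⟩ : ∃ S : Set (Submodule R M), S = {N | K₀ ≤ N ∧ ∀ r : R,
      LinearMap.range (LinearMap.lsmul R M r) ≤ N →
        LinearMap.range (LinearMap.lsmul R M r) ≤ K₀} := ⟨_, rfl⟩
  have hmemS : ∀ N, N ∈ S ↔ (K₀ ≤ N ∧ ∀ r : R,
      LinearMap.range (LinearMap.lsmul R M r) ≤ N →
        LinearMap.range (LinearMap.lsmul R M r) ≤ K₀) := by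
    intro N; rw [hS]; rfl
  have hfgr : ∀ r : R, (LinearMap.range (LinearMap.lsmul R M r)).FG := by
    intro r
    rw [LinearMap.range_eq_map]
    exact (Module.Finite.fg_top).map _
  have hK₀S : K₀ ∈ S := (hmemS K₀).mpr ⟨le_rfl, fun r h => h⟩
  obtain ⟨N₀, hK₀N₀, hN₀max⟩ := zorn_le_nonempty₀ S (by
    intro c hcS hc y hy
    refine ⟨sSup c, (hmemS _).mpr ⟨?_, ?_⟩, fun z hz => le_sSup hz⟩
    · exact ((hmemS _).mp (hcS hy)).1.trans (le_sSup hy)
    · intro r hr
      have hcomp := (Submodule.fg_iff_compact _).mp (hfgr r)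
      obtain ⟨x, hxc, hx⟩ := (CompleteLattice.isCompactElement_iff_le_of_directed_sSup_le _ _).mp
        hcomp c ⟨y, hy⟩ hc.directedOn hr
      exact ((hmemS _).mp (hcS hxc)).2 r hx) K₀ hK₀S
  have hN₀S : N₀ ∈ S := hN₀max.prop
  have hNoethN₀ : IsNoetherian R (M ⧸ N₀) := by
    rw [isNoetherian_def]
    intro P
    by_cases hP : P = ⊥
    · rw [hP]; exact Submodule.fg_bot
    have hmc : (P.comap N₀.mkQ).map N₀.mkQ = P :=
      Submodule.map_comap_eq_of_surjective N₀.mkQ_surjective P
    have hN₀N : N₀ ≤ P.comap N₀.mkQ := by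
      intro x hx
      rw [Submodule.mem_comap, Submodule.mkQ_apply, (Submodule.Quotient.mk_eq_zero N₀).mpr hx]
      exact P.zero_mem
    have hne : N₀ ≠ P.comap N₀.mkQ := by
      intro h
      apply hP
      rw [← hmc, ← h, Submodule.mkQ_map_self]
    have hlt : N₀ < P.comap N₀.mkQ := lt_of_le_of_ne hN₀N hne
    have hnotS : P.comap N₀.mkQ ∉ S := hN₀max.not_prop_of_gt hlt
    have hex : ∃ r : R, LinearMap.range (LinearMap.lsmul R M r) ≤ P.comap N₀.mkQ ∧
        ¬ LinearMap.range (LinearMap.lsmul R M r) ≤ K₀ := by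
      by_contra hcon
      push Not at hcon
      exact hnotS ((hmemS _).mpr ⟨hK₀N₀.trans hN₀N, hcon⟩)
    obtain ⟨r, hrN, hrK⟩ := hex
    have hL : IsNoetherian R (M ⧸ (K₀ ⊔ LinearMap.range (LinearMap.lsmul R M r))) :=
      (hstar r).resolve_left hrK
    obtain ⟨Rr, hRr⟩ : ∃ Rr : Submodule R M, Rr = LinearMap.range (LinearMap.lsmul R M r) :=
      ⟨_, rfl⟩
    rw [← hRr] at hL hrN
    have hle : K₀ ⊔ Rr ≤ N₀ ⊔ Rr := sup_le_sup_right hK₀N₀ _
    haveI hQ' : IsNoetherian R (M ⧸ (N₀ ⊔ Rr)) := by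
      have hker : K₀ ⊔ Rr ≤ LinearMap.ker (N₀ ⊔ Rr).mkQ := by
        rw [Submodule.ker_mkQ]; exact hle
      have hg : Function.Surjective (Submodule.liftQ (K₀ ⊔ Rr) (N₀ ⊔ Rr).mkQ hker) := by
        intro y
        obtain ⟨x, rfl⟩ := Submodule.mkQ_surjective _ y
        exact ⟨Submodule.Quotient.mk x, by rw [Submodule.liftQ_apply]⟩
      exact isNoetherian_of_surjective _ (LinearMap.range_eq_top.mpr hg)
    have hker0 : N₀ ≤ LinearMap.ker (N₀ ⊔ Rr).mkQ := by
      rw [Submodule.ker_mkQ]; exact le_sup_left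
    have hker : LinearMap.ker (Submodule.liftQ N₀ (N₀ ⊔ Rr).mkQ hker0) = Rr.map N₀.mkQ := by
      rw [Submodule.ker_liftQ, Submodule.ker_mkQ, Submodule.map_sup, Submodule.mkQ_map_self,
        bot_sup_eq]
    apply Submodule.fg_of_fg_map_of_fg_inf_ker (Submodule.liftQ N₀ (N₀ ⊔ Rr).mkQ hker0)
    · exact IsNoetherian.noetherian _
    · have h1 : LinearMap.ker (Submodule.liftQ N₀ (N₀ ⊔ Rr).mkQ hker0) ≤ P := by
        rw [hker, ← hmc]
        exact Submodule.map_mono hrN
      rw [inf_eq_right.mpr h1, hker]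
      apply Submodule.FG.map
      rw [hRr]
      exact hfgr r
  apply hI₀
  rw [← hK₀]
  haveI := hNoethN₀
  refine isNoetherian_of_annihilator (N := M ⧸ N₀) (M := M ⧸ K₀) ?_
  intro r hr x
  obtain ⟨y, rfl⟩ := Submodule.mkQ_surjective _ x
  have h1 : LinearMap.range (LinearMap.lsmul R M r) ≤ N₀ := by
    rintro _ ⟨z, rfl⟩
    have := hr (Submodule.Quotient.mk z)
    rw [← Submodule.Quotient.mk_smul, Submodule.Quotient.mk_eq_zero] at this
    exact this
  have h2 := ((hmemS _).mp hN₀S).2 r h1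
  have h3 : r • y ∈ K₀ := h2 ⟨y, rfl⟩
  rw [Submodule.mkQ_apply, ← Submodule.Quotient.mk_smul, Submodule.Quotient.mk_eq_zero]
  exact h3

/-- **Eakin–Nagata.** -/
theorem isNoetherianRing_of_finite_of_injective (B A : Type*) [CommRing B] [CommRing A]
    [Algebra B A] [Module.Finite B A] [IsNoetherianRing A]
    (hinj : Function.Injective (algebraMap B A)) : IsNoetherianRing B := by
  haveI : IsNoetherian B A := isNoetherian_of_max_smul_top (by
    intro T hT
    have hne : (Set.image (fun I : Ideal B => I.map (algebraMap B A)) T).Nonempty := hT.image _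
    obtain ⟨J, ⟨I, hIT, rfl⟩, hJmax⟩ :=
      set_has_maximal_iff_noetherian.mpr (inferInstance : IsNoetherian A A) _ hne
    refine ⟨I, hIT, fun I' hI'T hle => ?_⟩
    rw [Ideal.smul_top_eq_map, Ideal.smul_top_eq_map] at hle ⊢
    have hle' : I.map (algebraMap B A) ≤ I'.map (algebraMap B A) := fun x hx => hle hx
    have hnlt := hJmax _ ⟨I', hI'T, rfl⟩
    have heq : I.map (algebraMap B A) = I'.map (algebraMap B A) := eq_of_le_of_not_lt hle' hnlt
    rw [heq])
  exact isNoetherian_of_injective (Algebra.linearMap B A) hinj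

end Groth.Agent.Lib.Helper99.EakinNagata
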