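import Groth.Agent.Lib.Helper99.GrSegre

/-!
# The Segre product of graded rings of finite type is Noetherian (helper99)
-/

set_option autoImplicit false
universe u

namespace Groth.Agent.Lib.Helper99

open DirectSum
open scoped TensorProduct

section Diag

variable {k : Type u} [Field k] {R S : Type u} [CommRing R] [CommRing S]
  [Algebra k R] [Algebra k S]
  (𝒜 : ℤ → Submodule k R) [GradedAlgebra 𝒜] (ℬ : ℤ → Submodule k S) [GradedAlgebra ℬ]

theorem diagR_of_mem {n : ℤ} {v : R ⊗[k] S} (hv : v ∈ GrSeg.segrePiece k 𝒜 ℬ n) : diagR 𝒜 ℬ n v = v := by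
  induction hv using Submodule.span_induction with
  | mem v hv =>
    obtain ⟨a, ha, b, hb, rfl⟩ := hv
    simp only [diagR, TensorProduct.map_tmul, GradedAlgebra.proj_apply]
    rw [decompose_of_mem_same 𝒜 ha, decompose_of_mem_same ℬ hb]
  | zero => rw [map_zero]
  | add v v' _ _ hv hv' => rw [map_add, hv, hv']
  | smul c v _ hv => rw [map_smul, hv]

theorem diagR_mul (n m : ℤ) (c : R ⊗[k] S) {v : R ⊗[k] S} (hv : v ∈ GrSeg.segrePiece k 𝒜 ℬ m) :
    diagR 𝒜 ℬ n (c * v) = diagR 𝒜 ℬ (n - m) c * v := by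
  induction hv using Submodule.span_induction with
  | mem v hv =>
    obtain ⟨a, ha, b, hb, rfl⟩ := hv
    induction c using TensorProduct.induction_on with
    | zero => simp
    | tmul r s =>
      rw [Algebra.TensorProduct.tmul_mul_tmul]
      simp only [diagR, TensorProduct.map_tmul, GradedAlgebra.proj_apply]
      rw [Algebra.TensorProduct.tmul_mul_tmul]
      have h1 := coe_decompose_smul_of_mem 𝒜 𝒜 r ha n
      have h2 := coe_decompose_smul_of_mem ℬ ℬ s hb n
      rw [smul_eq_mul, smul_eq_mul] at h1 h2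
      rw [h1, h2]
    | add c c' hc hc' => rw [add_mul, map_add, hc, hc', map_add, add_mul]
  | zero => simp
  | add v v' _ _ hv hv' => rw [mul_add, map_add, hv, hv', mul_add]
  | smul t v _ hv => rw [mul_smul_comm, map_smul, hv, mul_smul_comm]

end Diag

section Noeth

variable {k : Type u} [Field k] {R S T : Type u} [CommRing R] [CommRing S] [CommRing T]
  [Algebra k R] [Algebra k S] [Algebra k T]
  (𝒜 : ℤ → Submodule k R) [GradedAlgebra 𝒜] (ℬ : ℤ → Submodule k S) [GradedAlgebra ℬ]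
  (𝒯 : ℤ → Submodule k T) [GradedAlgebra 𝒯]

/-- The Segre product of two nonnegatively graded algebras of finite type over a field is Noetherian. -/
theorem isNoetherianRing_segre (hposR : ∀ n : ℤ, n < 0 → 𝒜 n = ⊥) [Algebra.FiniteType k R]
    [Algebra.FiniteType k S] (ψ : T →ₐ[k] R ⊗[k] S) (hψ : Function.Injective ψ)
    (hdegT : ∀ n : ℤ, (𝒯 n).map ψ.toLinearMap = GrSeg.segrePiece k 𝒜 ℬ n) : IsNoetherianRing T := by
  classical
  letI : DirectSum.Decomposition (asSubgroups 𝒯) := decompositionAsSubgroups 𝒯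
  haveI : SetLike.GradedSMul 𝒯 (asSubgroups 𝒯) :=
    ⟨fun {i j ai bj} hi hj => SetLike.GradedMul.mul_mem (A := 𝒯) hi hj⟩
  haveI : IsNoetherianRing R := Algebra.FiniteType.isNoetherianRing k R
  haveI : IsNoetherianRing (R ⊗[k] S) := Algebra.FiniteType.isNoetherianRing R (R ⊗[k] S)
  -- T vanishes in negative degrees
  have hTneg : ∀ n : ℤ, n < 0 → ∀ d ∈ 𝒯 n, d = 0 := by
    intro n hn d hd
    apply hψ
    rw [map_zero]
    have h1 : ψ d ∈ (𝒯 n).map ψ.toLinearMap := ⟨d, hd, rfl⟩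
    rw [hdegT n] at h1
    have h2 : GrSeg.segrePiece k 𝒜 ℬ n = ⊥ := by
      rw [eq_bot_iff]
      apply Submodule.span_le.mpr
      rintro x ⟨a, ha, b, _, rfl⟩
      rw [hposR n hn] at ha
      rw [(Submodule.mem_bot k).mp ha, TensorProduct.zero_tmul]
      exact Submodule.zero_mem _
    rw [h2] at h1
    exact (Submodule.mem_bot k).mp h1
  -- the strictly monotone map to ideals of R ⊗ S
  let H : Ideal T → Set T := fun J => {j | j ∈ inForm 𝒯 (asSubgroups 𝒯) (-1) J ∧ ∃ n, j ∈ 𝒯 n}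
  let Φ : Ideal T → Ideal (R ⊗[k] S) := fun J => Ideal.span (ψ '' H J)
  have hΦ : StrictMono Φ := by
    intro J J' hlt
    have hHmono : H J ⊆ H J' := fun j hj => ⟨inForm_mono 𝒯 (asSubgroups 𝒯) (-1) hlt.le hj.1, hj.2⟩
    refine lt_of_le_of_ne (Ideal.span_mono (Set.image_mono hHmono)) ?_
    intro heq
    have hnot : ¬ inForm 𝒯 (asSubgroups 𝒯) (-1) J' ≤ inForm 𝒯 (asSubgroups 𝒯) (-1) J := by
      intro hin
      exact (not_le_of_gt hlt) (le_of_inForm_le 𝒯 (asSubgroups 𝒯) (Or.inr rfl) hlt.le hin 0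
        (fun n hn d hd => hTneg n (by omega) d hd))
    obtain ⟨d, hdJ', hdJ⟩ := SetLike.not_le_iff_exists.mp hnot
    -- a homogeneous component of d outside inForm J
    have hex : ∃ n, ((decompose (asSubgroups 𝒯) d) n : T) ∉ inForm 𝒯 (asSubgroups 𝒯) (-1) J := by
      by_contra hall
      push Not at hall
      apply hdJ
      rw [← DirectSum.sum_support_decompose (asSubgroups 𝒯) d]
      exact Submodule.sum_mem _ fun i _ => hall i
    obtain ⟨n, hn⟩ := hex
    set dn : T := ((decompose (asSubgroups 𝒯) d) n : T) with hdn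
    have hdnmem : dn ∈ 𝒯 n := SetLike.coe_mem ((decompose (asSubgroups 𝒯) d) n)
    have hdnJ' : dn ∈ inForm 𝒯 (asSubgroups 𝒯) (-1) J' :=
      inForm_isHomogeneous 𝒯 (asSubgroups 𝒯) (-1) J' n hdJ'
    have h1 : ψ dn ∈ Φ J' := Ideal.subset_span ⟨dn, ⟨hdnJ', n, hdnmem⟩, rfl⟩
    have h2 : ψ dn ∈ Φ J := by
      have : Φ J = Φ J' := heq
      rw [this]; exact h1
    -- write ψ dn as a combination of ψ (homogeneous elements of inForm J)
    obtain ⟨c, hcs, hc⟩ := Submodule.mem_span_set.mp h2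
    apply hn
    have hψdn : ψ dn ∈ GrSeg.segrePiece k 𝒜 ℬ n := by
      rw [← hdegT n]; exact ⟨dn, hdnmem, rfl⟩
    have hterm : ∀ x ∈ c.support, ∃ j ∈ inForm 𝒯 (asSubgroups 𝒯) (-1) J,
        ψ j = diagR 𝒜 ℬ n (c x • x) := by
      intro x hx
      obtain ⟨h, ⟨hhJ, m, hhm⟩, rfl⟩ := hcs hx
      have hψh : ψ h ∈ GrSeg.segrePiece k 𝒜 ℬ m := by
        rw [← hdegT m]; exact ⟨h, hhm, rfl⟩
      have h3 := diagR_mem 𝒜 ℬ (n - m) (c (ψ h))
      rw [← hdegT (n - m)] at h3
      obtain ⟨t, _, ht⟩ := h3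
      refine ⟨t * h, Ideal.mul_mem_left _ t hhJ, ?_⟩
      rw [smul_eq_mul, diagR_mul 𝒜 ℬ n m _ hψh, map_mul]
      congr 1
    choose! jf hjf hjfψ using hterm
    have hsum : ψ dn = ψ (∑ x ∈ c.support, jf x) := by
      rw [map_sum, ← diagR_of_mem 𝒜 ℬ hψdn, ← hc, Finsupp.sum, map_sum]
      exact Finset.sum_congr rfl fun x hx => (hjfψ x hx).symm
    rw [hψ hsum]
    exact Submodule.sum_mem _ fun x hx => hjf x hx
  haveI : WellFoundedGT (Ideal (R ⊗[k] S)) := isNoetherian_iff'.mp inferInstance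
  have : WellFoundedGT (Ideal T) := hΦ.wellFoundedGT
  exact isNoetherian_iff'.mpr this

end Noeth

end Groth.Agent.Lib.Helper99
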