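import Mathlib
import Groth.Agent.S11741
import Groth.Agent.Lib.Helper55.KrullDimIntegral
import Groth.Agent.Lib.Helper85.RegularLocal
import Groth.Agent.Lib.Helper75.CompleteProjective
import Groth.Agent.Lib.Helper44.RigPoint

/-!
# Artin–Schreier families `R[u_i] / (u_i ^ p - c_i u_i - e_i)` (helper99)

* Generic part: for monic `f i : R[X]`, `R[X_i] / (f_i(X_i)) ≃ₐ[R] ⨂ AdjoinRoot (f i)`, monomial basis.
* AS part: basis indexed by `ι → Fin p`.
* Power series part: `R = k[[x_1..x_n]]`, `c_i = a_i^(p-1)`, `e_i = x_i`: local, regular, complete, domain.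
-/

set_option autoImplicit false
set_option linter.unusedSectionVars false
set_option linter.style.haveILetI false

namespace Groth.Agent.Lib.Helper99.ASFamily

open MvPolynomial

section Generic

variable {R : Type*} [CommRing R] {ι : Type*} (f : ι → Polynomial R) (g : ι → MvPolynomial ι R)

/-- the tensor product of the `AdjoinRoot (f i)` -/
abbrev TP := PiTensorProduct R (fun i => AdjoinRoot (f i))

variable [Fintype ι] [DecidableEq ι]

/-- the generators of the tensor product -/
noncomputable def gen (i : ι) : TP f :=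
  PiTensorProduct.singleAlgHom (R := R) (A := fun i => AdjoinRoot (f i)) i (AdjoinRoot.root (f i))

variable (hg : ∀ i, g i = Polynomial.aeval (X i : MvPolynomial ι R) (f i))

include hg in
theorem aeval_gen_g (i : ι) : aeval (R := R) (gen f) (g i) = 0 := by
  have h1 := Polynomial.aeval_algHom_apply (aeval (R := R) (gen f)) (X i) (f i)
  have h2 := Polynomial.aeval_algHom_apply
    (PiTensorProduct.singleAlgHom (R := R) (A := fun i => AdjoinRoot (f i)) i)
    (AdjoinRoot.root (f i)) (f i)
  rw [hg i, ← h1, aeval_X]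
  show Polynomial.aeval (PiTensorProduct.singleAlgHom (R := R) (A := fun i => AdjoinRoot (f i)) i
    (AdjoinRoot.root (f i))) (f i) = 0
  rw [h2, AdjoinRoot.aeval_eq, AdjoinRoot.mk_self, map_zero]

/-- the map to the tensor product -/
noncomputable def toT : (MvPolynomial ι R ⧸ Ideal.span (Set.range g)) →ₐ[R] TP f :=
  Ideal.Quotient.liftₐ (Ideal.span (Set.range g)) (aeval (R := R) (gen f)) (fun x hx => by
    have hle : Ideal.span (Set.range g) ≤ RingHom.ker (aeval (R := R) (gen f)) := by
      rw [Ideal.span_le]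
      rintro _ ⟨i, rfl⟩
      exact RingHom.mem_ker.mpr (aeval_gen_g f g hg i)
    exact RingHom.mem_ker.mp (hle hx))

theorem toT_mk_X (i : ι) :
    toT f g hg (Ideal.Quotient.mk (Ideal.span (Set.range g)) (X i)) = gen f i := by
  show aeval (R := R) (gen f) (X i) = gen f i
  exact aeval_X _ _

include hg in
theorem aeval_mk_X (i : ι) :
    Polynomial.aeval (Ideal.Quotient.mk (Ideal.span (Set.range g)) (X i)) (f i) = 0 := by
  have h1 := Polynomial.aeval_algHom_apply (Ideal.Quotient.mkₐ R (Ideal.span (Set.range g)))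
    (X i) (f i)
  have h2 : Ideal.Quotient.mk (Ideal.span (Set.range g)) (g i) = 0 :=
    Ideal.Quotient.eq_zero_iff_mem.mpr (Ideal.subset_span ⟨i, rfl⟩)
  rw [hg i] at h2
  exact h1.trans h2

/-- the factor maps -/
noncomputable def fac (i : ι) :
    AdjoinRoot (f i) →ₐ[R] (MvPolynomial ι R ⧸ Ideal.span (Set.range g)) :=
  AdjoinRoot.liftAlgHom (f i) (Algebra.ofId R _)
    (Ideal.Quotient.mk (Ideal.span (Set.range g)) (X i)) (by
      have h := aeval_mk_X f g hg i
      rw [Polynomial.aeval_def] at h
      exact h)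

theorem fac_root (i : ι) : fac f g hg i (AdjoinRoot.root (f i)) =
    Ideal.Quotient.mk (Ideal.span (Set.range g)) (X i) :=
  AdjoinRoot.liftAlgHom_root _ _ _ _

/-- the multiplication multilinear map -/
noncomputable def mulMap : MultilinearMap R (fun i => AdjoinRoot (f i))
    (MvPolynomial ι R ⧸ Ideal.span (Set.range g)) :=
  (MultilinearMap.mkPiAlgebra R ι (MvPolynomial ι R ⧸ Ideal.span (Set.range g))).compLinearMap
    (fun i => (fac f g hg i).toLinearMap)

theorem mulMap_apply (x : ∀ i, AdjoinRoot (f i)) :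
    mulMap f g hg x = ∏ i, fac f g hg i (x i) := rfl

/-- the map from the tensor product -/
noncomputable def fromT : TP f →ₐ[R] (MvPolynomial ι R ⧸ Ideal.span (Set.range g)) :=
  PiTensorProduct.liftAlgHom (mulMap f g hg)
    (by rw [mulMap_apply]; simp)
    (by intro x y; rw [mulMap_apply, mulMap_apply, mulMap_apply, ← Finset.prod_mul_distrib]; simp)

theorem fromT_tprod (x : ∀ i, AdjoinRoot (f i)) :
    fromT f g hg (PiTensorProduct.tprod R x) = ∏ i, fac f g hg i (x i) := by
  show PiTensorProduct.lift (mulMap f g hg) (PiTensorProduct.tprod R x) = _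
  rw [PiTensorProduct.lift.tprod, mulMap_apply]

theorem fromT_gen (i : ι) :
    fromT f g hg (gen f i) = Ideal.Quotient.mk (Ideal.span (Set.range g)) (X i) := by
  unfold gen
  rw [PiTensorProduct.singleAlgHom_apply, fromT_tprod, Finset.prod_eq_single i]
  · rw [MonoidHom.mulSingle_apply, Pi.mulSingle_eq_same, fac_root]
  · intro l _ hl
    rw [MonoidHom.mulSingle_apply, Pi.mulSingle_eq_of_ne hl, map_one]
  · intro h; exact absurd (Finset.mem_univ i) h

theorem fromT_comp_toT : (fromT f g hg).comp (toT f g hg) = AlgHom.id R _ := by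
  apply Ideal.Quotient.algHom_ext
  apply MvPolynomial.algHom_ext
  intro i
  show fromT f g hg (toT f g hg (Ideal.Quotient.mk _ (X i))) = Ideal.Quotient.mk _ (X i)
  rw [toT_mk_X, fromT_gen]

theorem toT_comp_fromT : (toT f g hg).comp (fromT f g hg) = AlgHom.id R (TP f) := by
  apply PiTensorProduct.algHom_ext
  intro i
  apply AdjoinRoot.algHom_ext
  show toT f g hg (fromT f g hg (gen f i)) = gen f i
  rw [fromT_gen, toT_mk_X]

/-- the isomorphism with the tensor product -/
noncomputable def equivT : (MvPolynomial ι R ⧸ Ideal.span (Set.range g)) ≃ₐ[R] TP f :=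
  AlgEquiv.ofAlgHom (toT f g hg) (fromT f g hg) (toT_comp_fromT f g hg) (fromT_comp_toT f g hg)

/-- the monomial basis -/
noncomputable def monoBasis (hm : ∀ i, (f i).Monic) :
    Module.Basis (∀ i, Fin (f i).natDegree) R (MvPolynomial ι R ⧸ Ideal.span (Set.range g)) :=
  (Basis.piTensorProduct (fun i => AdjoinRoot.powerBasisAux' (hm i))).map
    (equivT f g hg).symm.toLinearEquiv

theorem monoBasis_apply (hm : ∀ i, (f i).Monic) (m : ∀ i, Fin (f i).natDegree) :
    monoBasis f g hg hm m =
      ∏ i, (Ideal.Quotient.mk (Ideal.span (Set.range g)) (X i)) ^ (m i : ℕ) := by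
  unfold monoBasis
  rw [Module.Basis.map_apply, Basis.piTensorProduct_apply]
  show fromT f g hg (PiTensorProduct.tprod R _) = _
  rw [fromT_tprod]
  refine Finset.prod_congr rfl fun i _ => ?_
  have h := (AdjoinRoot.powerBasis' (hm i)).basis_eq_pow (m i)
  have h' : AdjoinRoot.powerBasisAux' (hm i) (m i) = AdjoinRoot.root (f i) ^ (m i : ℕ) := h
  rw [h', map_pow, fac_root]

end Generic

section AS

variable {R : Type*} [CommRing R] {ι : Type*} (p : ℕ) (c e : ι → R)

/-- the one-variable Artin–Schreier polynomial -/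
noncomputable def asPoly (i : ι) : Polynomial R :=
  Polynomial.X ^ p - Polynomial.C (c i) * Polynomial.X - Polynomial.C (e i)

/-- the relations -/
noncomputable abbrev asRel (i : ι) : MvPolynomial ι R := X i ^ p - C (c i) * X i - C (e i)

theorem asPoly_eq (i : ι) : asPoly p c e i =
    Polynomial.X ^ p - (Polynomial.C (c i) * Polynomial.X + Polynomial.C (e i)) := by
  unfold asPoly; ring

theorem asPoly_monic [Nontrivial R] (hp : 2 ≤ p) (i : ι) : (asPoly p c e i).Monic := by
  rw [asPoly_eq]
  apply (Polynomial.monic_X_pow p).sub_of_left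
  rw [Polynomial.degree_X_pow]
  exact lt_of_le_of_lt Polynomial.degree_linear_le (by exact_mod_cast (show 1 < p by omega))

theorem asPoly_natDegree [Nontrivial R] (hp : 2 ≤ p) (i : ι) : (asPoly p c e i).natDegree = p := by
  rw [asPoly_eq, Polynomial.natDegree_sub_eq_left_of_natDegree_lt, Polynomial.natDegree_X_pow]
  rw [Polynomial.natDegree_X_pow]
  exact lt_of_le_of_lt Polynomial.natDegree_linear_le (by omega)

theorem asRel_eq (i : ι) :
    asRel p c e i = Polynomial.aeval (X i : MvPolynomial ι R) (asPoly p c e i) := by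
  unfold asPoly
  simp only [map_sub, map_mul, map_pow, Polynomial.aeval_X, Polynomial.aeval_C,
    MvPolynomial.algebraMap_eq]

variable [Fintype ι] [DecidableEq ι]

/-- the monomial basis indexed by `ι → Fin p` -/
noncomputable def asBasis [Nontrivial R] (hp : 2 ≤ p) :
    Module.Basis (ι → Fin p) R (MvPolynomial ι R ⧸ Ideal.span (Set.range (asRel p c e))) :=
  (monoBasis (asPoly p c e) (asRel p c e) (asRel_eq p c e) (asPoly_monic p c e hp)).reindex
    (Equiv.piCongrRight fun i => finCongr (asPoly_natDegree p c e hp i))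

theorem asBasis_apply [Nontrivial R] (hp : 2 ≤ p) (m : ι → Fin p) :
    asBasis p c e hp m =
      ∏ i, (Ideal.Quotient.mk (Ideal.span (Set.range (asRel p c e))) (X i)) ^ (m i : ℕ) := by
  unfold asBasis
  rw [Module.Basis.reindex_apply, monoBasis_apply]
  refine Finset.prod_congr rfl fun i _ => ?_
  rfl

end AS

section PS

open Groth.Agent.Lib.Helper61

variable (p : ℕ) {k : Type*} [Field k] {n : ℕ} (a : Fin n → MvPowerSeries (Fin n) k)

/-- the Artin–Schreier relation ideal -/
noncomputable abbrev asI : Ideal (MvPolynomial (Fin n) (MvPowerSeries (Fin n) k)) :=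
  Ideal.span (Set.range fun i : Fin n =>
    X i ^ p - C (a i ^ (p - 1)) * X i - C (MvPowerSeries.X i))

/-- the Artin–Schreier algebra -/
abbrev AS := MvPolynomial (Fin n) (MvPowerSeries (Fin n) k) ⧸ asI p a

/-- the classes of the variables -/
noncomputable abbrev uu (i : Fin n) : AS p a := Ideal.Quotient.mk (asI p a) (X i)

/-- the ideal generated by the classes of the variables, in the form of the statements -/
noncomputable abbrev nn : Ideal (AS p a) := Ideal.map (Ideal.Quotient.mk (asI p a))
  (Ideal.span (Set.range (X : Fin n → MvPolynomial (Fin n) (MvPowerSeries (Fin n) k))))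

theorem algebraMap_eq_mk (r : MvPowerSeries (Fin n) k) :
    algebraMap (MvPowerSeries (Fin n) k) (AS p a) r = Ideal.Quotient.mk (asI p a) (C r) := rfl

theorem rel (i : Fin n) : uu p a i ^ p =
    algebraMap (MvPowerSeries (Fin n) k) (AS p a) (a i ^ (p - 1)) * uu p a i +
      algebraMap (MvPowerSeries (Fin n) k) (AS p a) (MvPowerSeries.X i) := by
  have h : Ideal.Quotient.mk (asI p a)
      (X i ^ p - C (a i ^ (p - 1)) * X i - C (MvPowerSeries.X i)) = 0 :=
    Ideal.Quotient.eq_zero_iff_mem.mpr (Ideal.subset_span ⟨i, rfl⟩)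
  rw [map_sub, map_sub, map_mul, map_pow] at h
  rw [algebraMap_eq_mk, algebraMap_eq_mk]
  linear_combination h

theorem nn_eq : nn p a = Ideal.span (Set.range (uu p a)) := by
  unfold nn
  rw [Ideal.map_span, ← Set.range_comp]
  rfl

theorem uu_mem (i : Fin n) : uu p a i ∈ nn p a := by
  rw [nn_eq]; exact Ideal.subset_span ⟨i, rfl⟩

variable [hp : Fact p.Prime]

/-- the basis of monomials -/
noncomputable def psBasis : Module.Basis (Fin n → Fin p) (MvPowerSeries (Fin n) k) (AS p a) :=
  asBasis p (fun i => a i ^ (p - 1)) (fun i => MvPowerSeries.X i) hp.out.two_le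

theorem psBasis_apply (m : Fin n → Fin p) : psBasis p a m = ∏ i, uu p a i ^ (m i : ℕ) :=
  asBasis_apply p (fun i => a i ^ (p - 1)) (fun i => MvPowerSeries.X i) hp.out.two_le m

instance : Module.Free (MvPowerSeries (Fin n) k) (AS p a) := Module.Free.of_basis (psBasis p a)

instance : Module.Finite (MvPowerSeries (Fin n) k) (AS p a) := Module.Finite.of_basis (psBasis p a)

theorem finrank_AS : Module.finrank (MvPowerSeries (Fin n) k) (AS p a) = p ^ n := by
  rw [Module.finrank_eq_card_basis (psBasis p a)]
  simp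

/-- the augmentation to the residue field -/
noncomputable def eps : AS p a →+* k :=
  Ideal.Quotient.lift (asI p a)
    (MvPolynomial.eval₂Hom (MvPowerSeries.constantCoeff (σ := Fin n) (R := k))
      (fun _ : Fin n => (0 : k)))
    (by
      have hle : asI p a ≤ RingHom.ker
          (MvPolynomial.eval₂Hom (MvPowerSeries.constantCoeff (σ := Fin n) (R := k))
            (fun _ : Fin n => (0 : k))) := by
        rw [Ideal.span_le]
        rintro _ ⟨i, rfl⟩
        rw [SetLike.mem_coe, RingHom.mem_ker]
        simp [zero_pow hp.out.ne_zero]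
      intro x hx
      exact RingHom.mem_ker.mp (hle hx))

theorem eps_mk (P : MvPolynomial (Fin n) (MvPowerSeries (Fin n) k)) :
    eps p a (Ideal.Quotient.mk (asI p a) P) =
      MvPolynomial.eval₂Hom (MvPowerSeries.constantCoeff (σ := Fin n) (R := k))
        (fun _ : Fin n => (0 : k)) P := rfl

theorem eps_uu (i : Fin n) : eps p a (uu p a i) = 0 := by
  rw [eps_mk]; simp

theorem eps_algebraMap (r : MvPowerSeries (Fin n) k) :
    eps p a (algebraMap (MvPowerSeries (Fin n) k) (AS p a) r) = MvPowerSeries.constantCoeff r := by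
  rw [algebraMap_eq_mk, eps_mk]; simp

theorem eps_surjective : Function.Surjective (eps p a) := fun z =>
  ⟨algebraMap (MvPowerSeries (Fin n) k) (AS p a) (MvPowerSeries.C z), by
    rw [eps_algebraMap, MvPowerSeries.constantCoeff_C]⟩

instance : Nontrivial (AS p a) := RingHom.domain_nontrivial (eps p a)

theorem algebraMap_injective :
    Function.Injective (algebraMap (MvPowerSeries (Fin n) k) (AS p a)) :=
  FaithfulSMul.algebraMap_injective _ _

theorem algebraMap_X_mem (i : Fin n) :
    algebraMap (MvPowerSeries (Fin n) k) (AS p a) (MvPowerSeries.X i) ∈ nn p a := by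
  have h := rel p a i
  have e : algebraMap (MvPowerSeries (Fin n) k) (AS p a) (MvPowerSeries.X i) =
      uu p a i ^ p - algebraMap (MvPowerSeries (Fin n) k) (AS p a) (a i ^ (p - 1)) * uu p a i := by
    rw [h]; ring
  rw [e]
  exact Ideal.sub_mem _ (Ideal.pow_mem_of_mem _ (uu_mem p a i) p hp.out.pos)
    (Ideal.mul_mem_left _ _ (uu_mem p a i))

theorem map_maximalIdeal_le :
    Ideal.map (algebraMap (MvPowerSeries (Fin n) k) (AS p a))
      (IsLocalRing.maximalIdeal (MvPowerSeries (Fin n) k)) ≤ nn p a := by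
  rw [PSLocal.maximalIdeal_eq_span_X, Ideal.map_span, Ideal.span_le]
  rintro _ ⟨_, ⟨i, rfl⟩, rfl⟩
  exact algebraMap_X_mem p a i

theorem algebraMap_mem_nn (r : MvPowerSeries (Fin n) k) (hr : MvPowerSeries.constantCoeff r = 0) :
    algebraMap (MvPowerSeries (Fin n) k) (AS p a) r ∈ nn p a :=
  map_maximalIdeal_le p a (Ideal.mem_map_of_mem _ ((PSLocal.mem_maximalIdeal_iff r).2 hr))

theorem nn_le_ker : nn p a ≤ RingHom.ker (eps p a) := by
  rw [nn_eq, Ideal.span_le]
  rintro _ ⟨i, rfl⟩
  exact RingHom.mem_ker.mpr (eps_uu p a i)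

theorem ker_eps : RingHom.ker (eps p a) = nn p a := by
  apply le_antisymm _ (nn_le_ker p a)
  intro y hy
  obtain ⟨P, rfl⟩ := Ideal.Quotient.mk_surjective y
  have hy' : eps p a (Ideal.Quotient.mk (asI p a) P) = 0 := RingHom.mem_ker.mp hy
  have h1 : P - C (MvPolynomial.coeff 0 P) ∈
      Ideal.span (Set.range (X : Fin n → MvPolynomial (Fin n) (MvPowerSeries (Fin n) k))) := by
    rw [← Set.image_univ, MvPolynomial.mem_ideal_span_X_image]
    intro m hm
    have hm0 : m ≠ 0 := by
      rintro rfl
      rw [MvPolynomial.mem_support_iff] at hm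
      apply hm
      simp
    obtain ⟨i, hi⟩ := DFunLike.ne_iff.mp hm0
    exact ⟨i, Set.mem_univ _, by simpa using hi⟩
  have h2 : Ideal.Quotient.mk (asI p a) (P - C (MvPolynomial.coeff 0 P)) ∈ nn p a :=
    Ideal.mem_map_of_mem _ h1
  have h3 : eps p a (Ideal.Quotient.mk (asI p a) (P - C (MvPolynomial.coeff 0 P))) = 0 :=
    RingHom.mem_ker.mp (nn_le_ker p a h2)
  have h4 : Ideal.Quotient.mk (asI p a) P =
      Ideal.Quotient.mk (asI p a) (P - C (MvPolynomial.coeff 0 P)) +
        algebraMap (MvPowerSeries (Fin n) k) (AS p a) (MvPolynomial.coeff 0 P) := by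
    rw [algebraMap_eq_mk, ← map_add]; congr 1; ring
  rw [h4, map_add, h3, zero_add, eps_algebraMap] at hy'
  rw [h4]
  exact Ideal.add_mem _ h2 (algebraMap_mem_nn p a _ hy')

theorem nn_isMaximal : (nn p a).IsMaximal := by
  rw [← ker_eps]
  exact RingHom.ker_isMaximal_of_surjective (eps p a) (eps_surjective p a)

variable (ham : ∀ i, MvPowerSeries.constantCoeff (a i) = 0)

include ham in
theorem constantCoeff_pow_eq_zero (i : Fin n) :
    MvPowerSeries.constantCoeff (a i ^ (p - 1)) = 0 := by
  rw [map_pow, ham i, zero_pow]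
  have := hp.out.two_le
  omega

include ham in
theorem isLocalRing_AS : IsLocalRing (AS p a) := by
  have hmax : (nn p a).IsMaximal := nn_isMaximal p a
  refine IsLocalRing.of_unique_max_ideal (R := AS p a) ⟨nn p a, hmax, fun M hM => ?_⟩
  haveI := hM
  have hcm : (M.comap (algebraMap (MvPowerSeries (Fin n) k) (AS p a))).IsMaximal :=
    Ideal.isMaximal_comap_of_isIntegral_of_isMaximal (R := MvPowerSeries (Fin n) k)
      (S := AS p a) M
  have hcm' := IsLocalRing.eq_maximalIdeal hcm
  have hmem : ∀ r : MvPowerSeries (Fin n) k, MvPowerSeries.constantCoeff r = 0 →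
      algebraMap (MvPowerSeries (Fin n) k) (AS p a) r ∈ M := by
    intro r hr
    have : r ∈ M.comap (algebraMap (MvPowerSeries (Fin n) k) (AS p a)) := by
      rw [hcm']; exact (PSLocal.mem_maximalIdeal_iff r).2 hr
    exact this
  have hu : ∀ i, uu p a i ∈ M := by
    intro i
    apply hM.isPrime.mem_of_pow_mem p
    rw [rel p a i]
    exact Ideal.add_mem _ (Ideal.mul_mem_right _ _ (hmem _ (constantCoeff_pow_eq_zero p a ham i)))
      (hmem _ (MvPowerSeries.constantCoeff_X i))
  have hle : nn p a ≤ M := by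
    rw [nn_eq, Ideal.span_le]; rintro _ ⟨i, rfl⟩; exact hu i
  exact (hmax.eq_of_le hM.ne_top hle).symm

include ham in
theorem maximalIdeal_AS :
    haveI := isLocalRing_AS p a ham
    IsLocalRing.maximalIdeal (AS p a) = nn p a := by
  haveI := isLocalRing_AS p a ham
  exact (IsLocalRing.eq_maximalIdeal (nn_isMaximal p a)).symm

theorem ringKrullDim_AS : ringKrullDim (AS p a) = n := by
  exact (Groth.Agent.Lib.Helper55.ringKrullDim_eq_of_isIntegral_of_injective
    (MvPowerSeries (Fin n) k) (AS p a) (algebraMap_injective p a)).trans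
    (Groth.Agent.S11741.ringKrullDim_mvPowerSeries k n)

include ham in
theorem isRegularLocalRing_AS : IsRegularLocalRing (AS p a) := by
  haveI := isLocalRing_AS p a ham
  apply IsRegularLocalRing.of_spanFinrank_maximalIdeal_le
  rw [ringKrullDim_AS p a, maximalIdeal_AS p a ham, nn_eq]
  have h1 := Submodule.spanFinrank_span_le_ncard_of_finite (R := AS p a)
    (Set.finite_range (uu p a))
  have h2 : (Set.range (uu p a)).ncard ≤ n := by
    have := Set.ncard_image_le (f := uu p a) (s := Set.univ) Set.finite_univ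
    rw [Set.image_univ] at this
    simpa using this
  have h3 : (Ideal.span (Set.range (uu p a))).spanFinrank ≤ n := le_trans h1 h2
  exact_mod_cast h3

include ham in
theorem isDomain_AS : IsDomain (AS p a) := by
  haveI := isRegularLocalRing_AS p a ham
  exact Groth.Agent.Lib.Helper85.isDomain_of_isRegularLocalRing (AS p a)

include ham in
theorem isAdicComplete_AS : IsAdicComplete (R := AS p a) (nn p a) (AS p a) := by
  haveI hR : IsAdicComplete (IsLocalRing.maximalIdeal (MvPowerSeries (Fin n) k))
      (MvPowerSeries (Fin n) k) := by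
    rw [PSLocal.maximalIdeal_eq_span_X]; infer_instance
  haveI h1 : IsAdicComplete (IsLocalRing.maximalIdeal (MvPowerSeries (Fin n) k)) (AS p a) :=
    Groth.Agent.Lib.Helper75.CompleteProjective.isAdicComplete_of_finite_projective _ (AS p a)
  have h2 : IsAdicComplete (Ideal.map (algebraMap (MvPowerSeries (Fin n) k) (AS p a))
      (IsLocalRing.maximalIdeal (MvPowerSeries (Fin n) k))) (AS p a) :=
    (IsAdicComplete.map_algebraMap_iff _ (AS p a)).mpr h1
  obtain ⟨r, hr⟩ := Ideal.exists_radical_pow_le_of_fg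
    (Ideal.map (algebraMap (MvPowerSeries (Fin n) k) (AS p a))
      (IsLocalRing.maximalIdeal (MvPowerSeries (Fin n) k))) (IsNoetherian.noetherian _)
  have hrad : nn p a ≤ (Ideal.map (algebraMap (MvPowerSeries (Fin n) k) (AS p a))
      (IsLocalRing.maximalIdeal (MvPowerSeries (Fin n) k))).radical := by
    rw [nn_eq, Ideal.span_le]
    rintro _ ⟨i, rfl⟩
    refine ⟨p, ?_⟩
    rw [rel p a i]
    refine Ideal.add_mem _ (Ideal.mul_mem_right _ _ (Ideal.mem_map_of_mem _ ?_))
      (Ideal.mem_map_of_mem _ ?_)
    · exact (PSLocal.mem_maximalIdeal_iff _).2 (constantCoeff_pow_eq_zero p a ham i)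
    · exact (PSLocal.mem_maximalIdeal_iff _).2 (MvPowerSeries.constantCoeff_X i)
  haveI := h2
  exact Groth.Agent.Lib.Helper44.isAdicComplete_of_le_of_pow_le _ _ (map_maximalIdeal_le p a) r
    ((Ideal.pow_right_mono hrad r).trans hr)

end PS

end Groth.Agent.Lib.Helper99.ASFamily
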