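import Mathlib
import Groth.Agent.Lib.Helper99.ASFamily

/-!
# The top-coefficient functional on an Artin–Schreier type complete intersection (helper99)

For `B = R[X_i] / (X_i ^ p - c_i X_i - e_i)` with its monomial basis `asBasis`, the functional `lam`
reading off the coefficient of `∏ X_i ^ (p - 1)` is invariant under translations
`X_i ↦ X_i + t_i` and induces a perfect pairing `(x, y) ↦ lam (x * y)`.
-/

set_option autoImplicit false

namespace Groth.Agent.Lib.Helper99.ASTrace

set_option linter.style.haveILetI false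
set_option linter.unusedSectionVars false

open MvPolynomial Groth.Agent.Lib.Helper99.ASFamily

section OneVar

variable {R : Type*} [CommRing R]

theorem repr_root_pow {f : Polynomial R} (hm : f.Monic) (e : ℕ) (he : e < f.natDegree) :
    (AdjoinRoot.powerBasisAux' hm).repr (AdjoinRoot.root f ^ e) = Finsupp.single ⟨e, he⟩ 1 := by
  have h : AdjoinRoot.powerBasisAux' hm ⟨e, he⟩ = AdjoinRoot.root f ^ e :=
    (AdjoinRoot.powerBasis' hm).basis_eq_pow ⟨e, he⟩
  rw [← h, Module.Basis.repr_self]

theorem repr_root_pow_apply {f : Polynomial R} (hm : f.Monic) (e : ℕ) (he : e < f.natDegree)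
    (j : Fin f.natDegree) :
    (AdjoinRoot.powerBasisAux' hm).repr (AdjoinRoot.root f ^ e) j =
      if e = (j : ℕ) then 1 else 0 := by
  rw [repr_root_pow hm e he, Finsupp.single_apply]
  by_cases h : e = (j : ℕ)
  · rw [if_pos h, if_pos (Fin.ext h)]
  · rw [if_neg h, if_neg (fun h' => h (congrArg Fin.val h'))]

theorem repr_root_add_pow_apply {f : Polynomial R} (hm : f.Monic) (t : R) (e : ℕ)
    (he : e < f.natDegree) (j : Fin f.natDegree) (hj : e ≤ (j : ℕ)) :
    (AdjoinRoot.powerBasisAux' hm).repr
      ((AdjoinRoot.root f + algebraMap R (AdjoinRoot f) t) ^ e) j =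
      if e = (j : ℕ) then 1 else 0 := by
  rw [add_pow, map_sum, Finsupp.finsetSum_apply,
    Finset.sum_eq_single_of_mem e (Finset.self_mem_range_succ e)]
  · rw [Nat.sub_self, pow_zero, mul_one, Nat.choose_self, Nat.cast_one, mul_one,
      repr_root_pow_apply hm e he]
  · intro m hm' hne
    have hme : m < e := by
      have := Finset.mem_range.mp hm'
      omega
    have h1 : AdjoinRoot.root f ^ m * algebraMap R (AdjoinRoot f) t ^ (e - m) *
        ((e.choose m : ℕ) : AdjoinRoot f) =
        (t ^ (e - m) * ((e.choose m : ℕ) : R)) • AdjoinRoot.root f ^ m := by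
      rw [Algebra.smul_def, map_mul, map_pow, map_natCast]
      ring
    rw [h1, map_smul, Finsupp.smul_apply, repr_root_pow_apply hm m (by omega),
      if_neg (by omega), smul_zero]

end OneVar

section Generic

variable {R : Type*} [CommRing R] {ι : Type*} (f : ι → Polynomial R) (g : ι → MvPolynomial ι R)
  [Fintype ι] [DecidableEq ι]
  (hg : ∀ i, g i = Polynomial.aeval (X i : MvPolynomial ι R) (f i))

theorem monoBasis_repr_prod (hm : ∀ i, (f i).Monic) (x : ∀ i, AdjoinRoot (f i))
    (m : ∀ i, Fin (f i).natDegree) :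
    (monoBasis f g hg hm).repr (∏ i, fac f g hg i (x i)) m =
      ∏ i, (AdjoinRoot.powerBasisAux' (hm i)).repr (x i) (m i) := by
  have h1 : (monoBasis f g hg hm).repr (∏ i, fac f g hg i (x i)) =
      (Basis.piTensorProduct (fun i => AdjoinRoot.powerBasisAux' (hm i))).repr
        (toT f g hg (∏ i, fac f g hg i (x i))) := rfl
  have h2 : toT f g hg (∏ i, fac f g hg i (x i)) = PiTensorProduct.tprod R x := by
    rw [← fromT_tprod]
    exact DFunLike.congr_fun (toT_comp_fromT f g hg) _
  rw [h1, h2, Basis.piTensorProduct_repr_tprod_apply]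

end Generic

section AS

variable {R : Type*} [CommRing R] [Nontrivial R] {ι : Type*} [Fintype ι] [DecidableEq ι]
  (p : ℕ) (c e : ι → R) (hp : 2 ≤ p)

/-- the complete intersection ring -/
abbrev BB := MvPolynomial ι R ⧸ Ideal.span (Set.range (asRel p c e))

/-- its generators -/
noncomputable abbrev UU (i : ι) : BB p c e :=
  Ideal.Quotient.mk (Ideal.span (Set.range (asRel p c e))) (X i)

/-- the top index -/
def topIdx : ι → Fin p := fun _ => ⟨p - 1, by omega⟩

/-- the top-coefficient functional -/
noncomputable def lam : BB p c e →ₗ[R] R := (asBasis p c e hp).coord (topIdx p hp)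

theorem lam_prod (x : ∀ i, AdjoinRoot (asPoly p c e i)) :
    lam p c e hp (∏ i, fac (asPoly p c e) (asRel p c e) (asRel_eq p c e) i (x i)) =
      ∏ i, (AdjoinRoot.powerBasisAux' (asPoly_monic p c e hp i)).repr (x i)
        ⟨p - 1, by rw [asPoly_natDegree p c e hp i]; omega⟩ := by
  unfold lam asBasis
  rw [Module.Basis.coord_apply, Module.Basis.repr_reindex_apply, monoBasis_repr_prod]
  rfl

theorem fac_root_pow (i : ι) (E : ℕ) :
    fac (asPoly p c e) (asRel p c e) (asRel_eq p c e) i (AdjoinRoot.root _ ^ E) =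
      UU p c e i ^ E := by
  rw [map_pow, fac_root]

theorem fac_root_add_pow (i : ι) (t : R) (E : ℕ) :
    fac (asPoly p c e) (asRel p c e) (asRel_eq p c e) i
      ((AdjoinRoot.root _ + algebraMap R _ t) ^ E) =
      (UU p c e i + algebraMap R (BB p c e) t) ^ E := by
  rw [map_pow, map_add, fac_root, AlgHom.commutes]

theorem lam_pow_eq_zero (E : ι → ℕ) (i₀ : ι) (h : E i₀ < p - 1) :
    lam p c e hp (∏ i, UU p c e i ^ E i) = 0 := by
  have h1 : ∏ i, UU p c e i ^ E i = ∏ i, fac (asPoly p c e) (asRel p c e) (asRel_eq p c e) i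
      (AdjoinRoot.root _ ^ E i) :=
    Finset.prod_congr rfl fun i _ => (fac_root_pow p c e i (E i)).symm
  rw [h1, lam_prod]
  apply Finset.prod_eq_zero (Finset.mem_univ i₀)
  rw [repr_root_pow_apply _ _ (by rw [asPoly_natDegree p c e hp i₀]; omega)]
  exact if_neg (by show ¬ E i₀ = p - 1; omega)

theorem lam_pow_top : lam p c e hp (∏ i, UU p c e i ^ (p - 1)) = 1 := by
  have h1 : ∏ i, UU p c e i ^ (p - 1) = ∏ i, fac (asPoly p c e) (asRel p c e) (asRel_eq p c e) i
      (AdjoinRoot.root _ ^ (p - 1)) :=
    Finset.prod_congr rfl fun i _ => (fac_root_pow p c e i (p - 1)).symm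
  rw [h1, lam_prod]
  apply Finset.prod_eq_one
  intro i _
  rw [repr_root_pow_apply _ _ (by rw [asPoly_natDegree p c e hp i]; omega)]
  exact if_pos rfl

theorem lam_translate (t : ι → R) (m : ι → Fin p) :
    lam p c e hp (∏ i, (UU p c e i + algebraMap R (BB p c e) (t i)) ^ (m i : ℕ)) =
      lam p c e hp (∏ i, UU p c e i ^ (m i : ℕ)) := by
  have h1 : ∏ i, UU p c e i ^ (m i : ℕ) = ∏ i, fac (asPoly p c e) (asRel p c e) (asRel_eq p c e) i
      (AdjoinRoot.root _ ^ (m i : ℕ)) :=
    Finset.prod_congr rfl fun i _ => (fac_root_pow p c e i _).symm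
  have h2 : ∏ i, (UU p c e i + algebraMap R (BB p c e) (t i)) ^ (m i : ℕ) =
      ∏ i, fac (asPoly p c e) (asRel p c e) (asRel_eq p c e) i
        ((AdjoinRoot.root _ + algebraMap R _ (t i)) ^ (m i : ℕ)) :=
    Finset.prod_congr rfl fun i _ => (fac_root_add_pow p c e i (t i) _).symm
  rw [h1, h2, lam_prod, lam_prod]
  refine Finset.prod_congr rfl fun i _ => ?_
  have hm : (m i : ℕ) < (asPoly p c e i).natDegree := by
    rw [asPoly_natDegree p c e hp i]
    exact (m i).2
  rw [repr_root_pow_apply _ _ hm, repr_root_add_pow_apply _ _ _ hm]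
  show (m i : ℕ) ≤ p - 1
  have := (m i).2
  omega

/-- the pairing -/
noncomputable def Theta : BB p c e →ₗ[R] (BB p c e →ₗ[R] R) :=
  (LinearMap.mul R (BB p c e)).compr₂ (lam p c e hp)

theorem Theta_apply (b x : BB p c e) : Theta p c e hp b x = lam p c e hp (b * x) := rfl

/-- the complementary index -/
def compIdx (m : ι → Fin p) : ι → Fin p := fun i => ⟨p - 1 - (m i : ℕ), by omega⟩

theorem Theta_basis (m m' : ι → Fin p) :
    Theta p c e hp (asBasis p c e hp (compIdx p m)) (asBasis p c e hp m') =
      lam p c e hp (∏ i, UU p c e i ^ (p - 1 - (m i : ℕ) + (m' i : ℕ))) := by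
  rw [Theta_apply, asBasis_apply, asBasis_apply, ← Finset.prod_mul_distrib]
  congr 1
  refine Finset.prod_congr rfl fun i _ => ?_
  rw [← pow_add]
  rfl

theorem Theta_basis_self (m : ι → Fin p) :
    Theta p c e hp (asBasis p c e hp (compIdx p m)) (asBasis p c e hp m) = 1 := by
  rw [Theta_basis]
  have h : ∀ i, p - 1 - (m i : ℕ) + (m i : ℕ) = p - 1 := by
    intro i
    have := (m i).2
    omega
  simp only [h]
  exact lam_pow_top p c e hp

theorem Theta_basis_of_lt (m m' : ι → Fin p) (i₀ : ι) (h : (m' i₀ : ℕ) < (m i₀ : ℕ)) :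
    Theta p c e hp (asBasis p c e hp (compIdx p m)) (asBasis p c e hp m') = 0 := by
  rw [Theta_basis]
  apply lam_pow_eq_zero p c e hp _ i₀
  have := (m i₀).2
  omega

theorem coord_mem_range : ∀ (N : ℕ) (m : ι → Fin p), ∑ i, (p - 1 - (m i : ℕ)) = N →
    (asBasis p c e hp).coord m ∈ LinearMap.range (Theta p c e hp) := by
  intro N
  induction N using Nat.strong_induction_on with
  | _ N ih =>
    intro m hm
    have hsum := (asBasis p c e hp).sum_dual_apply_smul_coord
      (Theta p c e hp (asBasis p c e hp (compIdx p m)))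
    rw [← Finset.add_sum_erase _ _ (Finset.mem_univ m), Theta_basis_self, one_smul] at hsum
    have hrest : ∑ x ∈ Finset.univ.erase m,
        Theta p c e hp (asBasis p c e hp (compIdx p m)) (asBasis p c e hp x) •
          (asBasis p c e hp).coord x ∈ LinearMap.range (Theta p c e hp) := by
      apply Submodule.sum_mem
      intro m' hm'
      by_cases hlt : ∃ i₀, (m' i₀ : ℕ) < (m i₀ : ℕ)
      · obtain ⟨i₀, hi₀⟩ := hlt
        rw [Theta_basis_of_lt p c e hp m m' i₀ hi₀, zero_smul]
        exact Submodule.zero_mem _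
      · push Not at hlt
        apply Submodule.smul_mem
        have hne : m' ≠ m := (Finset.mem_erase.mp hm').1
        obtain ⟨i₁, hi₁⟩ : ∃ i₁, (m i₁ : ℕ) < (m' i₁ : ℕ) := by
          by_contra hcon
          push Not at hcon
          apply hne
          funext i
          exact Fin.ext (le_antisymm (hcon i) (hlt i))
        have hlt' : ∑ i, (p - 1 - (m' i : ℕ)) < ∑ i, (p - 1 - (m i : ℕ)) := by
          apply Finset.sum_lt_sum
          · intro i _
            have := hlt i
            omega
          · refine ⟨i₁, Finset.mem_univ _, ?_⟩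
            have := (m' i₁).2
            omega
        exact ih _ (hm ▸ hlt') m' rfl
    have heq : (asBasis p c e hp).coord m =
        Theta p c e hp (asBasis p c e hp (compIdx p m)) -
          ∑ x ∈ Finset.univ.erase m,
            Theta p c e hp (asBasis p c e hp (compIdx p m)) (asBasis p c e hp x) •
              (asBasis p c e hp).coord x := eq_sub_of_add_eq hsum
    rw [heq]
    exact Submodule.sub_mem _ ⟨_, rfl⟩ hrest

theorem Theta_surjective : Function.Surjective (Theta p c e hp) := by
  intro ψ
  have hmem : ψ ∈ LinearMap.range (Theta p c e hp) := by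
    rw [← (asBasis p c e hp).sum_dual_apply_smul_coord ψ]
    apply Submodule.sum_mem
    intro m _
    exact Submodule.smul_mem _ _ (coord_mem_range p c e hp _ m rfl)
  exact hmem

theorem Theta_injective : Function.Injective (Theta p c e hp) := by
  rw [injective_iff_map_eq_zero]
  intro b hb
  apply (asBasis p c e hp).ext_elem
  intro m
  obtain ⟨y, hy⟩ := coord_mem_range p c e hp _ m rfl
  have h1 : (asBasis p c e hp).coord m b = Theta p c e hp y b := by rw [hy]
  have h2 : Theta p c e hp y b = Theta p c e hp b y := by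
    rw [Theta_apply, Theta_apply, mul_comm]
  rw [map_zero, Finsupp.zero_apply]
  show (asBasis p c e hp).coord m b = 0
  rw [h1, h2, hb, LinearMap.zero_apply]

end AS

end Groth.Agent.Lib.Helper99.ASTrace
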