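import Mathlib

/-!
# Finite point sets in `ℙ³` with the Cayley–Bacharach property (helper99)
-/

set_option autoImplicit false
universe u

namespace Groth.Agent.Lib.Helper99.CBPoints

open MvPolynomial

variable {k : Type u} [Field k]

/-- the Cayley–Bacharach property in degree `n`. -/
def CB (n : ℕ) (Z : Finset (Projectivization k (Fin 4 → k))) : Prop :=
  ∀ z ∈ Z, ∀ p : MvPolynomial (Fin 4) k, p.IsHomogeneous n →
    (∀ z' ∈ Z, z' ≠ z → MvPolynomial.eval z'.rep p = 0) → MvPolynomial.eval z.rep p = 0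

/-- the linear form attached to a functional. -/
noncomputable def linPoly (f : Module.Dual k (Fin 4 → k)) : MvPolynomial (Fin 4) k :=
  ∑ i, MvPolynomial.C (f (Pi.single i 1)) * MvPolynomial.X i

theorem linPoly_hom (f : Module.Dual k (Fin 4 → k)) : (linPoly f).IsHomogeneous 1 :=
  MvPolynomial.IsHomogeneous.sum _ _ _ (fun i _ => MvPolynomial.isHomogeneous_C_mul_X _ i)

theorem eval_linPoly (f : Module.Dual k (Fin 4 → k)) (v : Fin 4 → k) :
    MvPolynomial.eval v (linPoly f) = f v := by
  rw [LinearMap.pi_apply_eq_sum_univ f v]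
  simp only [linPoly, map_sum, map_mul, MvPolynomial.eval_C, MvPolynomial.eval_X, smul_eq_mul]
  refine Finset.sum_congr rfl (fun i _ => ?_)
  rw [mul_comm]
  congr 2
  funext j
  rw [Pi.single_apply]
  by_cases h : i = j
  · rw [if_pos h, if_pos h.symm]
  · rw [if_neg h, if_neg (Ne.symm h)]

theorem rep_mem_iff (z : Projectivization k (Fin 4 → k)) (W : Submodule k (Fin 4 → k)) :
    z.submodule ≤ W ↔ z.rep ∈ W := by
  rw [z.submodule_eq, Submodule.span_singleton_le_iff_mem]

theorem exists_dual_vanishing (W : Submodule k (Fin 4 → k)) (v : Fin 4 → k) (hv : v ∉ W) :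
    ∃ f : Module.Dual k (Fin 4 → k), f v ≠ 0 ∧ ∀ w ∈ W, f w = 0 := by
  obtain ⟨f, hf, hf'⟩ := Submodule.exists_dual_map_eq_bot_of_notMem hv inferInstance
  refine ⟨f, hf, fun w hw => ?_⟩
  have : f w ∈ W.map f := Submodule.mem_map_of_mem hw
  rw [hf'] at this
  exact (Submodule.mem_bot k).mp this

theorem exists_lin (z z' : Projectivization k (Fin 4 → k)) (h : z' ≠ z) :
    ∃ p : MvPolynomial (Fin 4) k, p.IsHomogeneous 1 ∧ MvPolynomial.eval z'.rep p = 0 ∧
      MvPolynomial.eval z.rep p ≠ 0 := by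
  have hnot : z.rep ∉ z'.submodule := by
    intro hmem
    apply h
    have hle : z.submodule ≤ z'.submodule := (rep_mem_iff z _).mpr hmem
    have := Submodule.eq_of_le_of_finrank_eq hle
      (by rw [z.finrank_submodule, z'.finrank_submodule])
    exact (Projectivization.submodule_injective this).symm
  obtain ⟨f, hf, hf'⟩ := exists_dual_vanishing _ _ hnot
  refine ⟨linPoly f, linPoly_hom f, ?_, ?_⟩
  · rw [eval_linPoly]
    exact hf' _ ((rep_mem_iff z' _).mp le_rfl)
  · rw [eval_linPoly]
    exact hf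

/-- a nonempty set with `CB(n)` has at least `n + 2` points. -/
theorem card_ge (Z : Finset (Projectivization k (Fin 4 → k))) (hZ : Z.Nonempty) (n : ℕ)
    (hCB : CB n Z) : n + 2 ≤ Z.card := by
  classical
  by_contra hlt
  push Not at hlt
  obtain ⟨z, hz⟩ := hZ
  have hA : ∀ z' : Projectivization k (Fin 4 → k), z' ≠ z →
      ∃ p : MvPolynomial (Fin 4) k, p.IsHomogeneous 1 ∧ MvPolynomial.eval z'.rep p = 0 ∧
        MvPolynomial.eval z.rep p ≠ 0 := fun z' h => exists_lin z z' h
  choose! ℓ hℓ using hA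
  obtain ⟨i, hi⟩ : ∃ i, z.rep i ≠ 0 := by
    by_contra hcon
    push Not at hcon
    exact z.rep_nonzero (funext hcon)
  have hcard : 1 ≤ Z.card := Finset.card_pos.mpr ⟨z, hz⟩
  have herase : (Z.erase z).card = Z.card - 1 := Finset.card_erase_of_mem hz
  have hp : ((∏ z' ∈ Z.erase z, ℓ z') * MvPolynomial.X i ^ (n + 1 - Z.card)).IsHomogeneous n := by
    have h1 : (∏ z' ∈ Z.erase z, ℓ z').IsHomogeneous (∑ z' ∈ Z.erase z, 1) :=
      MvPolynomial.IsHomogeneous.prod _ _ _
        (fun z' hz' => (hℓ z' (Finset.ne_of_mem_erase hz')).1)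
    have h2 := (MvPolynomial.isHomogeneous_X k i).pow (n + 1 - Z.card)
    have h3 := h1.mul h2
    have hdeg : (∑ z' ∈ Z.erase z, 1) + 1 * (n + 1 - Z.card) = n := by
      rw [Finset.sum_const, smul_eq_mul, mul_one, herase]
      omega
    rwa [hdeg] at h3
  have h0 := hCB z hz _ hp (fun z' hz' hne => by
    rw [map_mul, map_prod,
      Finset.prod_eq_zero (Finset.mem_erase.mpr ⟨hne, hz'⟩) (hℓ z' hne).2.1, zero_mul])
  rw [map_mul, map_prod, map_pow, MvPolynomial.eval_X] at h0
  refine absurd h0 (mul_ne_zero (Finset.prod_ne_zero_iff.mpr fun z' hz' => ?_) (pow_ne_zero _ hi))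
  exact (hℓ z' (Finset.ne_of_mem_erase hz')).2.2

/-- the residual set with respect to a subspace has `CB(n)` if the set has `CB(n+1)`. -/
theorem residual (Z Z' : Finset (Projectivization k (Fin 4 → k))) (W : Submodule k (Fin 4 → k))
    (n : ℕ) (hCB : CB (n + 1) Z) (hsub : Z' ⊆ Z) (hW : ∀ z ∈ Z, z ∉ Z' → z.rep ∈ W)
    (hW' : ∀ z ∈ Z', z.rep ∉ W) : CB n Z' := by
  intro z' hz' g hg hvan
  obtain ⟨f, hf, hfW⟩ := exists_dual_vanishing W _ (hW' z' hz')
  have hp : (g * linPoly f).IsHomogeneous (n + 1) := hg.mul (linPoly_hom f)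
  have h0 := hCB z' (hsub hz') _ hp (fun z hz hne => by
    rw [map_mul, eval_linPoly]
    by_cases hzZ' : z ∈ Z'
    · rw [hvan z hzZ' hne, zero_mul]
    · rw [hfW _ (hW z hz hzZ'), mul_zero])
  rw [map_mul, eval_linPoly] at h0
  exact (mul_eq_zero.mp h0).resolve_right hf

/-- the line through two distinct points. -/
theorem exists_line (z₁ z₂ : Projectivization k (Fin 4 → k)) (h : z₁ ≠ z₂) :
    ∃ W : Submodule k (Fin 4 → k), Module.finrank k W = 2 ∧ z₁.rep ∈ W ∧ z₂.rep ∈ W := by
  have hli := Projectivization.linearIndependent_pair_iff_ne.mpr h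
  refine ⟨Submodule.span k (Set.range ![z₁.rep, z₂.rep]), ?_, ?_, ?_⟩
  · rw [finrank_span_eq_card hli]
    simp
  · exact Submodule.subset_span ⟨0, rfl⟩
  · exact Submodule.subset_span ⟨1, rfl⟩

open scoped Classical in
/-- a subspace of given dimension containing the maximal number of points. -/
theorem exists_max (Z : Finset (Projectivization k (Fin 4 → k))) (r : ℕ)
    (hex : ∃ W : Submodule k (Fin 4 → k), Module.finrank k W = r) :
    ∃ W : Submodule k (Fin 4 → k), Module.finrank k W = r ∧
      ∀ W' : Submodule k (Fin 4 → k), Module.finrank k W' = r →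
        (Z.filter (fun z : Projectivization k (Fin 4 → k) => z.rep ∈ W')).card ≤
          (Z.filter (fun z : Projectivization k (Fin 4 → k) => z.rep ∈ W)).card := by
  classical
  let S : Set ℕ := {m | ∃ W : Submodule k (Fin 4 → k), Module.finrank k W = r ∧
    (Z.filter (fun z => z.rep ∈ W)).card = m}
  have hne : S.Nonempty := by
    obtain ⟨W, hW⟩ := hex
    exact ⟨_, W, hW, rfl⟩
  have hbdd : BddAbove S := ⟨Z.card, by
    rintro m ⟨W, -, rfl⟩
    exact Finset.card_filter_le _ _⟩
  obtain ⟨W, hW, hWm⟩ := Nat.sSup_mem hne hbdd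
  refine ⟨W, hW, fun W' hW' => ?_⟩
  rw [hWm]
  exact le_csSup hbdd ⟨W', hW', rfl⟩

/-- a nonempty set with `CB(n)` and at most `2n+1` points is collinear. -/
theorem collinear (n : ℕ) : ∀ (Z : Finset (Projectivization k (Fin 4 → k))), Z.Nonempty → CB n Z →
    Z.card ≤ 2 * n + 1 →
    ∃ W : Submodule k (Fin 4 → k), Module.finrank k W = 2 ∧ ∀ z ∈ Z, z.rep ∈ W := by
  classical
  induction n with
  | zero =>
    intro Z hZ hCB hc
    have := card_ge Z hZ 0 hCB
    omega
  | succ n ih =>
    intro Z hZ hCB hc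
    have h3 := card_ge Z hZ (n + 1) hCB
    obtain ⟨z₁, hz₁, z₂, hz₂, h12⟩ := Finset.one_lt_card.mp (by omega : 1 < Z.card)
    obtain ⟨W₀, hW₀, h1W₀, h2W₀⟩ := exists_line z₁ z₂ h12
    obtain ⟨W, hW2, hmax⟩ := exists_max Z 2 ⟨W₀, hW₀⟩
    by_cases hall : ∀ z ∈ Z, z.rep ∈ W
    · exact ⟨W, hW2, hall⟩
    exfalso
    push Not at hall
    obtain ⟨z₀, hz₀, hz₀W⟩ := hall
    have hZ'ne : (Z.filter (fun z => z.rep ∉ W)).Nonempty :=
      ⟨z₀, Finset.mem_filter.mpr ⟨hz₀, hz₀W⟩⟩
    have hCB' : CB n (Z.filter (fun z => z.rep ∉ W)) :=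
      residual Z _ W n hCB (Finset.filter_subset _ _)
        (fun z hz hzn => by
          by_contra hcon
          exact hzn (Finset.mem_filter.mpr ⟨hz, hcon⟩))
        (fun z hz => (Finset.mem_filter.mp hz).2)
    have hc1 := card_ge _ hZ'ne n hCB'
    have hsplit : (Z.filter (fun z => z.rep ∈ W)).card + (Z.filter (fun z => z.rep ∉ W)).card =
        Z.card := Finset.card_filter_add_card_filter_not _
    have h2le : 2 ≤ (Z.filter (fun z => z.rep ∈ W)).card := by
      refine le_trans ?_ (hmax W₀ hW₀)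
      have hsub : ({z₁, z₂} : Finset _) ⊆ Z.filter (fun z => z.rep ∈ W₀) := by
        intro z hz
        rw [Finset.mem_insert, Finset.mem_singleton] at hz
        rcases hz with rfl | rfl
        · exact Finset.mem_filter.mpr ⟨hz₁, h1W₀⟩
        · exact Finset.mem_filter.mpr ⟨hz₂, h2W₀⟩
      have := Finset.card_le_card hsub
      rwa [Finset.card_pair h12] at this
    obtain ⟨W', hW'2, hW'⟩ := ih _ hZ'ne hCB' (by omega)
    have h5 : (Z.filter (fun z => z.rep ∉ W)).card ≤ (Z.filter (fun z => z.rep ∈ W')).card :=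
      Finset.card_le_card (fun z hz =>
        Finset.mem_filter.mpr ⟨(Finset.mem_filter.mp hz).1, hW' z hz⟩)
    have h6 := hmax W' hW'2
    omega

/-! ### Sets with at most `3n+1` points -/

section Planes

open scoped Classical

/-- every subspace of dimension at most `r ≤ 4` lies in one of dimension exactly `r`. -/
theorem exists_ge_finrank_eq (W : Submodule k (Fin 4 → k)) (r : ℕ)
    (h1 : Module.finrank k W ≤ r) (h2 : r ≤ 4) :
    ∃ W' : Submodule k (Fin 4 → k), W ≤ W' ∧ Module.finrank k W' = r := by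
  obtain ⟨j, hj⟩ : ∃ j, r = Module.finrank k W + j := ⟨r - Module.finrank k W, by omega⟩
  induction j generalizing W with
  | zero => exact ⟨W, le_rfl, by omega⟩
  | succ j ih =>
    have hlt : Module.finrank k W < Module.finrank k (Fin 4 → k) := by
      rw [Module.finrank_fin_fun]
      omega
    obtain ⟨v, hv⟩ : ∃ v, v ∉ W := by
      by_contra hcon
      push Not at hcon
      have : W = ⊤ := eq_top_iff.mpr fun x _ => hcon x
      rw [this, finrank_top] at hlt
      exact lt_irrefl _ hlt
    have hf := Submodule.finrank_sup_span_singleton hv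
    obtain ⟨W', hW', hr⟩ := ih (W ⊔ Submodule.span k {v}) (by omega) (by omega)
    exact ⟨W', le_trans le_sup_left hW', hr⟩

/-- all points lie in a common plane. -/
def Coplanar (Z : Finset (Projectivization k (Fin 4 → k))) : Prop :=
  ∃ W : Submodule k (Fin 4 → k), Module.finrank k W = 3 ∧ ∀ z ∈ Z, z.rep ∈ W

/-- the points lie on two skew lines, each carrying at least `n+1` of them, at least `2n+3` in all. -/
def Skew (Z : Finset (Projectivization k (Fin 4 → k))) (n : ℕ) : Prop :=
  ∃ W₁ W₂ : Submodule k (Fin 4 → k), Module.finrank k W₁ = 2 ∧ Module.finrank k W₂ = 2 ∧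
    W₁ ⊓ W₂ = ⊥ ∧ (∀ z ∈ Z, z.rep ∈ W₁ ∨ z.rep ∈ W₂) ∧
    n + 1 ≤ (Z.filter (fun z : Projectivization k (Fin 4 → k) => z.rep ∈ W₁)).card ∧
    n + 1 ≤ (Z.filter (fun z : Projectivization k (Fin 4 → k) => z.rep ∈ W₂)).card ∧
    2 * n + 3 ≤ Z.card

theorem coplanar_of_subset (Z : Finset (Projectivization k (Fin 4 → k)))
    (W : Submodule k (Fin 4 → k)) (hW : Module.finrank k W ≤ 3) (h : ∀ z ∈ Z, z.rep ∈ W) :
    Coplanar Z := by
  obtain ⟨W', hle, hW'⟩ := exists_ge_finrank_eq W 3 hW (by norm_num)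
  exact ⟨W', hW', fun z hz => hle (h z hz)⟩

theorem coplanar_of_card_le (T : Finset (Projectivization k (Fin 4 → k))) (h : T.card ≤ 3) :
    Coplanar T := by
  apply coplanar_of_subset T
    (Submodule.span k ((T.image (fun z : Projectivization k (Fin 4 → k) => z.rep) :
      Finset (Fin 4 → k)) : Set (Fin 4 → k)))
  · have h1 := finrank_span_finset_le_card (R := k)
      (T.image (fun z : Projectivization k (Fin 4 → k) => z.rep))
    have h2 := Finset.card_image_le (s := T)
      (f := fun z : Projectivization k (Fin 4 → k) => z.rep)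
    exact le_trans h1 (le_trans h2 h)
  · intro z hz
    apply Submodule.subset_span
    rw [Finset.mem_coe, Finset.mem_image]
    exact ⟨z, hz, rfl⟩

theorem residual_filter (Z : Finset (Projectivization k (Fin 4 → k)))
    (W : Submodule k (Fin 4 → k)) (n : ℕ) (hCB : CB (n + 1) Z) :
    CB n (Z.filter (fun z : Projectivization k (Fin 4 → k) => z.rep ∉ W)) :=
  residual Z _ W n hCB (Finset.filter_subset _ _)
    (fun z hz hzn => by
      by_contra hcon
      exact hzn (Finset.mem_filter.mpr ⟨hz, hcon⟩))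
    (fun z hz => (Finset.mem_filter.mp hz).2)

theorem residual_nonempty (Z : Finset (Projectivization k (Fin 4 → k)))
    (W : Submodule k (Fin 4 → k)) (hW : Module.finrank k W ≤ 3) (hnc : ¬ Coplanar Z) :
    (Z.filter (fun z : Projectivization k (Fin 4 → k) => z.rep ∉ W)).Nonempty := by
  by_contra hcon
  rw [Finset.not_nonempty_iff_eq_empty] at hcon
  apply hnc
  apply coplanar_of_subset Z W hW
  intro z hz
  by_contra hzW
  have : z ∈ Z.filter (fun z : Projectivization k (Fin 4 → k) => z.rep ∉ W) :=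
    Finset.mem_filter.mpr ⟨hz, hzW⟩
  rw [hcon] at this
  exact absurd this (Finset.notMem_empty _)

theorem residual_card_ge (Z : Finset (Projectivization k (Fin 4 → k)))
    (W : Submodule k (Fin 4 → k)) (n : ℕ) (hCB : CB (n + 1) Z) (hW : Module.finrank k W ≤ 3)
    (hnc : ¬ Coplanar Z) :
    n + 2 ≤ (Z.filter (fun z : Projectivization k (Fin 4 → k) => z.rep ∉ W)).card :=
  card_ge _ (residual_nonempty Z W hW hnc) n (residual_filter Z W n hCB)

theorem line_unique (N N' : Submodule k (Fin 4 → k)) (hN : Module.finrank k N = 2)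
    (hN' : Module.finrank k N' = 2) (x y : Projectivization k (Fin 4 → k)) (hxy : x ≠ y)
    (hx : x.rep ∈ N) (hy : y.rep ∈ N) (hx' : x.rep ∈ N') (hy' : y.rep ∈ N') : N = N' := by
  have hli := Projectivization.linearIndependent_pair_iff_ne.mpr hxy
  have hS : Module.finrank k (Submodule.span k (Set.range ![x.rep, y.rep])) = 2 := by
    rw [finrank_span_eq_card hli]
    simp
  have h1 : Submodule.span k (Set.range ![x.rep, y.rep]) ≤ N := by
    rw [Submodule.span_le]
    rintro _ ⟨i, rfl⟩
    fin_cases i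
    · exact hx
    · exact hy
  have h2 : Submodule.span k (Set.range ![x.rep, y.rep]) ≤ N' := by
    rw [Submodule.span_le]
    rintro _ ⟨i, rfl⟩
    fin_cases i
    · exact hx'
    · exact hy'
  have e1 := Submodule.eq_of_le_of_finrank_eq h1 (by rw [hS, hN])
  have e2 := Submodule.eq_of_le_of_finrank_eq h2 (by rw [hS, hN'])
  rw [← e1, e2]

theorem skew_of_lines (n : ℕ) (Z : Finset (Projectivization k (Fin 4 → k)))
    (hCB : CB (n + 1) Z) (hnc : ¬ Coplanar Z) (M N : Submodule k (Fin 4 → k))
    (hM : Module.finrank k M = 2) (hN : Module.finrank k N = 2)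
    (hcov : ∀ z ∈ Z, z.rep ∈ M ∨ z.rep ∈ N) : Skew Z (n + 1) := by
  have hMN : M ⊓ N = ⊥ := by
    by_contra hne
    apply hnc
    have h1 := Submodule.finrank_sup_add_finrank_inf_eq M N
    have h2 : Module.finrank k ↥(M ⊓ N) ≠ 0 := fun h0 => hne (Submodule.finrank_eq_zero.mp h0)
    apply coplanar_of_subset Z (M ⊔ N) (by omega)
    intro z hz
    rcases hcov z hz with h | h
    · exact Submodule.mem_sup_left h
    · exact Submodule.mem_sup_right h
  have hD := residual_card_ge Z M n hCB (by omega) hnc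
  have hD' := residual_card_ge Z N n hCB (by omega) hnc
  have hsubN : Z.filter (fun z : Projectivization k (Fin 4 → k) => z.rep ∉ M) ⊆
      Z.filter (fun z : Projectivization k (Fin 4 → k) => z.rep ∈ N) := by
    intro z hz
    rw [Finset.mem_filter] at hz ⊢
    exact ⟨hz.1, (hcov z hz.1).resolve_left hz.2⟩
  have hsubM : Z.filter (fun z : Projectivization k (Fin 4 → k) => z.rep ∉ N) ⊆
      Z.filter (fun z : Projectivization k (Fin 4 → k) => z.rep ∈ M) := by
    intro z hz
    rw [Finset.mem_filter] at hz ⊢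
    exact ⟨hz.1, (hcov z hz.1).resolve_right hz.2⟩
  have hcM := Finset.card_le_card hsubM
  have hcN := Finset.card_le_card hsubN
  obtain ⟨b, hb⟩ : (Z.filter (fun z : Projectivization k (Fin 4 → k) => z.rep ∈ M)).Nonempty :=
    Finset.card_pos.mp (by omega)
  have hb' := Finset.mem_filter.mp hb
  have hP : Module.finrank k ↥(N ⊔ Submodule.span k {b.rep}) ≤ 3 := by
    have h1 := Submodule.finrank_add_le_finrank_add_finrank N (Submodule.span k {b.rep})
    have h2 := finrank_span_singleton (K := k) b.rep_nonzero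
    omega
  have hR := residual_card_ge Z (N ⊔ Submodule.span k {b.rep}) n hCB hP hnc
  have hRsub : Z.filter (fun z : Projectivization k (Fin 4 → k) =>
        z.rep ∉ N ⊔ Submodule.span k {b.rep}) ⊆
      (Z.filter (fun z : Projectivization k (Fin 4 → k) => z.rep ∈ M)).erase b := by
    intro z hz
    rw [Finset.mem_filter] at hz
    rw [Finset.mem_erase, Finset.mem_filter]
    refine ⟨?_, hz.1, ?_⟩
    · rintro rfl
      exact hz.2 (Submodule.mem_sup_right (Submodule.mem_span_singleton_self _))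
    · exact (hcov z hz.1).resolve_right (fun h => hz.2 (Submodule.mem_sup_left h))
  have hRc := Finset.card_le_card hRsub
  rw [Finset.card_erase_of_mem hb] at hRc
  have hsplit := Finset.card_filter_add_card_filter_not (s := Z)
    (fun z : Projectivization k (Fin 4 → k) => z.rep ∈ M)
  exact ⟨M, N, hM, hN, hMN, hcov, by omega, by omega, by omega⟩

theorem borderline (n : ℕ) (Z : Finset (Projectivization k (Fin 4 → k)))
    (hCB : CB (n + 1) Z) (hnc : ¬ Coplanar Z) (M : Submodule k (Fin 4 → k))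
    (hM : Module.finrank k M = 2)
    (hD : (Z.filter (fun z : Projectivization k (Fin 4 → k) => z.rep ∉ M)).card = 2 * n + 2) :
    ∃ N : Submodule k (Fin 4 → k), Module.finrank k N = 2 ∧ ∀ z ∈ Z, z.rep ∉ M → z.rep ∈ N := by
  obtain ⟨D, hDdef⟩ : ∃ D : Finset (Projectivization k (Fin 4 → k)),
      D = Z.filter (fun z : Projectivization k (Fin 4 → k) => z.rep ∉ M) := ⟨_, rfl⟩
  rw [← hDdef] at hD
  have hmemD : ∀ z, z ∈ D ↔ z ∈ Z ∧ z.rep ∉ M := fun z => by rw [hDdef, Finset.mem_filter]
  have hP3 : ∀ d : Projectivization k (Fin 4 → k), d.rep ∉ M →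
      Module.finrank k ↥(M ⊔ Submodule.span k {d.rep}) = 3 := fun d hd => by
    rw [Submodule.finrank_sup_span_singleton hd, hM]
  have key : ∀ d ∈ D, ∃ Nd : Submodule k (Fin 4 → k), Module.finrank k Nd = 2 ∧
      (∀ z ∈ D, z.rep ∉ M ⊔ Submodule.span k {d.rep} → z.rep ∈ Nd) ∧
      (D.filter (fun z : Projectivization k (Fin 4 → k) =>
        z.rep ∈ M ⊔ Submodule.span k {d.rep})).card ≤ n ∧
      (D.filter (fun z : Projectivization k (Fin 4 → k) =>
        z.rep ∉ M ⊔ Submodule.span k {d.rep})).Nonempty := by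
    intro d hd
    have hdM : d.rep ∉ M := ((hmemD d).mp hd).2
    have h3 := hP3 d hdM
    have hRge := residual_card_ge Z (M ⊔ Submodule.span k {d.rep}) n hCB (by omega) hnc
    have hRCB := residual_filter Z (M ⊔ Submodule.span k {d.rep}) n hCB
    have hRne := residual_nonempty Z (M ⊔ Submodule.span k {d.rep}) (by omega) hnc
    have hReq : Z.filter (fun z : Projectivization k (Fin 4 → k) =>
          z.rep ∉ M ⊔ Submodule.span k {d.rep}) =
        D.filter (fun z : Projectivization k (Fin 4 → k) =>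
          z.rep ∉ M ⊔ Submodule.span k {d.rep}) := by
      ext z
      rw [Finset.mem_filter, Finset.mem_filter, hmemD]
      constructor
      · rintro ⟨hz, hzP⟩
        exact ⟨⟨hz, fun h => hzP (Submodule.mem_sup_left h)⟩, hzP⟩
      · rintro ⟨⟨hz, -⟩, hzP⟩
        exact ⟨hz, hzP⟩
    have hsplit := Finset.card_filter_add_card_filter_not (s := D)
      (fun z : Projectivization k (Fin 4 → k) => z.rep ∈ M ⊔ Submodule.span k {d.rep})
    have hdP : d ∈ D.filter (fun z : Projectivization k (Fin 4 → k) =>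
        z.rep ∈ M ⊔ Submodule.span k {d.rep}) :=
      Finset.mem_filter.mpr ⟨hd, Submodule.mem_sup_right (Submodule.mem_span_singleton_self _)⟩
    have h1 : 1 ≤ (D.filter (fun z : Projectivization k (Fin 4 → k) =>
        z.rep ∈ M ⊔ Submodule.span k {d.rep})).card := Finset.card_pos.mpr ⟨d, hdP⟩
    rw [hReq] at hRge hRCB hRne
    obtain ⟨Nd, hNd, hNdall⟩ := collinear n _ hRne hRCB (by omega)
    exact ⟨Nd, hNd, fun z hz hzP => hNdall z (Finset.mem_filter.mpr ⟨hz, hzP⟩), by omega, hRne⟩
  obtain ⟨d, hd⟩ : D.Nonempty := Finset.card_pos.mp (by omega)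
  obtain ⟨Nd, hNd, hNdall, hκd, hRne⟩ := key d hd
  obtain ⟨d', hd'⟩ := hRne
  rw [Finset.mem_filter] at hd'
  obtain ⟨Nd', hNd', hNd'all, hκd', -⟩ := key d' hd'.1
  have hE : 2 ≤ (D.filter (fun z : Projectivization k (Fin 4 → k) =>
      z.rep ∉ M ⊔ Submodule.span k {d.rep} ∧ z.rep ∉ M ⊔ Submodule.span k {d'.rep})).card := by
    have hcover : D ⊆ D.filter (fun z : Projectivization k (Fin 4 → k) =>
          z.rep ∈ M ⊔ Submodule.span k {d.rep}) ∪
        (D.filter (fun z : Projectivization k (Fin 4 → k) =>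
          z.rep ∈ M ⊔ Submodule.span k {d'.rep}) ∪
        D.filter (fun z : Projectivization k (Fin 4 → k) =>
          z.rep ∉ M ⊔ Submodule.span k {d.rep} ∧ z.rep ∉ M ⊔ Submodule.span k {d'.rep})) := by
      intro z hz
      rw [Finset.mem_union, Finset.mem_union, Finset.mem_filter, Finset.mem_filter,
        Finset.mem_filter]
      by_cases h1 : z.rep ∈ M ⊔ Submodule.span k {d.rep}
      · exact Or.inl ⟨hz, h1⟩
      · by_cases h2 : z.rep ∈ M ⊔ Submodule.span k {d'.rep}
        · exact Or.inr (Or.inl ⟨hz, h2⟩)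
        · exact Or.inr (Or.inr ⟨hz, h1, h2⟩)
    have h1 := Finset.card_le_card hcover
    have h2 := Finset.card_union_le (D.filter (fun z : Projectivization k (Fin 4 → k) =>
          z.rep ∈ M ⊔ Submodule.span k {d.rep}))
        (D.filter (fun z : Projectivization k (Fin 4 → k) =>
          z.rep ∈ M ⊔ Submodule.span k {d'.rep}) ∪
        D.filter (fun z : Projectivization k (Fin 4 → k) =>
          z.rep ∉ M ⊔ Submodule.span k {d.rep} ∧ z.rep ∉ M ⊔ Submodule.span k {d'.rep}))
    have h3 := Finset.card_union_le (D.filter (fun z : Projectivization k (Fin 4 → k) =>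
          z.rep ∈ M ⊔ Submodule.span k {d'.rep}))
        (D.filter (fun z : Projectivization k (Fin 4 → k) =>
          z.rep ∉ M ⊔ Submodule.span k {d.rep} ∧ z.rep ∉ M ⊔ Submodule.span k {d'.rep}))
    omega
  obtain ⟨e₁, he₁, e₂, he₂, h12⟩ := Finset.one_lt_card.mp hE
  rw [Finset.mem_filter] at he₁ he₂
  have hNN : Nd = Nd' := line_unique Nd Nd' hNd hNd' e₁ e₂ h12 (hNdall e₁ he₁.1 he₁.2.1)
    (hNdall e₂ he₂.1 he₂.2.1) (hNd'all e₁ he₁.1 he₁.2.2) (hNd'all e₂ he₂.1 he₂.2.2)
  refine ⟨Nd, hNd, fun x hx hxM => ?_⟩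
  have hxD : x ∈ D := (hmemD x).mpr ⟨hx, hxM⟩
  by_cases hxP : x.rep ∈ M ⊔ Submodule.span k {d.rep}
  · have hxP' : x.rep ∉ M ⊔ Submodule.span k {d'.rep} := by
      intro hxP'
      have hPx := hP3 x hxM
      have hPd := hP3 d ((hmemD d).mp hd).2
      have hPd' := hP3 d' ((hmemD d').mp hd'.1).2
      have e1 : M ⊔ Submodule.span k {x.rep} = M ⊔ Submodule.span k {d.rep} :=
        Submodule.eq_of_le_of_finrank_eq
          (sup_le le_sup_left ((Submodule.span_singleton_le_iff_mem _ _).mpr hxP))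
          (by rw [hPx, hPd])
      have e2 : M ⊔ Submodule.span k {x.rep} = M ⊔ Submodule.span k {d'.rep} :=
        Submodule.eq_of_le_of_finrank_eq
          (sup_le le_sup_left ((Submodule.span_singleton_le_iff_mem _ _).mpr hxP'))
          (by rw [hPx, hPd'])
      apply hd'.2
      rw [← e1, e2]
      exact Submodule.mem_sup_right (Submodule.mem_span_singleton_self _)
    rw [hNN]
    exact hNd'all x hxD hxP'
  · exact hNdall x hxD hxP

theorem finish (n : ℕ) (Z : Finset (Projectivization k (Fin 4 → k)))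
    (hCB : CB (n + 1) Z) (hc : Z.card ≤ 3 * (n + 1) + 1) (hnc : ¬ Coplanar Z)
    (H₁ M : Submodule k (Fin 4 → k)) (hM : Module.finrank k M = 2)
    (hsub : ∀ z ∈ Z, z.rep ∉ H₁ → z.rep ∈ M)
    (hcnt : n + 2 ≤ (Z.filter (fun z : Projectivization k (Fin 4 → k) => z.rep ∉ H₁)).card) :
    Skew Z (n + 1) := by
  have hD := residual_card_ge Z M n hCB (by omega) hnc
  have hDCB := residual_filter Z M n hCB
  have hcM : (Z.filter (fun z : Projectivization k (Fin 4 → k) => z.rep ∉ H₁)).card ≤
      (Z.filter (fun z : Projectivization k (Fin 4 → k) => z.rep ∈ M)).card :=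
    Finset.card_le_card (fun z hz => by
      rw [Finset.mem_filter] at hz ⊢
      exact ⟨hz.1, hsub z hz.1 hz.2⟩)
  have hsplit := Finset.card_filter_add_card_filter_not (s := Z)
    (fun z : Projectivization k (Fin 4 → k) => z.rep ∈ M)
  obtain ⟨N, hN, hNall⟩ : ∃ N : Submodule k (Fin 4 → k), Module.finrank k N = 2 ∧
      ∀ z ∈ Z, z.rep ∉ M → z.rep ∈ N := by
    by_cases hsm : (Z.filter (fun z : Projectivization k (Fin 4 → k) => z.rep ∉ M)).card ≤
        2 * n + 1
    · obtain ⟨N, hN, hNall⟩ := collinear n _ (Finset.card_pos.mp (by omega)) hDCB hsm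
      exact ⟨N, hN, fun z hz hzM => hNall z (Finset.mem_filter.mpr ⟨hz, hzM⟩)⟩
    · exact borderline n Z hCB hnc M hM (by omega)
  exact skew_of_lines n Z hCB hnc M N hM hN (fun z hz => by
    by_cases h : z.rep ∈ M
    · exact Or.inl h
    · exact Or.inr (hNall z hz h))

/-- a set with `CB(n)` and at most `3n+1` points is coplanar or lies on two skew lines. -/
theorem coplanar_or_skew (n : ℕ) : ∀ Z : Finset (Projectivization k (Fin 4 → k)), CB n Z →
    Z.card ≤ 3 * n + 1 → Coplanar Z ∨ Skew Z n := by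
  induction n with
  | zero =>
    intro Z hCB hc
    left
    have hZ : Z = ∅ := by
      by_contra hne
      have := card_ge Z (Finset.nonempty_iff_ne_empty.mpr hne) 0 hCB
      omega
    subst hZ
    exact coplanar_of_subset ∅ ⊥ (by simp) (by simp)
  | succ n ih =>
    intro Z hCB hc
    by_cases hnc : Coplanar Z
    · exact Or.inl hnc
    right
    obtain ⟨W3, hW3⟩ : ∃ W : Submodule k (Fin 4 → k), Module.finrank k W = 3 := by
      obtain ⟨W, -, h⟩ := exists_ge_finrank_eq (k := k) ⊥ 3 (by simp) (by norm_num)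
      exact ⟨W, h⟩
    obtain ⟨H, hH3, hmax⟩ := exists_max Z 3 ⟨W3, hW3⟩
    have hB := residual_card_ge Z H n hCB (by omega) hnc
    have hBCB := residual_filter Z H n hCB
    have hsplitH := Finset.card_filter_add_card_filter_not (s := Z)
      (fun z : Projectivization k (Fin 4 → k) => z.rep ∈ H)
    have h4 : 4 ≤ Z.card := by
      by_contra hlt
      push Not at hlt
      exact hnc (coplanar_of_card_le Z (by omega))
    have hH : 3 ≤ (Z.filter (fun z : Projectivization k (Fin 4 → k) => z.rep ∈ H)).card := by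
      obtain ⟨T, hTZ, hT3⟩ := Finset.exists_subset_card_eq (by omega : 3 ≤ Z.card)
      obtain ⟨WT, hWT, hWTall⟩ := coplanar_of_card_le T (by omega)
      have h1 : T ⊆ Z.filter (fun z : Projectivization k (Fin 4 → k) => z.rep ∈ WT) :=
        fun z hz => Finset.mem_filter.mpr ⟨hTZ hz, hWTall z hz⟩
      have h2 := Finset.card_le_card h1
      have h3 := hmax WT hWT
      omega
    rcases ih _ hBCB (by omega) with hcop' | hskew'
    · obtain ⟨H', hH', hH'all⟩ := hcop'
      have hA := residual_card_ge Z H' n hCB (by omega) hnc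
      have hACB := residual_filter Z H' n hCB
      have hAsub : Z.filter (fun z : Projectivization k (Fin 4 → k) => z.rep ∉ H') ⊆
          Z.filter (fun z : Projectivization k (Fin 4 → k) => z.rep ∈ H) := by
        intro z hz
        rw [Finset.mem_filter] at hz ⊢
        refine ⟨hz.1, ?_⟩
        by_contra hzH
        exact hz.2 (hH'all z (Finset.mem_filter.mpr ⟨hz.1, hzH⟩))
      have hAle := Finset.card_le_card hAsub
      have hor : (Z.filter (fun z : Projectivization k (Fin 4 → k) => z.rep ∉ H)).card ≤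
            2 * n + 1 ∨
          (Z.filter (fun z : Projectivization k (Fin 4 → k) => z.rep ∉ H')).card ≤ 2 * n + 1 := by
        omega
      rcases hor with hsm | hsm
      · obtain ⟨M, hM, hMall⟩ := collinear n _ (Finset.card_pos.mp (by omega)) hBCB hsm
        exact finish n Z hCB hc hnc H M hM
          (fun z hz hzH => hMall z (Finset.mem_filter.mpr ⟨hz, hzH⟩)) hB
      · obtain ⟨M, hM, hMall⟩ := collinear n _ (Finset.card_pos.mp (by omega)) hACB hsm
        exact finish n Z hCB hc hnc H' M hM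
          (fun z hz hzH => hMall z (Finset.mem_filter.mpr ⟨hz, hzH⟩)) hA
    · exfalso
      obtain ⟨M₁, M₂, hM₁, hM₂, hM12, hcov', hc1, hc2, hc3⟩ := hskew'
      obtain ⟨z₂, hz₂⟩ : ((Z.filter (fun z : Projectivization k (Fin 4 → k) =>
          z.rep ∉ H)).filter (fun z : Projectivization k (Fin 4 → k) => z.rep ∈ M₂)).Nonempty :=
        Finset.card_pos.mp (by omega)
      rw [Finset.mem_filter, Finset.mem_filter] at hz₂
      have hz₂M₁ : z₂.rep ∉ M₁ := fun h => z₂.rep_nonzero (by
        have : z₂.rep ∈ M₁ ⊓ M₂ := ⟨h, hz₂.2⟩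
        rw [hM12] at this
        exact (Submodule.mem_bot k).mp this)
      have hP : Module.finrank k ↥(M₁ ⊔ Submodule.span k {z₂.rep}) = 3 := by
        rw [Submodule.finrank_sup_span_singleton hz₂M₁, hM₁]
      have hsub : insert z₂ ((Z.filter (fun z : Projectivization k (Fin 4 → k) =>
            z.rep ∉ H)).filter (fun z : Projectivization k (Fin 4 → k) => z.rep ∈ M₁)) ⊆
          Z.filter (fun z : Projectivization k (Fin 4 → k) =>
            z.rep ∈ M₁ ⊔ Submodule.span k {z₂.rep}) := by
        intro z hz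
        rw [Finset.mem_insert] at hz
        rcases hz with rfl | hz
        · exact Finset.mem_filter.mpr
            ⟨hz₂.1.1, Submodule.mem_sup_right (Submodule.mem_span_singleton_self _)⟩
        · rw [Finset.mem_filter, Finset.mem_filter] at hz
          exact Finset.mem_filter.mpr ⟨hz.1.1, Submodule.mem_sup_left hz.2⟩
      have hcard := Finset.card_le_card hsub
      have hnot : z₂ ∉ (Z.filter (fun z : Projectivization k (Fin 4 → k) =>
          z.rep ∉ H)).filter (fun z : Projectivization k (Fin 4 → k) => z.rep ∈ M₁) :=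
        fun h => hz₂M₁ (Finset.mem_filter.mp h).2
      rw [Finset.card_insert_of_notMem hnot] at hcard
      have := hmax _ hP
      omega

end Planes

end Groth.Agent.Lib.Helper99.CBPoints
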