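import Groth.Agent.Lib.Lead.ExtAdj

/-!
# Low-degree injectivity of the comparison map `Ext a (R F) n → Ext b F n` (helper99)

In the setting of `Groth.Agent.Lib.Lead.ExtAdj` (an adjunction `L ⊣ R` with `L` exact, and an
isomorphism `θ : b ≅ L a`):
* `Φ_δ'`: compatibility of `Φ` with connecting maps for a morphism of short exact sequences
  `S' ⟶ R S` (no exactness of `R S` needed);
* `Φ_one_injective`: `Φ F 1` is always injective (first edge map of the Leray spectral sequence);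
* `Φ_two_injective`: `Φ F 2` is injective as soon as `R I ⟶ R (I/F)` is an epimorphism for the
  chosen injective embedding `F ⟶ I` (i.e. `R¹R F = 0`).
-/

universe w w' v u v' u'

namespace Groth.Agent.Lib.Helper99.ExtAdjLow

open CategoryTheory Limits Abelian Groth.Agent.Lib.Lead.ExtAdj

variable {C : Type u} [Category.{v} C] [Abelian C] [HasExt.{w} C]
  {D : Type u'} [Category.{v'} D] [Abelian D] [HasExt.{w'} D]
  {L : C ⥤ D} {R : D ⥤ C} (adj : L ⊣ R) [L.Additive] [PreservesFiniteLimits L]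
  [PreservesFiniteColimits L] {a : C} {b : D} (θ : b ⟶ L.obj a)

omit [HasExt.{w} C] in
lemma comp_aux' {X Y Z Z' Z'' W W' V : D} {n : ℕ} (t : Ext.{w'} X Y 0) (x : Ext.{w'} Y Z n)
    (c : Ext.{w'} Z W 1) (u₁ : Ext.{w'} W W' 0) (ε₁ : Ext.{w'} W' V 0) (u₃ : Ext.{w'} Z Z'' 0)
    (ε₃ : Ext.{w'} Z'' Z' 0) (c' : Ext.{w'} Z' V 1)
    (h : c.comp (u₁.comp ε₁ (zero_add 0)) (add_zero 1) =
      (u₃.comp ε₃ (zero_add 0)).comp c' (zero_add 1)) :
    (t.comp ((x.comp c rfl).comp u₁ (add_zero (n + 1))) (zero_add (n + 1))).comp ε₁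
        (add_zero (n + 1)) =
      ((t.comp (x.comp u₃ (add_zero n)) (zero_add n)).comp ε₃ (add_zero n)).comp c' rfl := by
  rw [Ext.comp_assoc t ((x.comp c rfl).comp u₁ (add_zero (n + 1))) ε₁ (zero_add (n + 1))
      (add_zero (n + 1)) (by lia),
    Ext.comp_assoc (x.comp c rfl) u₁ ε₁ (add_zero (n + 1)) (zero_add 0) (by lia),
    Ext.comp_assoc x c (u₁.comp ε₁ (zero_add 0)) rfl (add_zero 1) (by lia), h,
    Ext.comp_assoc t (x.comp u₃ (add_zero n)) ε₃ (zero_add n) (add_zero n) (by lia),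
    Ext.comp_assoc x u₃ ε₃ (add_zero n) (zero_add 0) (by lia),
    Ext.comp_assoc t (x.comp (u₃.comp ε₃ (zero_add 0)) (add_zero n)) c' (zero_add n) rfl (by lia),
    Ext.comp_assoc x (u₃.comp ε₃ (zero_add 0)) c' (add_zero n) (zero_add 1) (by lia)]

section

variable {S : ShortComplex D} {S' : ShortComplex C} (τ₁ : S'.X₁ ⟶ R.obj S.X₁)
  (τ₂ : S'.X₂ ⟶ R.obj S.X₂) (τ₃ : S'.X₃ ⟶ R.obj S.X₃)
  (c₁₂ : τ₁ ≫ R.map S.f = S'.f ≫ τ₂) (c₂₃ : τ₂ ≫ R.map S.g = S'.g ≫ τ₃)

omit [HasExt.{w} C] [HasExt.{w'} D] [L.Additive] [PreservesFiniteLimits L]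
  [PreservesFiniteColimits L] in
include c₁₂ c₂₃ in
/-- the morphism of short complexes `L S' ⟶ S` attached to `S' ⟶ R S` -/
noncomputable def adjSC : S'.map L ⟶ S where
  τ₁ := L.map τ₁ ≫ adj.counit.app S.X₁
  τ₂ := L.map τ₂ ≫ adj.counit.app S.X₂
  τ₃ := L.map τ₃ ≫ adj.counit.app S.X₃
  comm₁₂ := by
    have hn : L.map (R.map S.f) ≫ adj.counit.app S.X₂ = adj.counit.app S.X₁ ≫ S.f :=
      adj.counit_naturality S.f
    change (L.map τ₁ ≫ adj.counit.app S.X₁) ≫ S.f = L.map S'.f ≫ L.map τ₂ ≫ adj.counit.app S.X₂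
    rw [Category.assoc, ← hn, ← Category.assoc, ← L.map_comp, c₁₂, L.map_comp, Category.assoc]
  comm₂₃ := by
    have hn : L.map (R.map S.g) ≫ adj.counit.app S.X₃ = adj.counit.app S.X₂ ≫ S.g :=
      adj.counit_naturality S.g
    change (L.map τ₂ ≫ adj.counit.app S.X₂) ≫ S.g = L.map S'.g ≫ L.map τ₃ ≫ adj.counit.app S.X₃
    rw [Category.assoc, ← hn, ← Category.assoc, ← L.map_comp, c₂₃, L.map_comp, Category.assoc]

include c₁₂ c₂₃ in
lemma Φ_δ' (hS : S.ShortExact) (hS' : S'.ShortExact) (n : ℕ) (e : Ext.{w} a S'.X₃ n) :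
    Φ adj θ S.X₁ (n + 1) ((e.comp hS'.extClass rfl).comp (Ext.mk₀ τ₁) (add_zero (n + 1))) =
      (Φ adj θ S.X₃ n (e.comp (Ext.mk₀ τ₃) (add_zero n))).comp hS.extClass rfl := by
  have hnat := ShortComplex.ShortExact.extClass_naturality (hS'.map_of_exact L) hS
    (adjSC adj τ₁ τ₂ τ₃ c₁₂ c₂₃)
  have h1 : ((e.comp hS'.extClass rfl).comp (Ext.mk₀ τ₁) (add_zero (n + 1))).mapExactFunctor L =
      ((e.mapExactFunctor L).comp (hS'.map_of_exact L).extClass rfl).comp
        (Ext.mk₀ (L.map τ₁)) (add_zero (n + 1)) := by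
    rw [Ext.mapExactFunctor_comp, Ext.mapExactFunctor_comp, Ext.mapExactFunctor_mk₀,
      Ext.mapExactFunctor_extClass]
    rfl
  have h3 : (e.comp (Ext.mk₀ τ₃) (add_zero n)).mapExactFunctor L =
      (e.mapExactFunctor L).comp (Ext.mk₀ (L.map τ₃)) (add_zero n) := by
    rw [Ext.mapExactFunctor_comp, Ext.mapExactFunctor_mk₀]
  have e1 : (Ext.mk₀ (L.map τ₁)).comp (Ext.mk₀ (adj.counit.app S.X₁)) (zero_add 0) =
      Ext.mk₀ (L.map τ₁ ≫ adj.counit.app S.X₁) := Ext.mk₀_comp_mk₀ _ _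
  have e3 : (Ext.mk₀ (L.map τ₃)).comp (Ext.mk₀ (adj.counit.app S.X₃)) (zero_add 0) =
      Ext.mk₀ (L.map τ₃ ≫ adj.counit.app S.X₃) := Ext.mk₀_comp_mk₀ _ _
  have h : (hS'.map_of_exact L).extClass.comp
      ((Ext.mk₀ (L.map τ₁)).comp (Ext.mk₀ (adj.counit.app S.X₁)) (zero_add 0)) (add_zero 1) =
      ((Ext.mk₀ (L.map τ₃)).comp (Ext.mk₀ (adj.counit.app S.X₃)) (zero_add 0)).comp
        hS.extClass (zero_add 1) :=
    (congrArg (fun z => (hS'.map_of_exact L).extClass.comp z (add_zero 1)) e1).trans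
      (hnat.trans (congrArg (fun z => z.comp hS.extClass (zero_add 1)) e3.symm))
  refine (congrArg (fun z => ((Ext.mk₀ θ).comp z (zero_add (n + 1))).comp
    (Ext.mk₀ (adj.counit.app S.X₁)) (add_zero (n + 1))) h1).trans ?_
  refine Eq.trans ?_ (congrArg (fun z => (((Ext.mk₀ θ).comp z (zero_add n)).comp
    (Ext.mk₀ (adj.counit.app S.X₃)) (add_zero n)).comp hS.extClass rfl) h3.symm)
  exact comp_aux' (Ext.mk₀ θ) (e.mapExactFunctor L) (hS'.map_of_exact L).extClass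
    (Ext.mk₀ (L.map τ₁)) (Ext.mk₀ (adj.counit.app S.X₁)) (Ext.mk₀ (L.map τ₃))
    (Ext.mk₀ (adj.counit.app S.X₃)) hS.extClass h

include c₁₂ c₂₃ in
/-- abstract form of the injectivity of the first edge map -/
lemma inj_one_aux (hS : S.ShortExact) (hS' : S'.ShortExact) (hI : Injective S'.X₂)
    (h₁ : IsIso τ₁) (h₂ : IsIso τ₂) (h₃ : Mono τ₃) [IsIso θ] :
    Function.Injective (Φ adj θ S.X₁ 1) := by
  rw [injective_iff_map_eq_zero]
  intro x hx
  have hx0 : x = (x.comp (Ext.mk₀ (inv τ₁)) (add_zero 1)).comp (Ext.mk₀ τ₁) (add_zero 1) := by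
    rw [Ext.comp_assoc_of_third_deg_zero, Ext.mk₀_comp_mk₀, IsIso.inv_hom_id, Ext.comp_mk₀_id]
  obtain ⟨x', hx'⟩ := Ext.covariant_sequence_exact₁ a hS' (x.comp (Ext.mk₀ (inv τ₁)) (add_zero 1))
    (Ext.eq_zero_of_injective _) rfl
  obtain ⟨f', rfl⟩ := (Ext.mk₀_bijective _ _).2 x'
  have key := Φ_δ' adj θ τ₁ τ₂ τ₃ c₁₂ c₂₃ hS hS' 0 (Ext.mk₀ f')
  rw [hx', ← hx0, hx] at key
  obtain ⟨y'', hy''⟩ := Ext.covariant_sequence_exact₃ b hS _ rfl key.symm
  obtain ⟨x'', rfl⟩ := (Φ_zero_bijective adj θ _).2 y''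
  obtain ⟨f'', rfl⟩ := (Ext.mk₀_bijective _ _).2 x''
  rw [← Φ_naturality] at hy''
  have h3 := (Φ_zero_bijective adj θ _).1 hy''
  rw [Ext.mk₀_comp_mk₀, Ext.mk₀_comp_mk₀] at h3
  have h4 : f'' ≫ R.map S.g = f' ≫ τ₃ := (Ext.mk₀_bijective _ _).1 h3
  have h6 : (f'' ≫ inv τ₂) ≫ S'.g = f' := by
    rw [← cancel_mono τ₃, Category.assoc, Category.assoc, ← c₂₃, IsIso.inv_hom_id_assoc, h4]
  rw [hx0, ← hx', ← h6, ← Ext.mk₀_comp_mk₀, Ext.comp_assoc_of_second_deg_zero,
    hS'.comp_extClass, Ext.comp_zero, Ext.zero_comp]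

end

variable [R.Additive] [EnoughInjectives D]

/-- the first edge map is injective -/
theorem Φ_one_injective [IsIso θ] (F : D) : Function.Injective (Φ adj θ F 1) := by
  have : PreservesFiniteLimits R := by
    have := adj.rightAdjoint_preservesLimits
    infer_instance
  have hS := sesInj_shortExact F
  have hRS := (Functor.preservesFiniteLimits_iff_forall_exact_map_and_mono R).1
    inferInstance _ hS
  let S' : ShortComplex C := ShortComplex.mk (R.map (Injective.ι F))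
    (cokernel.π (R.map (Injective.ι F))) (cokernel.condition _)
  have hS' : S'.ShortExact :=
    { exact := ShortComplex.exact_cokernel _
      mono_f := hRS.2
      epi_g := inferInstanceAs (Epi (cokernel.π (R.map (Injective.ι F)))) }
  have hI : Injective S'.X₂ := Injective.injective_of_adjoint adj (Injective.under F)
  have hz : R.map (Injective.ι F) ≫ R.map (cokernel.π (Injective.ι F)) = 0 := by
    rw [← R.map_comp, cokernel.condition, R.map_zero]
  let τ₃ : cokernel (R.map (Injective.ι F)) ⟶ R.obj (cokernel (Injective.ι F)) :=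
    cokernel.desc (R.map (Injective.ι F)) (R.map (cokernel.π (Injective.ι F))) hz
  have hτ₃ : Mono τ₃ := hRS.1.mono_cokernelDesc
  have c₁₂ : 𝟙 (R.obj F) ≫ R.map (sesInj F).f = S'.f ≫ 𝟙 (R.obj (Injective.under F)) :=
    (Category.id_comp _).trans (Category.comp_id _).symm
  have c₂₃ : 𝟙 (R.obj (Injective.under F)) ≫ R.map (sesInj F).g = S'.g ≫ τ₃ :=
    (Category.id_comp _).trans (cokernel.π_desc _ _ _).symm
  exact inj_one_aux adj θ (S := sesInj F) (S' := S') (𝟙 (R.obj F))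
    (𝟙 (R.obj (Injective.under F))) τ₃ c₁₂ c₂₃ hS hS' hI (IsIso.id _) (IsIso.id _) hτ₃

/-- the second edge map is injective when `R¹R F = 0`, in the form: `R I ⟶ R (I/F)` is epi -/
theorem Φ_two_injective [IsIso θ] (F : D) (hg : Epi (R.map (sesInj F).g)) :
    Function.Injective (Φ adj θ F 2) := by
  have : PreservesFiniteLimits R := by
    have := adj.rightAdjoint_preservesLimits
    infer_instance
  have hS := sesInj_shortExact F
  have h := (Functor.preservesFiniteLimits_iff_forall_exact_map_and_mono R).1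
    inferInstance _ hS
  have hRS : ((sesInj F).map R).ShortExact := ShortComplex.ShortExact.mk' h.1 h.2 hg
  have : Injective ((sesInj F).map R).X₂ := Injective.injective_of_adjoint adj (sesInj F).X₂
  rw [injective_iff_map_eq_zero]
  intro x hx
  obtain ⟨x', rfl⟩ := Ext.covariant_sequence_exact₁ a hRS x (Ext.eq_zero_of_injective _) rfl
  replace hx := (Φ_δ adj θ hS hRS 1 x').symm.trans hx
  obtain ⟨y'', hy''⟩ := Ext.covariant_sequence_exact₃ b hS _ rfl hx
  have hy0 : y'' = 0 := Ext.eq_zero_of_injective _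
  rw [hy0, Ext.zero_comp] at hy''
  have hx' : x' = 0 :=
    Φ_one_injective adj θ _ (hy''.symm.trans (map_zero (Φ adj θ (sesInj F).X₃ 1)).symm)
  rw [hx', Ext.zero_comp]
  rfl

end Groth.Agent.Lib.Helper99.ExtAdjLow
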