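import Groth.Agent.Lib.Helper99.GalQZ
import Groth.Agent.Lib.Helper99.ExtAdjLow
import Groth.Prelude.Def_Dix
import Groth.Prelude.Def_EtLim

/-!
# `H¹` of constant sheaves with torsion-free value (helper99)

* `const_sections_surjective`: sections of constant étale sheaves preserve surjections (port of
  helper42's set-theoretic section trick to `AddCommGrpCat` on the small étale site);
* `eq_zero_of_nsmul_eq_zero`: `H¹(X, A)` has no `n`-torsion if `A` has none;
* `main`: `H¹(X, i_{x*} M) = 0` for `M` torsion-free (S3243), via `ExtAdjLow.Φ_one_injective` and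
  `GalKill.isOfFinAddOrder`.
-/

set_option autoImplicit false
set_option linter.style.haveILetI false
set_option linter.unusedSectionVars false
open CategoryTheory CategoryTheory.Limits AlgebraicGeometry Opposite Abelian
universe u

namespace Groth.Agent.Lib.Helper99.ConstH1

open Groth.Agent.Lib.Helper99.GalQZ Groth.Agent.Lib.Helper44.EtPullSec

variable (X : Scheme.{u})

/-- comparison of the underlying sheaf of sets with the constant sheaf of sets -/
noncomputable def α := constantCommuteCompose X.smallEtaleTopology (forget AddCommGrpCat.{u + 1})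

/-- sections of constant sheaves preserve surjections (helper42's set-theoretic section trick) -/
theorem const_sections_surjective (U : X.Etale) {M N : AddCommGrpCat.{u + 1}} (f : M ⟶ N)
    (hf : Function.Surjective f.hom) :
    Function.Surjective (((cF X).map f).hom.app (op U)) := by
  intro t
  obtain ⟨σ, hσ⟩ := hf.hasRightInverse
  let σ' : (forget _).obj N ⟶ (forget _).obj M := ↾σ
  have h1 : σ' ≫ (forget _).map f = 𝟙 _ := by
    ext x
    exact hσ x
  have nat := (α X).hom.naturality f
  have nat' := congrArg (fun k => k.hom.app (op U)) nat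
  simp only [Functor.comp_map, ObjectProperty.FullSubcategory.comp_hom, NatTrans.comp_app] at nat'
  let A := ((α X).hom.app N).hom.app (op U)
  let A' := ((α X).inv.app M).hom.app (op U)
  let B := ((constantSheaf X.smallEtaleTopology (Type (u + 1))).map σ').hom.app (op U)
  refine ⟨A' (B (A t)), ?_⟩
  have hAinj : Function.Injective A := by
    have : IsIso A := by
      dsimp only [A]
      infer_instance
    exact ((isIso_iff_bijective A).mp this).1
  apply hAinj
  have e1 := ConcreteCategory.congr_hom nat' (A' (B (A t)))
  have e2 : ((α X).hom.app M).hom.app (op U) (A' (B (A t))) = B (A t) := by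
    have := congrArg (fun k => k.hom.app (op U)) ((α X).inv_hom_id_app M)
    simp only [ObjectProperty.FullSubcategory.comp_hom, NatTrans.comp_app] at this
    exact ConcreteCategory.congr_hom this (B (A t))
  have e3 : ((constantSheaf X.smallEtaleTopology (Type (u + 1))).map
      ((forget _).map f)).hom.app (op U) (B (A t)) = A t := by
    have h2 : (constantSheaf X.smallEtaleTopology (Type (u + 1))).map σ' ≫
        (constantSheaf X.smallEtaleTopology (Type (u + 1))).map ((forget _).map f) = 𝟙 _ := by
      rw [← CategoryTheory.Functor.map_comp, h1, CategoryTheory.Functor.map_id]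
    have := congrArg (fun k => k.hom.app (op U)) h2
    simp only [ObjectProperty.FullSubcategory.comp_hom, NatTrans.comp_app] at this
    exact ConcreteCategory.congr_hom this (A t)
  simp only [ConcreteCategory.comp_apply] at e1
  rw [e2] at e1
  exact e1.trans e3

/-- `H¹(X, M)` has no `n`-torsion for a constant sheaf whose value has no `n`-torsion -/
theorem eq_zero_of_nsmul_eq_zero (A : AddCommGrpCat.{u + 1}) (n : ℕ)
    (hA : Function.Injective (fun a : A => n • a))
    (x : EtCoh.H X ((cF X).obj A) 1) (hx : n • x = 0) : x = 0 := by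
  let φ : A ⟶ A := n • 𝟙 A
  haveI : Mono φ := by
    rw [AddCommGrpCat.mono_iff_injective]
    intro a b h
    exact hA h
  let S0 : ShortComplex AddCommGrpCat.{u + 1} :=
    ShortComplex.mk φ (cokernel.π φ) (cokernel.condition φ)
  have hS0 : S0.ShortExact :=
    { exact := ShortComplex.exact_cokernel φ
      mono_f := inferInstanceAs (Mono φ)
      epi_g := inferInstanceAs (Epi (cokernel.π φ)) }
  have w' : (cF X).map φ ≫ (cF X).map (cokernel.π φ) = 0 := by
    rw [← (cF X).map_comp, cokernel.condition, (cF X).map_zero]
  have hS : (ShortComplex.mk ((cF X).map φ) ((cF X).map (cokernel.π φ)) w').ShortExact :=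
    hS0.map_of_exact (cF X)
  have hf : (cF X).map φ = n • 𝟙 ((cF X).obj A) := by
    rw [(cF X).map_nsmul, (cF X).map_id]
  have h0 : x.comp (Ext.mk₀ ((cF X).map φ)) (add_zero 1) = 0 := by
    rw [hf]
    exact (Groth.Agent.Lib.Helper39.ExtTorsion.comp_mk₀_nsmul x n).trans hx
  obtain ⟨y, hy⟩ := Ext.covariant_sequence_exact₁ _ hS x h0 (zero_add 1)
  obtain ⟨ψ, rfl⟩ := (Ext.mk₀_bijective _ _).2 y
  have hsurj : Function.Surjective (cokernel.π φ).hom :=
    (AddCommGrpCat.epi_iff_surjective _).1 inferInstance
  obtain ⟨t, ht⟩ := const_sections_surjective X (EtCoh.top X) (cokernel.π φ) hsurj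
    (γ X ((cF X).obj (cokernel φ)) ψ)
  have hψ : (γ X ((cF X).obj A)).symm t ≫ (cF X).map (cokernel.π φ) = ψ := by
    apply (γ X ((cF X).obj (cokernel φ))).injective
    rw [γ_naturality, AddEquiv.apply_symm_apply]
    exact ht
  rw [← hy, ← hψ, ← Ext.mk₀_comp_mk₀_assoc, hS.comp_extClass, Ext.comp_zero]

section point

open Groth.Agent.Lib.Helper99.ExtAdjLow

/-- `H¹(X, i_{x*} M) = 0` for a torsion-free abelian group `M` -/
theorem main (x : X) (M : Type) [AddCommGroup M] [IsAddTorsionFree M] :
    Subsingleton (EtCoh.H X ((Dix.skyPush X x).obj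
      (EtCoh.const (Spec (X.residueField x)) M)) 1) := by
  haveI : PreservesFiniteLimits (EtCoh.pull (X.fromSpecResidueField x)) :=
    Groth.Agent.S0101.result _
  have h1 : Function.Injective
      (EtLim.HofPush (X.fromSpecResidueField x) (EtCoh.const (Spec (X.residueField x)) M) 1) :=
    Φ_one_injective (EtCoh.pullPushAdj (X.fromSpecResidueField x))
      (EtCore.pullConst (X.fromSpecResidueField x) ℤ).inv
      (EtCoh.const (Spec (X.residueField x)) M)
  have h2 : ∀ y : EtCoh.H (Spec (X.residueField x)) (EtCoh.const (Spec (X.residueField x)) M) 1,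
      y = 0 := by
    intro y
    obtain ⟨n, hn, hy⟩ := isOfFinAddOrder_iff_nsmul_eq_zero.1
      (Groth.Agent.Lib.Helper99.GalKill.isOfFinAddOrder (X.residueField x) _ 1 Nat.one_pos y)
    refine eq_zero_of_nsmul_eq_zero (Spec (X.residueField x))
      (AddCommGrpCat.of (ULift.{u + 1} M)) n ?_ y hy
    rintro ⟨a⟩ ⟨b⟩ h
    have h3 : n • a = n • b := congrArg ULift.down h
    exact congrArg ULift.up (nsmul_right_injective hn.ne' h3)
  constructor
  intro a b
  apply h1
  exact (h2 _).trans (h2 _).symm

end point

end Groth.Agent.Lib.Helper99.ConstH1
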