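import Groth.Agent.Lib.Helper99.GalKill

/-!
# `H^i(Spec k, ℤ) ≃ H^{i-1}(Spec k, ℚ/ℤ)` for `i ≥ 2` (helper99)

The short exact sequence of constant sheaves `0 → ℤ → ℚ → ℚ/ℤ → 0` and the vanishing of the higher
cohomology of the uniquely divisible sheaf `ℚ` (`GalKill.subsingleton_of_divisible`).
-/

set_option autoImplicit false
set_option linter.style.haveILetI false
set_option linter.unusedSectionVars false
open CategoryTheory CategoryTheory.Limits AlgebraicGeometry Opposite Abelian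
universe u

namespace Groth.Agent.Lib.Helper99.GalQZ

/-- `ℤ → ℚ`, lifted -/
def f₀ : ULift.{u + 1} ℤ →+ ULift.{u + 1} ℚ :=
  (AddEquiv.ulift.symm.toAddMonoidHom).comp
    ((Int.castAddHom ℚ).comp AddEquiv.ulift.toAddMonoidHom)

/-- `ℚ → ℚ/ℤ`, lifted -/
def g₀ : ULift.{u + 1} ℚ →+ ULift.{u + 1} (ℚ ⧸ AddSubgroup.zmultiples (1 : ℚ)) :=
  (AddEquiv.ulift.symm.toAddMonoidHom).comp
    ((QuotientAddGroup.mk' (AddSubgroup.zmultiples (1 : ℚ))).comp AddEquiv.ulift.toAddMonoidHom)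

/-- the short complex `0 → ℤ → ℚ → ℚ/ℤ → 0` -/
def SE : ShortComplex AddCommGrpCat.{u + 1} :=
  ShortComplex.mk (AddCommGrpCat.ofHom f₀.{u}) (AddCommGrpCat.ofHom g₀.{u}) (by
    ext ⟨n⟩
    change ((n : ℚ) : ℚ ⧸ AddSubgroup.zmultiples (1 : ℚ)) = 0
    rw [QuotientAddGroup.eq_zero_iff]
    exact ⟨n, by simp⟩)

theorem SE_shortExact : SE.{u}.ShortExact := by
  refine ShortComplex.ShortExact.mk' ?_ ?_ ?_
  · rw [ShortComplex.ab_exact_iff]
    rintro ⟨r⟩ hr
    have h1 : ((r : ℚ) : ℚ ⧸ AddSubgroup.zmultiples (1 : ℚ)) = 0 := congrArg ULift.down hr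
    rw [QuotientAddGroup.eq_zero_iff] at h1
    obtain ⟨n, hn⟩ := h1
    refine ⟨⟨n⟩, ?_⟩
    apply ULift.ext
    change ((n : ℤ) : ℚ) = r
    rw [← hn]
    simp
  · rw [AddCommGrpCat.mono_iff_injective]
    rintro ⟨a⟩ ⟨b⟩ h
    have h1 : ((a : ℤ) : ℚ) = b := congrArg ULift.down h
    exact congrArg ULift.up (Int.cast_injective h1)
  · rw [AddCommGrpCat.epi_iff_surjective]
    rintro ⟨y⟩
    obtain ⟨r, rfl⟩ := QuotientAddGroup.mk'_surjective _ y
    exact ⟨⟨r⟩, rfl⟩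

section sheaf

variable (X : Scheme.{u})

/-- the constant sheaf functor -/
noncomputable abbrev cF : AddCommGrpCat.{u + 1} ⥤ EtCoh.Ab X :=
  constantSheaf X.smallEtaleTopology AddCommGrpCat.{u + 1}

instance : PreservesFiniteLimits (cF X) := by
  unfold cF constantSheaf
  infer_instance

instance : PreservesFiniteColimits (cF X) := by
  unfold cF constantSheaf
  infer_instance

/-- the short exact sequence `0 → ℤ → ℚ → ℚ/ℤ → 0` of constant sheaves -/
theorem constSE_shortExact : (SE.{u}.map (cF X)).ShortExact :=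
  SE_shortExact.map_of_exact (cF X)

/-- multiplication by `n > 0` is an isomorphism on the constant sheaf `ℚ` -/
theorem isIso_nsmul_constQ (n : ℕ) (hn : 0 < n) : IsIso (n • 𝟙 (EtCoh.const X ℚ)) := by
  have h1 : IsIso (n • 𝟙 (AddCommGrpCat.of (ULift.{u + 1} ℚ))) := by
    rw [ConcreteCategory.isIso_iff_bijective]
    constructor
    · rintro ⟨a⟩ ⟨b⟩ h
      have h2 : n • a = n • b := congrArg ULift.down h
      have hn' : (n : ℚ) ≠ 0 := Nat.cast_ne_zero.2 hn.ne'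
      rw [nsmul_eq_mul, nsmul_eq_mul] at h2
      exact congrArg ULift.up (mul_left_cancel₀ hn' h2)
    · rintro ⟨b⟩
      refine ⟨⟨b / n⟩, ?_⟩
      apply ULift.ext
      change n • (b / n) = b
      have hn' : (n : ℚ) ≠ 0 := Nat.cast_ne_zero.2 hn.ne'
      rw [nsmul_eq_mul, mul_div_cancel₀ _ hn']
  have h2 : n • 𝟙 (EtCoh.const X ℚ) = (cF X).map (n • 𝟙 (AddCommGrpCat.of (ULift.{u + 1} ℚ))) := by
    rw [(cF X).map_nsmul, (cF X).map_id]
  rw [h2]
  infer_instance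

end sheaf

/-- `H^{m+2}(Spec k, ℤ) ≃ H^{m+1}(Spec k, ℚ/ℤ)` -/
theorem nonempty_addEquiv (k : Type u) [Field k] (m : ℕ) :
    Nonempty (EtCoh.H (Spec (CommRingCat.of k)) (EtCoh.const (Spec (CommRingCat.of k)) ℤ) (m + 2) ≃+
      EtCoh.H (Spec (CommRingCat.of k))
        (EtCoh.const (Spec (CommRingCat.of k)) (ℚ ⧸ AddSubgroup.zmultiples (1 : ℚ))) (m + 1)) := by
  have hS := constSE_shortExact (Spec (CommRingCat.of k))
  have hQ : ∀ j : ℕ, 0 < j → Subsingleton (EtCoh.H (Spec (CommRingCat.of k))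
      (EtCoh.const (Spec (CommRingCat.of k)) ℚ) j) := fun j hj =>
    Groth.Agent.Lib.Helper99.GalKill.subsingleton_of_divisible k _
      (isIso_nsmul_constQ (Spec (CommRingCat.of k))) j hj
  let δ : EtCoh.H (Spec (CommRingCat.of k))
        (EtCoh.const (Spec (CommRingCat.of k)) (ℚ ⧸ AddSubgroup.zmultiples (1 : ℚ))) (m + 1) →+
      EtCoh.H (Spec (CommRingCat.of k)) (EtCoh.const (Spec (CommRingCat.of k)) ℤ) (m + 2) :=
    hS.extClass.postcomp _ (rfl : m + 1 + 1 = m + 2)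
  have hinj : Function.Injective δ := by
    rw [injective_iff_map_eq_zero]
    intro x hx
    obtain ⟨y, hy⟩ := Ext.covariant_sequence_exact₃ _ hS x rfl hx
    haveI := hQ (m + 1) (Nat.succ_pos m)
    have hy0 : y = 0 := Subsingleton.elim (α := EtCoh.H (Spec (CommRingCat.of k))
      (EtCoh.const (Spec (CommRingCat.of k)) ℚ) (m + 1)) _ _
    rw [← hy, hy0, Ext.zero_comp]
    rfl
  have hsurj : Function.Surjective δ := by
    intro z
    haveI := hQ (m + 2) (Nat.succ_pos _)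
    have hz : z.comp (Ext.mk₀ (SE.{u}.map (cF (Spec (CommRingCat.of k)))).f) (add_zero (m + 2)) = 0 :=
      Subsingleton.elim (α := EtCoh.H (Spec (CommRingCat.of k))
        (EtCoh.const (Spec (CommRingCat.of k)) ℚ) (m + 2)) _ _
    obtain ⟨x, hx⟩ := Ext.covariant_sequence_exact₁ _ hS z hz rfl
    exact ⟨x, hx⟩
  exact ⟨(AddEquiv.ofBijective δ ⟨hinj, hsurj⟩).symm⟩

end Groth.Agent.Lib.Helper99.GalQZ
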