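import Groth.Agent.Lib.Helper99.GmFieldH1
import Groth.Agent.Lib.Helper99.ExtAdjLow
import Groth.Prelude.Def_Dix
import Groth.Prelude.Def_EtLim

/-!
# `H¹(X, i_{x*}G_m) = 0` and `H²(X, i_{x*}G_m) ↪ H²(κ(x), G_m)` (helper99)

* `gmRestr`, `restrExt`, `rel_h90`: relative Hilbert 90 — for an extension `0 → G_m → I → Q → 0` of
  abelian étale sheaves on `Y`, a section of `Q` over an étale `V → Y` lifts to `I` Zariski locally
  on `V` (restriction to the small étale site of `V` and helper44's `exists_open_lift_general`);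
* `glue_discrete`: on an étale `Y`-scheme with discrete space such local lifts glue;
* `discrete_of_etale_field`: schemes étale over an Artinian ring (a field) are discrete;
* `epi_push_sesInj`: `i_* I → i_* (I/G_m)` is an epimorphism for `i : Spec κ(x) → X` (`R¹i_*G_m = 0`);
* `main`: the statement of S5712.
-/

set_option autoImplicit false
set_option linter.style.haveILetI false
open CategoryTheory CategoryTheory.Limits AlgebraicGeometry Opposite Abelian
universe u

namespace Groth.Agent.Lib.Helper99.GmPointPush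

open Groth.Agent.Lib.Helper44.EtPullSec Groth.Agent.Lib.Helper44.GmH90 Groth.Agent.Lib.Helper44
  Groth.Agent.Lib.Helper43.EtOpenSub Groth.Agent.Lib.Helper4

attribute [local instance] EtRestr.jCont

variable {U X : Scheme.{u}} (j : U ⟶ X) [Etale j]

/-- `G_m` restricts to `G_m` along an étale morphism (identity on sections) -/
noncomputable def gmRestr : EtCoh.Gm U ⟶ (EtShriek.restrAlong j).obj (EtCoh.Gm X) :=
  ObjectProperty.homMk
    { app := fun Z => 𝟙 (EtCoh.ΓUnits.obj (op Z.unop.left))
      naturality := fun Z Z' f => by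
        rfl }

lemma gmRestr_app (Z : U.Etale) (g : (EtCoh.Gm U).obj.obj (op Z)) :
    (gmRestr j).hom.app (op Z) g = g := rfl

lemma restr_map_app {F G : EtCoh.Ab X} (φ : F ⟶ G) (Z : U.Etale) :
    ((EtShriek.restrAlong j).map φ).hom.app (op Z) = φ.hom.app (op ((EtShriek.compEtale j).obj Z)) := rfl

section rel

variable {Y : Scheme.{u}} {I Q : EtCoh.Ab Y} (ι : EtCoh.Gm Y ⟶ I) (π : I ⟶ Q) (w : ι ≫ π = 0)
  (hS : (ShortComplex.mk ι π w).ShortExact) (V : Y.Etale) (s : Q.obj.obj (op V))

/-- `V`, seen as `(V ⟶ V ⟶ Y)`, maps isomorphically to `V` -/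
noncomputable def κV : (EtShriek.compEtale V.hom).obj (EtCoh.top V.left) ⟶ V :=
  MorphismProperty.Over.homMk (A := (EtShriek.compEtale V.hom).obj (EtCoh.top V.left)) (B := V)
    (𝟙 _) (by
      change 𝟙 _ ≫ V.hom = 𝟙 _ ≫ V.hom
      rfl)

/-- the restriction to `V` of an extension by `G_m`, pointed by a section of the quotient over `V` -/
noncomputable def restrExt : GmExt V.left where
  I := (EtShriek.restrAlong V.hom).obj I
  Q := (EtShriek.restrAlong V.hom).obj Q
  ι := gmRestr V.hom ≫ (EtShriek.restrAlong V.hom).map ι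
  π := (EtShriek.restrAlong V.hom).map π
  q₀ := Q.obj.map (κV V).op s
  inj Z := BigCech.sses_sections_injective _ hS ((EtShriek.compEtale V.hom).obj Z)
  zero Z g := BigCech.sses_sections_gf (ShortComplex.mk ι π w) ((EtShriek.compEtale V.hom).obj Z) g
  exact Z t ht := BigCech.sses_sections_exact _ hS ((EtShriek.compEtale V.hom).obj Z) t ht

include hS in
/-- relative Hilbert 90: a section of the quotient of an extension by `G_m` lifts Zariski locally -/
theorem rel_h90 (v : V.left) :
    ∃ (Z : Y.Etale) (g : Z ⟶ V), IsOpenImmersion g.left ∧ v ∈ Set.range g.left ∧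
      ∃ t : I.obj.obj (op Z), π.hom.app (op Z) t = Q.obj.map g.op s := by
  haveI : Epi π := hS.epi_g
  have : Sheaf.IsLocallySurjective π :=
    (Sheaf.isLocallySurjective_iff_epi' (φ := π)).2 inferInstance
  have hs := Presheaf.imageSieve_mem Y.smallEtaleTopology π.hom s
  rw [mem_smallEtaleTopology_iff'] at hs
  obtain ⟨W, f, y, ⟨t, ht⟩, hy⟩ := hs v
  let D := restrExt ι π w hS V s
  let W' : V.left.Etale := Scheme.Etale.mk f.left
  let e : (EtShriek.compEtale V.hom).obj W' ⟶ W :=
    MorphismProperty.Over.homMk (A := (EtShriek.compEtale V.hom).obj W') (B := W) (𝟙 _) (by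
      change 𝟙 _ ≫ W.hom = f.left ≫ V.hom
      rw [Category.id_comp, hom_left_eq])
  have hq : D.π.hom.app (op W') (I.obj.map e.op t) = D.q W' := by
    change π.hom.app (op ((EtShriek.compEtale V.hom).obj W')) (I.obj.map e.op t) =
      Q.obj.map ((EtShriek.compEtale V.hom).map ((EtCore.topIsTerminal V.left).from W')).op
        (Q.obj.map (κV V).op s)
    have hcomm : e ≫ f =
        (EtShriek.compEtale V.hom).map ((EtCore.topIsTerminal V.left).from W') ≫ κV V := by
      apply MorphismProperty.Over.Hom.ext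
      have h1 := hom_left_eq ((EtCore.topIsTerminal V.left).from W')
      change ((EtCore.topIsTerminal V.left).from W').left ≫ 𝟙 _ = f.left at h1
      change 𝟙 _ ≫ f.left = ((EtCore.topIsTerminal V.left).from W').left ≫ 𝟙 _
      rw [h1, Category.id_comp]
    rw [nat_apply, ht, map_map, map_map, hcomm]
  obtain ⟨U', hU', t'', ht''⟩ := exists_open_lift_general D W' (I.obj.map e.op t) hq y
  let Z' : V.left.Etale := Scheme.Etale.mk U'.ι
  let g : (EtShriek.compEtale V.hom).obj Z' ⟶ V :=
    MorphismProperty.Over.homMk (A := (EtShriek.compEtale V.hom).obj Z') (B := V) U'.ι (by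
      change U'.ι ≫ V.hom = U'.ι ≫ V.hom
      rfl)
  have hg : g = (EtShriek.compEtale V.hom).map ((EtCore.topIsTerminal V.left).from Z') ≫ κV V := by
    apply MorphismProperty.Over.Hom.ext
    have h1 := hom_left_eq ((EtCore.topIsTerminal V.left).from Z')
    change ((EtCore.topIsTerminal V.left).from Z').left ≫ 𝟙 _ = U'.ι at h1
    change U'.ι = ((EtCore.topIsTerminal V.left).from Z').left ≫ 𝟙 _
    exact h1.symm
  have hv : v ∈ U' := by
    have h2 : W'.hom y = v := hy
    rw [← h2]
    exact hU'
  refine ⟨(EtShriek.compEtale V.hom).obj Z', g, inferInstanceAs (IsOpenImmersion U'.ι),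
    ⟨⟨v, hv⟩, rfl⟩, t'', ?_⟩
  change π.hom.app (op ((EtShriek.compEtale V.hom).obj Z')) t'' =
    Q.obj.map ((EtShriek.compEtale V.hom).map ((EtCore.topIsTerminal V.left).from Z')).op
      (Q.obj.map (κV V).op s) at ht''
  rw [ht'', map_map, hg]

end rel

section glue

variable {Y : Scheme.{u}}

/-- sections over an empty étale scheme are unique -/
lemma subsingleton_of_isEmpty (F : EtCoh.Ab Y) (Z : Y.Etale) [IsEmpty Z.left] :
    Subsingleton (F.obj.obj (op Z)) := by
  have hcov : (⊥ : Sieve Z) ∈ Y.smallEtaleTopology Z := by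
    rw [mem_smallEtaleTopology_iff']
    intro x
    exact isEmptyElim x
  have h1 := (Presheaf.isSheaf_iff_isSheaf_forget Y.smallEtaleTopology F.obj
    (forget AddCommGrpCat)).1 F.property
  have h2 := (isSheaf_iff_isSheaf_of_type _ _).1 h1 _ hcov
  constructor
  intro a b
  exact h2.isSeparatedFor.ext (fun W f hf => False.elim hf)

/-- on an étale scheme with discrete underlying space, Zariski-local lifts glue -/
theorem glue_discrete {I Q : EtCoh.Ab Y} (π : I ⟶ Q) (W : Y.Etale) [DiscreteTopology W.left]
    (s : Q.obj.obj (op W))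
    (h : ∀ v : W.left, ∃ (Z : Y.Etale) (g : Z ⟶ W), IsOpenImmersion g.left ∧
      v ∈ Set.range g.left ∧ ∃ t : I.obj.obj (op Z), π.hom.app (op Z) t = Q.obj.map g.op s) :
    ∃ t : I.obj.obj (op W), π.hom.app (op W) t = s := by
  classical
  let P : W.left → W.left.Opens := fun v => ⟨{v}, isOpen_discrete _⟩
  let Zv : W.left → Y.Etale := fun v => Scheme.Etale.mk ((P v).ι ≫ W.hom)
  let fv : ∀ v, Zv v ⟶ W := fun v =>
    MorphismProperty.Over.homMk (A := Zv v) (B := W) (P v).ι rfl
  have hloc : ∀ v, ∃ x : I.obj.obj (op (Zv v)),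
      π.hom.app (op (Zv v)) x = Q.obj.map (fv v).op s := by
    intro v
    obtain ⟨Z, g, hg, hvg, t, ht⟩ := h v
    have hsub : Set.range (P v).ι ⊆ Set.range g.left := by
      rintro _ ⟨a, rfl⟩
      have ha : ((P v).ι a : W.left) = v := a.2
      rw [ha]
      exact hvg
    let l : (P v).toScheme ⟶ Z.left := IsOpenImmersion.lift g.left (P v).ι hsub
    have hl : l ≫ g.left = (P v).ι := IsOpenImmersion.lift_fac _ _ _
    let k : Zv v ⟶ Z := MorphismProperty.Over.homMk (A := Zv v) (B := Z) l (by
      change l ≫ Z.hom = (P v).ι ≫ W.hom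
      rw [← hom_left_eq g, ← Category.assoc, hl])
    have hk : k ≫ g = fv v := by
      apply MorphismProperty.Over.Hom.ext
      exact hl
    refine ⟨I.obj.map k.op t, ?_⟩
    rw [nat_apply, ht, map_map, hk]
  choose x hx using hloc
  have hcov : Sieve.generate (Presieve.ofArrows Zv fv) ∈ Y.smallEtaleTopology W := by
    rw [mem_smallEtaleTopology_iff']
    intro v
    exact ⟨Zv v, fv v, ⟨v, rfl⟩,
      Sieve.le_generate (Presieve.ofArrows Zv fv) (Zv v) (fv v) (Presieve.ofArrows.mk v), rfl⟩
  have hcompat : Presieve.Arrows.Compatible (I.obj ⋙ forget AddCommGrpCat) fv x := by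
    intro v v' Z gi gj hgg
    by_cases hvv : v = v'
    · subst hvv
      have hgij : gi = gj := by
        apply MorphismProperty.Over.Hom.ext
        have h1 := congrArg (fun k => k.left) hgg
        change gi.left ≫ (P v).ι = gj.left ≫ (P v).ι at h1
        exact (cancel_mono (P v).ι).1 h1
      rw [hgij]
    · haveI : IsEmpty Z.left := by
        constructor
        intro z
        apply hvv
        have h1 := congrArg (fun k => k.left z) hgg
        change ((P v).ι (gi.left z) : W.left) = (P v').ι (gj.left z) at h1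
        have h2 : ((P v).ι (gi.left z) : W.left) = v := (gi.left z).2
        have h3 : ((P v').ι (gj.left z) : W.left) = v' := (gj.left z).2
        exact h2.symm.trans (h1.trans h3)
      haveI := subsingleton_of_isEmpty I Z
      exact Subsingleton.elim (α := I.obj.obj (op Z)) _ _
  have hI1 := (Presheaf.isSheaf_iff_isSheaf_forget Y.smallEtaleTopology I.obj
    (forget AddCommGrpCat)).1 I.property
  have hI2 := (isSheaf_iff_isSheaf_of_type _ _).1 hI1 _ hcov
  have hI3 : Presieve.IsSheafFor (I.obj ⋙ forget AddCommGrpCat) (Presieve.ofArrows Zv fv) :=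
    (Presieve.isSheafFor_iff_generate _).2 hI2
  rw [Presieve.isSheafFor_arrows_iff] at hI3
  obtain ⟨t, ht, -⟩ := hI3 x hcompat
  refine ⟨t, ?_⟩
  have hQ1 := (Presheaf.isSheaf_iff_isSheaf_forget Y.smallEtaleTopology Q.obj
    (forget AddCommGrpCat)).1 Q.property
  have hQ2 := (isSheaf_iff_isSheaf_of_type _ _).1 hQ1 _ hcov
  have hQ3 : Presieve.IsSheafFor (Q.obj ⋙ forget AddCommGrpCat) (Presieve.ofArrows Zv fv) :=
    (Presieve.isSheafFor_iff_generate _).2 hQ2
  apply hQ3.isSeparatedFor.ext
  rintro _ _ ⟨v⟩
  change Q.obj.map (fv v).op (π.hom.app (op W) t) = Q.obj.map (fv v).op s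
  rw [← nat_apply, ← hx v]
  congr 1
  exact ht v

end glue

section point

open Groth.Agent.Lib.Lead.ExtAdj Groth.Agent.Lib.Helper99.ExtAdjLow Groth.Agent.Lib.Helper99.GmFieldH1

/-- étale morphisms are locally quasi-finite -/
theorem locallyQuasiFinite_of_etale {X Y : Scheme.{u}} (f : X ⟶ Y) [Etale f] :
    LocallyQuasiFinite f := by
  rw [HasRingHomProperty.iff_appLE (P := @LocallyQuasiFinite)]
  intro U V e
  have h : (f.appLE U.1 V.1 e).hom.Etale := HasRingHomProperty.appLE @Etale f ‹_› U V e
  algebraize [(f.appLE U.1 V.1 e).hom]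
  change Algebra.QuasiFinite Γ(Y, U.1) Γ(X, V.1)
  infer_instance

/-- a scheme étale over the spectrum of a field is discrete -/
theorem discrete_of_etale_field (K : CommRingCat.{u}) [IsArtinianRing K] (W : (Spec K).Etale) :
    DiscreteTopology W.left := by
  let f : W.left ⟶ Spec K := W.hom
  have hf : Etale f := W.prop
  have : LocallyQuasiFinite f := locallyQuasiFinite_of_etale f
  have : IsLocallyArtinian (Spec K) := by
    rw [Scheme.isLocallyArtinianScheme_Spec]; infer_instance
  have : IsLocallyArtinian W.left := IsLocallyArtinian.of_locallyQuasiFinite f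
  infer_instance

/-- `R¹ i_* G_m = 0` for the inclusion of a point, in the form needed for `Φ_two_injective` -/
theorem epi_push_sesInj (X : Scheme.{u}) (x : X) :
    Epi ((EtCoh.push (X.fromSpecResidueField x)).map
      (sesInj (EtCoh.Gm (Spec (X.residueField x)))).g) := by
  rw [← Sheaf.isLocallySurjective_iff_epi']
  apply Presheaf.isLocallySurjective_of_surjective
  intro U s
  haveI := discrete_of_etale_field (X.residueField x)
    ((EtCoh.bc (X.fromSpecResidueField x)).obj U.unop)
  obtain ⟨t, ht⟩ := glue_discrete (sesInj (EtCoh.Gm (Spec (X.residueField x)))).g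
    ((EtCoh.bc (X.fromSpecResidueField x)).obj U.unop) s
    (fun v => rel_h90 (Injective.ι (EtCoh.Gm (Spec (X.residueField x))))
      (cokernel.π (Injective.ι (EtCoh.Gm (Spec (X.residueField x))))) (cokernel.condition _)
      (sesInj_shortExact (EtCoh.Gm (Spec (X.residueField x)))) _ s v)
  exact ⟨t, ht⟩

theorem main (X : Scheme.{u}) (x : X)
    [PreservesFiniteLimits (EtCoh.pull (X.fromSpecResidueField x))] :
    Subsingleton (EtCoh.H X ((Dix.skyPush X x).obj (EtCoh.Gm (Spec (X.residueField x)))) 1) ∧
      Function.Injective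
        (EtLim.HofPush (X.fromSpecResidueField x) (EtCoh.Gm (Spec (X.residueField x))) 2) := by
  have h1 : Function.Injective
      (EtLim.HofPush (X.fromSpecResidueField x) (EtCoh.Gm (Spec (X.residueField x))) 1) :=
    Φ_one_injective (EtCoh.pullPushAdj (X.fromSpecResidueField x))
      (EtCore.pullConst (X.fromSpecResidueField x) ℤ).inv (EtCoh.Gm (Spec (X.residueField x)))
  constructor
  · constructor
    intro a b
    apply h1
    exact (h1_Gm_field (X.residueField x) _).trans (h1_Gm_field (X.residueField x) _).symm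
  · exact Φ_two_injective (EtCoh.pullPushAdj (X.fromSpecResidueField x))
      (EtCore.pullConst (X.fromSpecResidueField x) ℤ).inv (EtCoh.Gm (Spec (X.residueField x)))
      (epi_push_sesInj X x)

end point

end Groth.Agent.Lib.Helper99.GmPointPush
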