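import Groth.Agent.Lib.Helper99.GalKill
import Groth.Agent.Lib.Helper99.GmPointPush
import Groth.Agent.Lib.Helper3.IntPushEpi
import Groth.Agent.Lib.Helper83.DerivedLES
import Groth.Agent.Lib.Helper4.EtaleQCQS
import Groth.Agent.S0124

/-!
# Torsion of `R^q g_* F` and `H^q(X, g_* F)` for `g : Spec K ⟶ X`, `K` a field (helper99)

* `exists_nsmul_lift_top`: for an epimorphism `p : I ⟶ Q` of abelian sheaves on `(Spec K)_et` and a
  global section `s` of `Q`, some positive multiple of `s` lifts to `I` (`H¹(K, ker p)` is torsion);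
* `exists_nsmul_lift`: the same over any quasi-compact étale `K`-scheme `W` (push forward along the
  finite morphism `W ⟶ Spec K`, which preserves epimorphisms);
* `isTorsion_of_epi`, `isTorsion_of_push_epi`: torsion criteria for quotients;
* `isTorsion_Rpush`: `R^{q+1} g_* F` is a torsion sheaf;
* `isAddTorsion_H_push`: `H^{m+1}(X, g_* F)` is a torsion group for `X` qcqs.
-/

set_option autoImplicit false
set_option linter.style.haveILetI false
set_option linter.unusedSectionVars false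
open CategoryTheory CategoryTheory.Limits AlgebraicGeometry Opposite Abelian
universe u

namespace Groth.Agent.Lib.Helper99.PointPushTorsion

open Groth.Agent.Lib.Helper44.EtPullSec Groth.Agent.Lib.Helper44.GmH90 Groth.Agent.Lib.Helper44
  Groth.Agent.Lib.Helper43.EtOpenSub Groth.Agent.Lib.Helper4 Groth.Agent.Lib.Lead.ExtAdj
  Groth.Agent.Lib.Helper99.GalTransfer Groth.Agent.Lib.Helper99.ExtAdjLow

attribute [local instance] EtRestr.jCont

section general

variable {X : Scheme.{u}}

/-- a quotient whose sections are locally killed by positive integers is torsion -/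
theorem isTorsion_of_epi {G H : EtCoh.Ab X} (φ : G ⟶ H) [Epi φ]
    (h : ∀ (V : X.Etale) (s : G.obj.obj (op V)) (v : V.left), ∃ (V' : X.Etale) (g : V' ⟶ V),
      (∃ v' : V'.left, g.left v' = v) ∧
        ∃ N : ℕ, 0 < N ∧ N • φ.hom.app (op V') (G.obj.map g.op s) = 0) :
    EtCoh.IsTorsion H := by
  intro U σ x
  have hls : Sheaf.IsLocallySurjective φ :=
    (Sheaf.isLocallySurjective_iff_epi' (φ := φ)).2 inferInstance
  have hs := Presheaf.imageSieve_mem X.smallEtaleTopology φ.hom σ
  rw [mem_smallEtaleTopology_iff'] at hs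
  obtain ⟨V, f, v, ⟨s, hs'⟩, hv⟩ := hs x
  obtain ⟨V', g, ⟨v', hv'⟩, N, hN, hk⟩ := h V s v
  refine ⟨V', g ≫ f, ⟨v', ?_⟩, ?_⟩
  · change f.left (g.left v') = x
    rw [hv', hv]
  · rw [isOfFinAddOrder_iff_nsmul_eq_zero]
    refine ⟨N, hN, ?_⟩
    rw [← map_map, ← hs', ← nat_apply]
    exact hk

/-- a quotient of a torsion sheaf is torsion -/
theorem isTorsion_of_epi_of_isTorsion {G H : EtCoh.Ab X} (φ : G ⟶ H) [Epi φ]
    (hG : EtCoh.IsTorsion G) : EtCoh.IsTorsion H := by
  refine isTorsion_of_epi φ (fun V s v => ?_)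
  obtain ⟨V', g, ⟨v', hv'⟩, hfin⟩ := hG V s v
  obtain ⟨N, hN, hk⟩ := isOfFinAddOrder_iff_nsmul_eq_zero.1 hfin
  refine ⟨V', g, ⟨v', hv'⟩, N, hN, ?_⟩
  have e1 : N • φ.hom.app (op V') (G.obj.map g.op s) =
      φ.hom.app (op V') (N • G.obj.map g.op s) :=
    (map_nsmul (φ.hom.app (op V')).hom N _).symm
  rw [e1, hk]
  exact map_zero (φ.hom.app (op V')).hom

end general

section field

variable (K : Type u) [Field K]

/-- a positive multiple of a global section of a quotient sheaf on `(Spec K)_et` lifts -/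
theorem exists_nsmul_lift_top {I Q : EtCoh.Ab (Spec (CommRingCat.of K))} (p : I ⟶ Q) [Epi p]
    (s : Q.obj.obj (op (EtCoh.top (Spec (CommRingCat.of K))))) :
    ∃ N : ℕ, 0 < N ∧ ∃ t : I.obj.obj (op (EtCoh.top (Spec (CommRingCat.of K)))),
      p.hom.app (op (EtCoh.top (Spec (CommRingCat.of K)))) t = N • s := by
  let S : ShortComplex (EtCoh.Ab (Spec (CommRingCat.of K))) :=
    ShortComplex.mk (kernel.ι p) p (kernel.condition p)
  have hS : S.ShortExact :=
    { exact := ShortComplex.exact_kernel p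
      mono_f := inferInstanceAs (Mono (kernel.ι p))
      epi_g := inferInstanceAs (Epi p) }
  let ψ : EtCoh.const (Spec (CommRingCat.of K)) ℤ ⟶ Q := (γ _ Q).symm s
  let x : EtCoh.H (Spec (CommRingCat.of K)) (kernel p) 1 :=
    (Ext.mk₀ ψ).comp hS.extClass (zero_add 1)
  obtain ⟨N, hN, hx⟩ := isOfFinAddOrder_iff_nsmul_eq_zero.1
    (Groth.Agent.Lib.Helper99.GalKill.isOfFinAddOrder K (kernel p) 1 Nat.one_pos x)
  have h0 : (Ext.mk₀ (N • ψ)).comp hS.extClass (zero_add 1) = 0 := by
    rw [mk₀_nsmul, nsmul_comp]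
    exact hx
  obtain ⟨y, hy⟩ := Ext.covariant_sequence_exact₃ _ hS (Ext.mk₀ (N • ψ)) (zero_add 1) h0
  obtain ⟨φ, rfl⟩ := (Ext.mk₀_bijective _ _).2 y
  have hy' : Ext.mk₀ (φ ≫ p) = Ext.mk₀ (N • ψ) := by
    rw [← Ext.mk₀_comp_mk₀]
    exact hy
  have h1 : φ ≫ p = N • ψ := (Ext.mk₀_bijective _ _).1 hy'
  refine ⟨N, hN, γ _ I φ, ?_⟩
  rw [← γ_naturality, h1, map_nsmul, AddEquiv.apply_symm_apply]

/-- a positive multiple of a section of a quotient sheaf over a quasi-compact étale `K`-scheme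
lifts -/
theorem exists_nsmul_lift {I Q : EtCoh.Ab (Spec (CommRingCat.of K))} (p : I ⟶ Q) [Epi p]
    (W : (Spec (CommRingCat.of K)).Etale) [CompactSpace W.left] (s : Q.obj.obj (op W)) :
    ∃ N : ℕ, 0 < N ∧ ∃ t : I.obj.obj (op W), p.hom.app (op W) t = N • s := by
  let π : W.left ⟶ Spec (CommRingCat.of K) := W.hom
  haveI hπ : Etale π := W.prop
  haveI : LocallyQuasiFinite π := GmPointPush.locallyQuasiFinite_of_etale π
  haveI : QuasiCompact π := inferInstance
  haveI : IsLocallyArtinian (Spec (CommRingCat.of K)) := by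
    rw [Scheme.isLocallyArtinianScheme_Spec]; infer_instance
  haveI : IsFinite π := IsFinite.of_locallyQuasiFinite π
  haveI : IsIntegralHom π := inferInstance
  haveI := Groth.Agent.Lib.Helper3.IntPushEpi.push_preservesEpimorphisms π
  haveI : (EtShriek.restrAlong π).PreservesEpimorphisms :=
    CategoryTheory.Functor.preservesEpimorphisms_of_adjunction (EtRestr.adjR π)
  haveI : Epi ((EtShriek.restrAlong π).map p) := inferInstance
  haveI : Epi ((EtCoh.push π).map ((EtShriek.restrAlong π).map p)) := inferInstance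
  let T := EtCoh.top (Spec (CommRingCat.of K))
  let W' : (Spec (CommRingCat.of K)).Etale :=
    (EtShriek.compEtale π).obj ((EtCoh.bc π).obj T)
  let κ : W' ⟶ W := MorphismProperty.Over.homMk (A := W') (B := W) (pullback.snd T.hom π) rfl
  have hl : π ≫ T.hom = 𝟙 W.left ≫ π := by
    change π ≫ 𝟙 _ = 𝟙 _ ≫ π
    rw [Category.comp_id, Category.id_comp]
  have h5 : pullback.lift π (𝟙 W.left) hl ≫ pullback.snd T.hom π = 𝟙 W.left :=
    pullback.lift_snd _ _ _
  let κ' : W ⟶ W' := MorphismProperty.Over.homMk (A := W) (B := W')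
    (pullback.lift π (𝟙 W.left) hl)
    ((Category.assoc _ _ _).symm.trans ((congrArg (fun k => k ≫ π) h5).trans (Category.id_comp π)))
  have hκ : κ' ≫ κ = 𝟙 W := by
    apply MorphismProperty.Over.Hom.ext
    exact h5
  let s' : ((EtCoh.push π).obj ((EtShriek.restrAlong π).obj Q)).obj.obj (op T) :=
    Q.obj.map κ.op s
  obtain ⟨N, hN, t', ht''⟩ : ∃ N : ℕ, 0 < N ∧ ∃ t' : I.obj.obj (op W'),
      p.hom.app (op W') t' = N • Q.obj.map κ.op s :=
    exists_nsmul_lift_top K ((EtCoh.push π).map ((EtShriek.restrAlong π).map p)) s'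
  refine ⟨N, hN, I.obj.map κ'.op t', ?_⟩
  rw [nat_apply, ht'']
  have e1 : Q.obj.map κ'.op (N • Q.obj.map κ.op s) = N • Q.obj.map κ'.op (Q.obj.map κ.op s) :=
    map_nsmul (Q.obj.map κ'.op).hom N _
  rw [e1, map_map, hκ, op_id, Q.obj.map_id]
  rfl

section push

variable {X : Scheme.{u}} [QuasiSeparatedSpace X] (g : Spec (CommRingCat.of K) ⟶ X)

/-- a quotient of `g_* Q` killing the image of `g_* I` (for `I ⟶ Q` epi) is a torsion sheaf -/
theorem isTorsion_of_push_epi {I Q : EtCoh.Ab (Spec (CommRingCat.of K))} (p : I ⟶ Q) [Epi p]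
    {H : EtCoh.Ab X} (φ : (EtCoh.push g).obj Q ⟶ H) [Epi φ]
    (hφ : (EtCoh.push g).map p ≫ φ = 0) : EtCoh.IsTorsion H := by
  refine isTorsion_of_epi φ (fun V s v => ?_)
  obtain ⟨W, hW, hvW, -⟩ := exists_isAffineOpen_mem_and_subset
    (x := v) (U := (⊤ : V.left.Opens)) trivial
  let V' : X.Etale := EtaleQCQS.openObj V W
  let j : V' ⟶ V := EtaleQCQS.openHom V W
  haveI : IsAffine (W : Scheme.{u}) := hW
  haveI : CompactSpace V'.left := (inferInstance : CompactSpace (W : Scheme.{u}))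
  haveI : QuasiCompact g := inferInstance
  have h3 : QuasiCompact (pullback.fst V'.hom g) := inferInstance
  haveI : CompactSpace ((EtCoh.bc g).obj V').left :=
    @QuasiCompact.compactSpace_of_compactSpace _ _ (pullback.fst V'.hom g) h3 ‹_›
  let s' : Q.obj.obj (op ((EtCoh.bc g).obj V')) := ((EtCoh.push g).obj Q).obj.map j.op s
  obtain ⟨N, hN, t, ht⟩ := exists_nsmul_lift K p ((EtCoh.bc g).obj V') s'
  refine ⟨V', j, ⟨⟨v, hvW⟩, rfl⟩, N, hN, ?_⟩
  have e1 : N • φ.hom.app (op V') (((EtCoh.push g).obj Q).obj.map j.op s) =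
      φ.hom.app (op V') (N • s') := (map_nsmul (φ.hom.app (op V')).hom N _).symm
  have e3 : φ.hom.app (op V') (p.hom.app (op ((EtCoh.bc g).obj V')) t) = 0 := by
    have h := congrArg (fun k => k.hom.app (op V')) hφ
    exact ConcreteCategory.congr_hom h t
  rw [e1, ← ht]
  exact e3

variable (F' : EtCoh.Ab (Spec (CommRingCat.of K)))

instance : PreservesFiniteLimits (EtCoh.push g) := by
  haveI : PreservesLimitsOfSize.{0, 0} (EtCoh.push g) :=
    (EtCoh.pullPushAdj g).rightAdjoint_preservesLimits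
  exact PreservesLimitsOfSize.preservesFiniteLimits _

/-- `R¹ g_* F` is a torsion sheaf -/
theorem isTorsion_Rpush_one : EtCoh.IsTorsion ((EtCoh.Rpush g 1).obj F') := by
  have hS := sesInj_shortExact F'
  have hz : IsZero (((EtCoh.push g).rightDerived 1).obj (sesInj F').X₂) :=
    (EtCoh.push g).isZero_rightDerived_obj_injective_succ 0 _
  let δ : ((EtCoh.push g).rightDerived 0).obj (sesInj F').X₃ ⟶ (EtCoh.Rpush g 1).obj F' :=
    (Groth.Agent.Lib.Helper83.derivedLES (EtCoh.push g)).δ (sesInj F') hS 0 1 rfl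
  haveI : Epi δ :=
    ((Groth.Agent.Lib.Helper83.derivedLES (EtCoh.push g)).exact₁ (sesInj F') hS 0 1 rfl).epi_f
      (hz.eq_of_tgt _ _)
  let φ : (EtCoh.push g).obj (sesInj F').X₃ ⟶ (EtCoh.Rpush g 1).obj F' :=
    (EtCoh.push g).rightDerivedZeroIsoSelf.inv.app _ ≫ δ
  haveI : Epi φ := epi_comp _ _
  haveI : Epi (sesInj F').g := hS.epi_g
  refine isTorsion_of_push_epi K g (sesInj F').g φ ?_
  have h1 : (EtCoh.push g).map (sesInj F').g ≫
      (EtCoh.push g).rightDerivedZeroIsoSelf.inv.app (sesInj F').X₃ =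
      (EtCoh.push g).rightDerivedZeroIsoSelf.inv.app (sesInj F').X₂ ≫
        ((EtCoh.push g).rightDerived 0).map (sesInj F').g :=
    (EtCoh.push g).rightDerivedZeroIsoSelf.inv.naturality _
  change (EtCoh.push g).map (sesInj F').g ≫
    ((EtCoh.push g).rightDerivedZeroIsoSelf.inv.app (sesInj F').X₃ ≫
      (Groth.Agent.Lib.Helper83.derivedLES (EtCoh.push g)).δ (sesInj F') hS 0 1 rfl) = 0
  rw [← Category.assoc, h1, Category.assoc,
    (Groth.Agent.Lib.Helper83.derivedLES (EtCoh.push g)).comp_δ, comp_zero]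

/-- `R^{q+1} g_* F` is a torsion sheaf -/
theorem isTorsion_Rpush (q : ℕ) : ∀ F' : EtCoh.Ab (Spec (CommRingCat.of K)),
    EtCoh.IsTorsion ((EtCoh.Rpush g (q + 1)).obj F') := by
  induction q with
  | zero => exact fun F' => isTorsion_Rpush_one K g F'
  | succ n ih =>
    intro F'
    have hS := sesInj_shortExact F'
    have hz : IsZero (((EtCoh.push g).rightDerived (n + 1 + 1)).obj (sesInj F').X₂) :=
      (EtCoh.push g).isZero_rightDerived_obj_injective_succ (n + 1) _
    let δ : (EtCoh.Rpush g (n + 1)).obj (sesInj F').X₃ ⟶ (EtCoh.Rpush g (n + 1 + 1)).obj F' :=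
      (Groth.Agent.Lib.Helper83.derivedLES (EtCoh.push g)).δ (sesInj F') hS (n + 1) (n + 1 + 1) rfl
    haveI : Epi δ :=
      ((Groth.Agent.Lib.Helper83.derivedLES (EtCoh.push g)).exact₁ (sesInj F') hS
        (n + 1) (n + 1 + 1) rfl).epi_f (hz.eq_of_tgt _ _)
    exact isTorsion_of_epi_of_isTorsion δ (ih (sesInj F').X₃)

/-- `H^{m+1}(X, g_* F)` is a torsion group for `X` quasi-compact and quasi-separated -/
theorem isAddTorsion_H_push [CompactSpace X] (m : ℕ) :
    ∀ F' : EtCoh.Ab (Spec (CommRingCat.of K)),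
      IsAddTorsion (EtCoh.H X ((EtCoh.push g).obj F') (m + 1)) := by
  haveI : PreservesFiniteLimits (EtCoh.pull g) := Groth.Agent.S0101.result g
  induction m with
  | zero =>
    intro F' x
    have hinj : Function.Injective (EtLim.HofPush g F' 1) :=
      Φ_one_injective (EtCoh.pullPushAdj g) (EtCore.pullConst g ℤ).inv F'
    obtain ⟨N, hN, hx⟩ := isOfFinAddOrder_iff_nsmul_eq_zero.1
      (Groth.Agent.Lib.Helper99.GalKill.isOfFinAddOrder K F' 1 Nat.one_pos
        (EtLim.HofPush g F' 1 x))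
    rw [isOfFinAddOrder_iff_nsmul_eq_zero]
    refine ⟨N, hN, hinj ?_⟩
    rw [map_nsmul, hx, map_zero]
  | succ n ih =>
    intro F' x
    have hS := sesInj_shortExact F'
    have hex := (Functor.preservesFiniteLimits_iff_forall_exact_map_and_mono (EtCoh.push g)).1
      inferInstance _ hS
    haveI : Mono ((EtCoh.push g).map (sesInj F').f) := hex.2
    -- `0 ⟶ g_* F ⟶ g_* I ⟶ C ⟶ 0`
    let S₁ : ShortComplex (EtCoh.Ab X) :=
      ShortComplex.mk ((EtCoh.push g).map (sesInj F').f)
        (cokernel.π ((EtCoh.push g).map (sesInj F').f)) (cokernel.condition _)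
    have hS₁ : S₁.ShortExact :=
      { exact := ShortComplex.exact_cokernel _
        mono_f := inferInstanceAs (Mono ((EtCoh.push g).map (sesInj F').f))
        epi_g := inferInstanceAs (Epi (cokernel.π ((EtCoh.push g).map (sesInj F').f))) }
    haveI : (EtCoh.push g).PreservesInjectiveObjects := EtRestr.push_preservesInjectives g
    haveI : Injective S₁.X₂ :=
      (EtCoh.push g).injective_obj_of_injective (inferInstanceAs (Injective (Injective.under F')))
    obtain ⟨y, hy⟩ := Ext.covariant_sequence_exact₁ _ hS₁ x (Ext.eq_zero_of_injective _) rfl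
    -- `0 ⟶ C ⟶ g_* Q ⟶ R ⟶ 0`
    have w : (EtCoh.push g).map (sesInj F').f ≫ (EtCoh.push g).map (sesInj F').g = 0 := by
      rw [← (EtCoh.push g).map_comp, (sesInj F').zero, (EtCoh.push g).map_zero]
    let c : cokernel ((EtCoh.push g).map (sesInj F').f) ⟶ (EtCoh.push g).obj (sesInj F').X₃ :=
      cokernel.desc ((EtCoh.push g).map (sesInj F').f) ((EtCoh.push g).map (sesInj F').g) w
    haveI : Mono c := hex.1.mono_cokernelDesc
    let S₂ : ShortComplex (EtCoh.Ab X) := ShortComplex.mk c (cokernel.π c) (cokernel.condition c)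
    have hS₂ : S₂.ShortExact :=
      { exact := ShortComplex.exact_cokernel c
        mono_f := inferInstanceAs (Mono c)
        epi_g := inferInstanceAs (Epi (cokernel.π c)) }
    haveI : Epi (sesInj F').g := hS.epi_g
    have hR : EtCoh.IsTorsion (cokernel c) := by
      refine isTorsion_of_push_epi K g (sesInj F').g (cokernel.π c) ?_
      rw [← cokernel.π_desc ((EtCoh.push g).map (sesInj F').f)
        ((EtCoh.push g).map (sesInj F').g) w, Category.assoc, cokernel.condition, comp_zero]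
    obtain ⟨N, hN, hN'⟩ := isOfFinAddOrder_iff_nsmul_eq_zero.1
      (ih (sesInj F').X₃ (y.comp (Ext.mk₀ c) (add_zero (n + 1))))
    have h2 : (N • y).comp (Ext.mk₀ S₂.f) (add_zero (n + 1)) = 0 := by
      rw [nsmul_comp]
      exact hN'
    obtain ⟨z, hz⟩ := Ext.covariant_sequence_exact₁ _ hS₂ (N • y) h2 rfl
    obtain ⟨M, hM, hM'⟩ := isOfFinAddOrder_iff_nsmul_eq_zero.1
      (Groth.Agent.S0124.result X (cokernel c) hR n z)
    have k1 : (M * N) • y = 0 := by
      rw [mul_nsmul', ← hz, ← nsmul_comp, hM', Ext.zero_comp]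
    have k2 : ((M * N) • y).comp hS₁.extClass rfl = 0 := by rw [k1, Ext.zero_comp]
    have k3 : (M * N) • (y.comp hS₁.extClass rfl) = 0 :=
      (nsmul_comp y hS₁.extClass rfl (M * N)).symm.trans k2
    rw [isOfFinAddOrder_iff_nsmul_eq_zero]
    refine ⟨M * N, Nat.mul_pos hM hN, ?_⟩
    subst hy
    exact k3

end push

end field

end Groth.Agent.Lib.Helper99.PointPushTorsion
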