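import Groth.Agent.Lib.Helper33.EtConstGeneric
import Groth.Agent.Lib.Helper97.NormalSch
import Groth.Agent.Lib.Helper24.SmoothNormalStalk
import Groth.Agent.Lib.Helper99.PointPushTorsion
import Groth.Agent.Lib.Helper99.GalQZ

/-!
# Constant sheaves on normal Noetherian schemes via the generic points (helper99)

For a scheme `X` and a finite family of points `η j` we consider
`ψ : M_X ⟶ ⨁ⱼ (g_j)_* M_{κ(η j)}` (`g_j : Spec κ(η j) ⟶ X`), built from helper33's `cmp`.

* `isIso_ψ`: `ψ` is an isomorphism as soon as every nonempty étale `X`-scheme has a nonempty fibre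
  over some `η j` and étale `X`-schemes locally have at most one point over the `η j`;
* `exists_irreducible_nbhd`: étale schemes over a locally Noetherian normal scheme are locally
  irreducible (not assuming the base integral);
* `eq_genericPoint_of_hom_eq`, `subsingleton_bc`: the points of an irreducible étale `X`-scheme over
  a point of `X` without proper generizations;
* `subsingleton_H_push_of_divisible`: `H^i(X, g_* F) = 0` (`i > 0`) for uniquely divisible `F` on
  the spectrum of a field;
* `main`: `H^i(X_et, ℚ) = 0` for `i > 0` and `X` Noetherian normal (S13956).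
-/

set_option autoImplicit false
set_option linter.style.haveILetI false
set_option linter.unusedSectionVars false
open CategoryTheory CategoryTheory.Limits AlgebraicGeometry Opposite Abelian
universe u

namespace Groth.Agent.Lib.Helper99.ConstNormalGen

open Groth.Agent.Lib.Helper43.EtOpenSub Groth.Agent.Lib.Helper43.ConstSheaf
  Groth.Agent.Lib.Helper33.EtConstNormal Groth.Agent.Lib.Helper33.EtConstGeneric

section Top

variable {α : Type*} [TopologicalSpace α]

/-- generic points of irreducible components have no proper generizations -/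
lemma eq_of_specializes_genericPoints [T0Space α] {x x' : α} (hx : x ∈ genericPoints α)
    (h : x' ⤳ x) : x' = x := by
  have hsub : closure ({x} : Set α) ⊆ closure {x'} := specializes_iff_closure_subset.1 h
  have hirr : IsIrreducible (closure ({x'} : Set α)) := isIrreducible_singleton.closure
  have hx' : closure ({x} : Set α) ∈ irreducibleComponents α := hx
  have hle : closure ({x'} : Set α) ⊆ closure {x} := hx'.2 hirr hsub
  have h' : x ⤳ x' := specializes_iff_closure_subset.2 hle
  exact (h.antisymm h').eq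

/-- every point is a specialization of the generic point of an irreducible component -/
lemma exists_genericPoints_specializes [QuasiSober α] (x : α) :
    ∃ y ∈ genericPoints α, y ⤳ x := by
  let Z : irreducibleComponents α :=
    ⟨irreducibleComponent x, irreducibleComponent_mem_irreducibleComponents x⟩
  exact ⟨(genericPoints.ofComponent Z).1, (genericPoints.ofComponent Z).2,
    (genericPoints.isGenericPoint_ofComponent Z).specializes mem_irreducibleComponent⟩

end Top

section Geom

variable {X : Scheme.{u}}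

/-- a point of an irreducible étale `X`-scheme lying over a point of `X` without proper
generizations is the generic point -/
lemma eq_genericPoint_of_hom_eq (V : X.Etale) [IrreducibleSpace V.left] (x : X)
    (hmax : ∀ x' : X, x' ⤳ x → x' = x) (y : V.left) (hy : V.hom y = x) :
    y = genericPoint V.left := by
  let f : V.left ⟶ X := V.hom
  have hs : genericPoint V.left ⤳ y := genericPoint_specializes y
  have h1 : f (genericPoint V.left) ⤳ f y := hs.map f.continuous
  have hy' : f y = x := hy
  rw [hy'] at h1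
  have h2 : f (genericPoint V.left) = x := hmax _ h1
  haveI : DiscreteTopology (f.fiber x) :=
    Groth.Agent.Lib.Helper99.GmPointPush.discrete_of_etale_field (X.residueField x)
      ((EtCoh.bc (X.fromSpecResidueField x)).obj V)
  haveI : DiscreteTopology (f ⁻¹' {x}) :=
    (f.fiberHomeo x).symm.isEmbedding.discreteTopology
  have h3 : (⟨genericPoint V.left, h2⟩ : f ⁻¹' {x}) ⤳ ⟨y, hy'⟩ :=
    (subtype_specializes_iff _ _).2 hs
  exact (congrArg Subtype.val h3.eq).symm

/-- the fibre of an irreducible étale `X`-scheme over such a point has at most one point -/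
lemma subsingleton_bc (V : X.Etale) [IrreducibleSpace V.left] (x : X)
    (hmax : ∀ x' : X, x' ⤳ x → x' = x) :
    Subsingleton ((EtCoh.bc (X.fromSpecResidueField x)).obj V).left := by
  let f : V.left ⟶ X := V.hom
  haveI : Subsingleton (f ⁻¹' {x}) := ⟨fun a b => Subtype.ext
    ((eq_genericPoint_of_hom_eq V x hmax a.1 a.2).trans
      (eq_genericPoint_of_hom_eq V x hmax b.1 b.2).symm)⟩
  exact (f.fiberHomeo x).injective.subsingleton

lemma nonempty_bc_of_hom_eq (T : X.Etale) (x : X) (y : T.left) (hy : T.hom y = x) :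
    Nonempty ((EtCoh.bc (X.fromSpecResidueField x)).obj T).left := by
  let f : T.left ⟶ X := T.hom
  have hy' : y ∈ f ⁻¹' {x} := hy
  exact ⟨(f.fiberHomeo x).symm ⟨y, hy'⟩⟩

lemma exists_hom_eq_of_nonempty_bc (T : X.Etale) (x : X)
    (h : Nonempty ((EtCoh.bc (X.fromSpecResidueField x)).obj T).left) :
    ∃ y : T.left, T.hom y = x := by
  let f : T.left ⟶ X := T.hom
  obtain ⟨z⟩ := h
  let z' : f.fiber x := z
  exact ⟨(f.fiberHomeo x z').1, (f.fiberHomeo x z').2⟩

/-- a nonempty étale `X`-scheme has a point over the generic point of an irreducible component -/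
lemma exists_nonempty_bc (T : X.Etale) [Nonempty T.left] :
    ∃ x ∈ genericPoints X, Nonempty ((EtCoh.bc (X.fromSpecResidueField x)).obj T).left := by
  let f : T.left ⟶ X := T.hom
  haveI : Etale f := T.prop
  obtain ⟨t⟩ := ‹Nonempty T.left›
  obtain ⟨x, hx, hxt⟩ := exists_genericPoints_specializes (f t)
  have hopen : IsOpen (Set.range f) := f.isOpenMap.isOpen_range
  obtain ⟨y, hy⟩ : x ∈ Set.range f := hxt.mem_open hopen ⟨t, rfl⟩
  exact ⟨x, hx, nonempty_bc_of_hom_eq T x y hy⟩

/-- étale schemes over a locally Noetherian normal scheme are locally irreducible -/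
theorem exists_irreducible_nbhd [IsLocallyNoetherian X]
    (hN : ∀ x : X, IsDomain (X.presheaf.stalk x) ∧ IsIntegrallyClosed (X.presheaf.stalk x))
    (W : X.Etale) (w : W.left) :
    ∃ (N : X.Etale) (k : N ⟶ W) (y : N.left), k.left y = w ∧ IrreducibleSpace N.left := by
  let f : W.left ⟶ X := W.hom
  haveI : Etale f := W.prop
  haveI : IsLocallyNoetherian W.left := LocallyOfFiniteType.isLocallyNoetherian f
  obtain ⟨y0, hy0⟩ := W.left.affineCover.covers w
  let Y0 : Scheme.{u} := W.left.affineCover.X (W.left.affineCover.idx w)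
  let j0 : Y0 ⟶ W.left := W.left.affineCover.f (W.left.affineCover.idx w)
  haveI : IsOpenImmersion j0 := inferInstanceAs
    (IsOpenImmersion (W.left.affineCover.f (W.left.affineCover.idx w)))
  haveI : IsAffine Y0 := inferInstanceAs
    (IsAffine (W.left.affineCover.X (W.left.affineCover.idx w)))
  haveI : IsLocallyNoetherian Y0 := isLocallyNoetherian_of_isOpenImmersion j0
  haveI : IsNoetherian Y0 := {}
  let f0 : Y0 ⟶ X := j0 ≫ f
  haveI : Etale f0 := inferInstanceAs (Etale (j0 ≫ f))
  have hdom : ∀ z : Y0, IsDomain (Y0.presheaf.stalk z) := by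
    intro z
    have H : (f0.stalkMap z).hom.FormallySmooth := by
      have h : z ∈ f0.smoothLocus := by
        rw [f0.smoothLocus_eq_top]
        trivial
      exact h
    exact (Groth.Agent.Lib.Helper24.isIntegrallyClosed_stalk_of_formallySmooth_stalkMap
      f0 z H (hN _)).1
  have hopen : IsOpen (irreducibleComponent (y0 : Y0)) :=
    Groth.Agent.Lib.Helper97.NormalSch.isOpen_irreducibleComponent hdom y0
  let Y1 : Y0.Opens := ⟨irreducibleComponent (y0 : Y0), hopen⟩
  have hirr : IsIrreducible (Y1 : Set Y0) := isIrreducible_irreducibleComponent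
  have hirr' : IrreducibleSpace Y1.toScheme := Subtype.irreducibleSpace hirr
  haveI : Etale (Y1.ι ≫ f0) := inferInstance
  let N : X.Etale := Scheme.Etale.mk (Y1.ι ≫ f0)
  let k : N ⟶ W := MorphismProperty.Over.homMk (Y1.ι ≫ j0) (Category.assoc _ _ _)
  exact ⟨N, k, ⟨y0, mem_irreducibleComponent⟩, hy0, hirr'⟩

end Geom

section Sheaf

variable {X : Scheme.{u}}

/-- evaluation of morphisms of sheaves on sections, as an additive map -/
noncomputable def evHom (A B : EtCoh.Ab X) (U : X.Etale) :
    (A ⟶ B) →+ (A.obj.obj (op U) →+ B.obj.obj (op U)) where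
  toFun f := (f.hom.app (op U)).hom
  map_zero' := rfl
  map_add' _ _ := rfl

/-- sections of a finite biproduct of sheaves are determined by their components -/
lemma biproduct_sections_ext {ι : Type u} [Fintype ι] (G : ι → EtCoh.Ab X) (U : X.Etale)
    (t t' : (⨁ G).obj.obj (op U))
    (h : ∀ j, (biproduct.π G j).hom.app (op U) t = (biproduct.π G j).hom.app (op U) t') :
    t = t' := by
  have key : ∀ s : (⨁ G).obj.obj (op U),
      s = ∑ j, (biproduct.ι G j).hom.app (op U) ((biproduct.π G j).hom.app (op U) s) := by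
    intro s
    have htot : ∑ j, biproduct.π G j ≫ biproduct.ι G j = 𝟙 (⨁ G) :=
      IsBilimit.total (biproduct.isBilimit G)
    have h1 : evHom (⨁ G) (⨁ G) U (∑ j, biproduct.π G j ≫ biproduct.ι G j) s =
        evHom (⨁ G) (⨁ G) U (𝟙 _) s := by rw [htot]
    rw [map_sum, AddMonoidHom.finsetSum_apply] at h1
    exact h1.symm
  rw [key t, key t']
  exact Finset.sum_congr rfl (fun j _ => by rw [h j])

/-- sections of a pushforward over an étale scheme with empty base change vanish -/
lemma push_sections_subsingleton {Y : Scheme.{u}} (g : Y ⟶ X) (F : EtCoh.Ab Y) (N : X.Etale)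
    [IsEmpty ((EtCoh.bc g).obj N).left] :
    Subsingleton (((EtCoh.push g).obj F).obj.obj (op N)) :=
  ⟨fun a b => (eq_zero_of_isEmpty F ((EtCoh.bc g).obj N) a).trans
    (eq_zero_of_isEmpty F ((EtCoh.bc g).obj N) b).symm⟩

/-- over an étale scheme with at most one point all sections of a constant sheaf are constant -/
lemma exists_eq_cst_of_subsingleton {Y : Scheme.{u}} (M : AddCommGrpCat.{u + 1}) (Z : Y.Etale)
    [Subsingleton Z.left] (t : (K.{u + 1} Y.smallEtaleTopology M).obj.obj (op Z)) :
    ∃ m, t = cst.{u + 1} Y.smallEtaleTopology M Z m := by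
  by_cases hZ : IsEmpty Z.left
  · haveI := hZ
    exact ⟨0, (eq_zero_of_isEmpty _ Z t).trans (eq_zero_of_isEmpty _ Z _).symm⟩
  · rw [not_isEmpty_iff] at hZ
    haveI : IrreducibleSpace Z.left :=
      { isPreirreducible_univ := (Set.subsingleton_univ (α := Z.left)).isPreirreducible
        toNonempty := hZ }
    exact exists_eq_cst_of_irreducible M Z t

variable {ι : Type u} [Fintype ι] (η : ι → X) (M : AddCommGrpCat.{u + 1})

/-- the inclusion of the point `η j` -/
noncomputable abbrev gη (j : ι) : Spec (X.residueField (η j)) ⟶ X := X.fromSpecResidueField (η j)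

/-- the constant sheaf on the point `η j` -/
noncomputable abbrev Kη (j : ι) : EtCoh.Ab (Spec (X.residueField (η j))) :=
  K.{u + 1} (Spec (X.residueField (η j))).smallEtaleTopology M

/-- the pushforward of the constant sheaf from the point `η j` -/
noncomputable abbrev Gpush (j : ι) : EtCoh.Ab X := (EtCoh.push (gη η j)).obj (Kη η M j)

/-- the comparison map `M_X ⟶ ⨁ⱼ (g_j)_* M` -/
noncomputable def ψ : K.{u + 1} X.smallEtaleTopology M ⟶ ⨁ (Gpush η M) :=
  biproduct.lift (fun j => cmp (gη η j) M)

lemma ψ_π (j : ι) (W : X.Etale) (s : (K.{u + 1} X.smallEtaleTopology M).obj.obj (op W)) :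
    (biproduct.π (Gpush η M) j).hom.app (op W) ((ψ η M).hom.app (op W) s) =
      (cmp (gη η j) M).hom.app (op W) s := by
  have h := biproduct.lift_π (fun j => cmp (gη η j) M) j
  exact congrArg (fun k => k.hom.app (op W) s) h

section Inj

variable (hcov : ∀ T : X.Etale, Nonempty T.left →
  ∃ j, Nonempty ((EtCoh.bc (gη η j)).obj T).left)

include hcov in
lemma ψ_injective (W : X.Etale) : Function.Injective ((ψ η M).hom.app (op W)) := by
  intro s s' hss'
  have hs : (ψ η M).hom.app (op W) (s - s') = 0 := by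
    rw [map_sub, sub_eq_zero]
    exact hss'
  suffices h : s - s' = 0 from sub_eq_zero.1 h
  generalize s - s' = d at hs
  obtain ⟨S, hS, hloc⟩ := locally_cst.{u + 1} X.smallEtaleTopology M d
  refine Sheaf.isSeparated (K.{u + 1} X.smallEtaleTopology M) W S hS _ _ ?_
  intro T f hf
  rw [map_zero]
  obtain ⟨m, hm⟩ := hloc f hf
  rw [hm]
  by_cases hT : IsEmpty T.left
  · exact eq_zero_of_isEmpty _ T _
  · rw [not_isEmpty_iff] at hT
    obtain ⟨j, hj⟩ := hcov T hT
    haveI := hj
    have hd : (cmp (gη η j) M).hom.app (op W) d = 0 :=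
      (ψ_π η M j W d).symm.trans
        ((congrArg (fun t => (biproduct.π (Gpush η M) j).hom.app (op W) t) hs).trans (map_zero _))
    have hd' : ((cmp (gη η j) M).hom.app (op W) d :
        (Kη η M j).obj.obj (op ((EtCoh.bc (gη η j)).obj W))) = 0 := hd
    have hm0 : m = 0 := by
      apply cst_injective_of_nonempty M ((EtCoh.bc (gη η j)).obj T)
      have e1 : cst.{u + 1} (Spec (X.residueField (η j))).smallEtaleTopology M
          ((EtCoh.bc (gη η j)).obj T) m =
          (Kη η M j).obj.map ((EtCoh.bc (gη η j)).map f).op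
            ((cmp (gη η j) M).hom.app (op W) d) := by
        rw [← cmp_cst, ← hm, cmp_map_apply]
      rw [map_zero]
      refine e1.trans ?_
      exact (congrArg ((Kη η M j).obj.map ((EtCoh.bc (gη η j)).map f).op) hd').trans (map_zero _)
    rw [hm0, map_zero]

end Inj

section Surj

variable (hloc : ∀ (V : X.Etale) (v : V.left), ∃ (N : X.Etale) (k : N ⟶ V) (y : N.left),
  k.left y = v ∧ (∀ j, Subsingleton ((EtCoh.bc (gη η j)).obj N).left) ∧
    ∀ j j', Nonempty ((EtCoh.bc (gη η j)).obj N).left →
      Nonempty ((EtCoh.bc (gη η j')).obj N).left → j = j')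

include hloc in
lemma ψ_locallySurjective :
    Presheaf.IsLocallySurjective X.smallEtaleTopology (ψ η M).hom := by
  constructor
  intro V t
  rw [mem_smallEtaleTopology_iff']
  intro v
  obtain ⟨N, k, y, hy, hsub, huniq⟩ := hloc V v
  refine ⟨N, k, y, ?_, hy⟩
  have hc : ∀ j, ∃ m : M, (biproduct.π (Gpush η M) j).hom.app (op N)
      ((⨁ Gpush η M).obj.map k.op t) =
      cst.{u + 1} (Spec (X.residueField (η j))).smallEtaleTopology M
        ((EtCoh.bc (gη η j)).obj N) m := by
    intro j
    haveI := hsub j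
    exact exists_eq_cst_of_subsingleton M ((EtCoh.bc (gη η j)).obj N) _
  have hempty : ∀ j, ¬ Nonempty ((EtCoh.bc (gη η j)).obj N).left →
      ∀ a b : (Gpush η M j).obj.obj (op N), a = b := by
    intro j hj a b
    haveI : IsEmpty ((EtCoh.bc (gη η j)).obj N).left := not_nonempty_iff.1 hj
    haveI := push_sections_subsingleton (gη η j) (Kη η M j) N
    exact Subsingleton.elim (α := ((EtCoh.push (gη η j)).obj (Kη η M j)).obj.obj (op N)) a b
  by_cases hne : ∃ j, Nonempty ((EtCoh.bc (gη η j)).obj N).left
  · obtain ⟨j0, hj0⟩ := hne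
    obtain ⟨m, hm⟩ := hc j0
    refine ⟨cst.{u + 1} X.smallEtaleTopology M N m, ?_⟩
    apply biproduct_sections_ext
    intro j
    refine (ψ_π η M j N _).trans ((cmp_cst (gη η j) M N m).trans ?_)
    by_cases hj : Nonempty ((EtCoh.bc (gη η j)).obj N).left
    · obtain rfl := huniq j j0 hj hj0
      exact hm.symm
    · exact hempty j hj _ _
  · refine ⟨0, ?_⟩
    apply biproduct_sections_ext
    intro j
    exact hempty j (fun h => hne ⟨j, h⟩) _ _

end Surj

theorem isIso_ψ
    (hcov : ∀ T : X.Etale, Nonempty T.left → ∃ j, Nonempty ((EtCoh.bc (gη η j)).obj T).left)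
    (hloc : ∀ (V : X.Etale) (v : V.left), ∃ (N : X.Etale) (k : N ⟶ V) (y : N.left),
      k.left y = v ∧ (∀ j, Subsingleton ((EtCoh.bc (gη η j)).obj N).left) ∧
        ∀ j j', Nonempty ((EtCoh.bc (gη η j)).obj N).left →
          Nonempty ((EtCoh.bc (gη η j')).obj N).left → j = j') :
    IsIso (ψ η M) := by
  haveI : Mono (ψ η M) :=
    Sheaf.mono_of_injective _ (fun W => ψ_injective η M hcov W.unop)
  haveI : Epi (ψ η M) := by
    have h' : Sheaf.IsLocallySurjective (ψ η M) := ψ_locallySurjective η M hloc
    infer_instance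
  exact isIso_of_mono_of_epi _

end Sheaf

section Coh

variable {X : Scheme.{u}} [CompactSpace X] [QuasiSeparatedSpace X]

/-- `H^i(X, g_* F) = 0` for `i > 0` and `F` uniquely divisible on the spectrum of a field -/
theorem subsingleton_H_push_of_divisible (K' : Type u) [Field K']
    (g : Spec (CommRingCat.of K') ⟶ X) (F' : EtCoh.Ab (Spec (CommRingCat.of K')))
    (hdiv : ∀ n : ℕ, 0 < n → IsIso (n • 𝟙 F')) (i : ℕ) (hi : 0 < i) :
    Subsingleton (EtCoh.H X ((EtCoh.push g).obj F') i) := by
  obtain ⟨m, rfl⟩ := Nat.exists_eq_succ_of_ne_zero hi.ne'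
  have h0 : ∀ x : EtCoh.H X ((EtCoh.push g).obj F') (m + 1), x = 0 := by
    intro x
    obtain ⟨n, hn, hx⟩ := isOfFinAddOrder_iff_nsmul_eq_zero.1
      (Groth.Agent.Lib.Helper99.PointPushTorsion.isAddTorsion_H_push K' g m F' x)
    haveI := hdiv n hn
    have hmap : (EtCoh.push g).map (n • 𝟙 F') = n • 𝟙 ((EtCoh.push g).obj F') := by
      rw [(EtCoh.push g).map_nsmul, (EtCoh.push g).map_id]
    haveI : IsIso (n • 𝟙 ((EtCoh.push g).obj F')) := by
      rw [← hmap]
      infer_instance
    have h1 : x.comp (Ext.mk₀ (n • 𝟙 ((EtCoh.push g).obj F'))) (add_zero (m + 1)) = 0 :=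
      (Groth.Agent.Lib.Helper39.ExtTorsion.comp_mk₀_nsmul x n).trans hx
    have h2 : (x.comp (Ext.mk₀ (n • 𝟙 ((EtCoh.push g).obj F'))) (add_zero (m + 1))).comp
        (Ext.mk₀ (inv (n • 𝟙 ((EtCoh.push g).obj F')))) (add_zero (m + 1)) = x := by
      rw [Ext.comp_assoc_of_third_deg_zero, Ext.mk₀_comp_mk₀, IsIso.hom_inv_id, Ext.comp_mk₀_id]
    rw [← h2, h1, Ext.zero_comp]
  exact ⟨fun a b => (h0 a).trans (h0 b).symm⟩

end Coh

section Main

/-- the group `ℚ` as an object of `AddCommGrpCat.{u + 1}` -/
abbrev MQ : AddCommGrpCat.{u + 1} := AddCommGrpCat.of (ULift.{u + 1} ℚ)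

/-- `H^i(X_et, ℚ) = 0` for `i > 0` and `X` Noetherian normal -/
theorem main (X : Scheme.{u}) [IsLocallyNoetherian X] [CompactSpace X]
    (hN : ∀ x : X, IsDomain (X.presheaf.stalk x) ∧ IsIntegrallyClosed (X.presheaf.stalk x))
    (i : ℕ) (hi : 0 < i) :
    Subsingleton (EtCoh.H X (EtCoh.const X ℚ) i) := by
  classical
  haveI : IsNoetherian X := {}
  have hfin : (genericPoints X).Finite :=
    genericPoints.finite TopologicalSpace.NoetherianSpace.finite_irreducibleComponents
  haveI : Finite (genericPoints X) := hfin.to_subtype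
  haveI : Fintype (genericPoints X) := Fintype.ofFinite _
  let η : genericPoints X → X := Subtype.val
  have hmax : ∀ j : genericPoints X, ∀ x' : X, x' ⤳ η j → x' = η j :=
    fun j x' h => eq_of_specializes_genericPoints j.2 h
  have hcov : ∀ T : X.Etale, Nonempty T.left →
      ∃ j, Nonempty ((EtCoh.bc (gη η j)).obj T).left := by
    intro T hT
    haveI := hT
    obtain ⟨x, hx, hne⟩ := exists_nonempty_bc T
    exact ⟨⟨x, hx⟩, hne⟩
  have hloc : ∀ (V : X.Etale) (v : V.left), ∃ (N : X.Etale) (k : N ⟶ V) (y : N.left),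
      k.left y = v ∧ (∀ j, Subsingleton ((EtCoh.bc (gη η j)).obj N).left) ∧
        ∀ j j', Nonempty ((EtCoh.bc (gη η j)).obj N).left →
          Nonempty ((EtCoh.bc (gη η j')).obj N).left → j = j' := by
    intro V v
    obtain ⟨N, k, y, hy, hirr⟩ := exists_irreducible_nbhd hN V v
    haveI := hirr
    refine ⟨N, k, y, hy, fun j => subsingleton_bc N (η j) (hmax j), ?_⟩
    intro j j' hj hj'
    obtain ⟨a, ha⟩ := exists_hom_eq_of_nonempty_bc N (η j) hj
    obtain ⟨b, hb⟩ := exists_hom_eq_of_nonempty_bc N (η j') hj'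
    have e1 := eq_genericPoint_of_hom_eq N (η j) (hmax j) a ha
    have e2 := eq_genericPoint_of_hom_eq N (η j') (hmax j') b hb
    apply Subtype.ext
    change η j = η j'
    rw [← ha, ← hb, e1, e2]
  haveI := isIso_ψ η MQ.{u} hcov hloc
  have hsum : ∀ j, Subsingleton (EtCoh.H X (Gpush η MQ.{u} j) i) := fun j =>
    subsingleton_H_push_of_divisible (X.residueField (η j)) (gη η j) (Kη η MQ.{u} j)
      (Groth.Agent.Lib.Helper99.GalQZ.isIso_nsmul_constQ (Spec (X.residueField (η j)))) i hi
  haveI : Subsingleton (EtCoh.H X (⨁ Gpush η MQ.{u}) i) := by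
    haveI := hsum
    exact (Ext.addEquivBiproduct _ (biproduct.isBilimit (Gpush η MQ.{u})) i).toEquiv.subsingleton
  have key : ∀ x : EtCoh.H X (EtCoh.const X ℚ) i, x = 0 := by
    intro x
    have h2 : (x.comp (Ext.mk₀ (ψ η MQ.{u})) (add_zero i)).comp
        (Ext.mk₀ (inv (ψ η MQ.{u}))) (add_zero i) = x := by
      rw [Ext.comp_assoc_of_third_deg_zero, Ext.mk₀_comp_mk₀, IsIso.hom_inv_id, Ext.comp_mk₀_id]
    have h1 : x.comp (Ext.mk₀ (ψ η MQ.{u})) (add_zero i) = 0 :=
      Subsingleton.elim (α := EtCoh.H X (⨁ Gpush η MQ.{u}) i) _ _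
    rw [← h2, h1, Ext.zero_comp]
  exact ⟨fun a b => (key a).trans (key b).symm⟩

end Main

end Groth.Agent.Lib.Helper99.ConstNormalGen
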