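import Mathlib
import Groth.Agent.S1535
import Groth.Agent.S14457
import Groth.Agent.Lib.Helper47.RegularQuotient

/-!
# Regularity of Kummer covers `C[W]/(W^n - c)` (helper99, for S16900)

* `regular_of_quotient_nzd` : a Noetherian local ring whose quotient by a nonzerodivisor of the
  maximal ideal is regular is regular.
* `regular_at_of_quotient` : global version at primes containing a nonzerodivisor `x` with `R/x`
  regular.
* `nonempty_quotRoot_ringEquiv` : `C[W]/(W^n - c, W) ≃ C/(c)`.
* `etale_away` : `(C[W]/(W^n - c))[1/c]` is étale over `C` when `n` is invertible.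
* `kummer_regular` : if `C` and `C/(c)` are regular, `c` a nonzerodivisor and `n` invertible, then
  `C[W]/(W^n - c)` is regular.
-/

set_option autoImplicit false
set_option linter.style.haveILetI false

universe u

open Polynomial

namespace Groth.Agent.Lib.Helper99.KummerRegular

/-- A Noetherian local ring whose quotient by a nonzerodivisor of the maximal ideal is
regular is itself regular. -/
theorem regular_of_quotient_nzd {R : Type*} [CommRing R] [IsLocalRing R]
    [IsNoetherianRing R] {x : R} (hx0 : x ∈ nonZeroDivisors R)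
    (hxm : x ∈ IsLocalRing.maximalIdeal R)
    (hreg : IsRegularLocalRing (R ⧸ Ideal.span {x})) : IsRegularLocalRing R := by
  classical
  apply IsRegularLocalRing.of_spanFinrank_maximalIdeal_le
  have hdim := ringKrullDim_quotient_span_singleton_succ_eq_ringKrullDim_of_mem_nonZeroDivisors
    hx0 hxm
  have hsf := hreg.spanFinrank_maximalIdeal
  have hfg : (IsLocalRing.maximalIdeal (R ⧸ Ideal.span {x})).FG := IsNoetherian.noetherian _
  obtain ⟨s, hscard, hs⟩ := Submodule.FG.exists_span_finset_card_eq_spanFinrank hfg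
  have hs' : Ideal.span (s : Set (R ⧸ Ideal.span {x})) =
      IsLocalRing.maximalIdeal (R ⧸ Ideal.span {x}) := hs
  have hsurj : Function.Surjective (Ideal.Quotient.mk (Ideal.span {x})) :=
    Ideal.Quotient.mk_surjective
  obtain ⟨f, hf⟩ : ∃ f : (R ⧸ Ideal.span {x}) → R,
      ∀ y, Ideal.Quotient.mk (Ideal.span {x}) (f y) = y :=
    ⟨Function.surjInv hsurj, Function.surjInv_eq hsurj⟩
  have hcomap : (IsLocalRing.maximalIdeal (R ⧸ Ideal.span {x})).comap
      (Ideal.Quotient.mk (Ideal.span {x})) = IsLocalRing.maximalIdeal R := by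
    have hmax := Ideal.comap_isMaximal_of_surjective (Ideal.Quotient.mk (Ideal.span {x})) hsurj
      (K := IsLocalRing.maximalIdeal (R ⧸ Ideal.span {x}))
    exact IsLocalRing.eq_maximalIdeal hmax
  have hspan : IsLocalRing.maximalIdeal R =
      Ideal.span (f '' (s : Set (R ⧸ Ideal.span {x})) ∪ {x}) := by
    apply le_antisymm
    · intro z hz
      rw [← hcomap, Ideal.mem_comap] at hz
      have hmap : (Ideal.span (f '' (s : Set (R ⧸ Ideal.span {x})))).map
          (Ideal.Quotient.mk (Ideal.span {x})) =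
          IsLocalRing.maximalIdeal (R ⧸ Ideal.span {x}) := by
        rw [Ideal.map_span, ← hs', Set.image_image]
        simp only [hf, Set.image_id']
      have hz' : z ∈ ((Ideal.span (f '' (s : Set (R ⧸ Ideal.span {x})))).map
          (Ideal.Quotient.mk (Ideal.span {x}))).comap (Ideal.Quotient.mk (Ideal.span {x})) := by
        rw [Ideal.mem_comap, hmap]; exact hz
      rw [Ideal.comap_map_of_surjective _ hsurj, ← RingHom.ker_eq_comap_bot, Ideal.mk_ker] at hz'
      rw [Ideal.span_union]
      exact hz'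
    · rw [Ideal.span_le]
      rintro z (⟨y, hy, rfl⟩ | hz)
      · rw [SetLike.mem_coe, ← hcomap, Ideal.mem_comap, hf, ← hs']
        exact Ideal.subset_span hy
      · rw [Set.mem_singleton_iff] at hz
        rw [hz]; exact hxm
  have hfin : (f '' (s : Set (R ⧸ Ideal.span {x})) ∪ {x}).Finite :=
    (s.finite_toSet.image f).union (Set.finite_singleton x)
  have hle : (IsLocalRing.maximalIdeal R).spanFinrank ≤ s.card + 1 := by
    rw [hspan]
    refine (Submodule.spanFinrank_span_le_ncard_of_finite hfin).trans ?_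
    refine (Set.ncard_union_le _ _).trans ?_
    rw [Set.ncard_singleton]
    have := Set.ncard_image_le (f := f) s.finite_toSet
    rw [Set.ncard_coe_finset] at this
    omega
  rw [← hdim, ← hsf, ← hscard]
  exact_mod_cast hle

/-- Transport of regularity of a localization along an equality of primes. -/
theorem atPrime_congr_regular {R : Type*} [CommRing R] {P P' : Ideal R} [P.IsPrime]
    [P'.IsPrime] (h : P = P') (hreg : IsRegularLocalRing (Localization.AtPrime P)) :
    IsRegularLocalRing (Localization.AtPrime P') := by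
  subst h
  exact hreg

/-- If `x` is a nonzerodivisor of the Noetherian ring `R` and `(R/x)_Q` is regular, then `R` is
regular at the preimage of `Q`. -/
theorem regular_comap_of_quotient {R : Type u} [CommRing R] [IsNoetherianRing R] (x : R)
    (hx : x ∈ nonZeroDivisors R) (Q : Ideal (R ⧸ Ideal.span {x})) [Q.IsPrime]
    (hQreg : IsRegularLocalRing (Localization.AtPrime Q)) :
    IsRegularLocalRing (Localization.AtPrime (Q.comap (Ideal.Quotient.mk (Ideal.span {x})))) := by
  obtain ⟨e⟩ := Groth.Agent.Lib.Helper47.nonempty_localization_quotient_ringEquiv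
    (Ideal.span {x}) Q
  have hregq := IsRegularLocalRing.of_ringEquiv e
  have hmap : (Ideal.span {x}).map (algebraMap R
      (Localization.AtPrime (Q.comap (Ideal.Quotient.mk (Ideal.span {x}))))) =
      Ideal.span {algebraMap R
        (Localization.AtPrime (Q.comap (Ideal.Quotient.mk (Ideal.span {x})))) x} := by
    rw [Ideal.map_span, Set.image_singleton]
  rw [hmap] at hregq
  refine regular_of_quotient_nzd ?_ ?_ hregq
  · exact IsLocalization.map_nonZeroDivisors_le
      (Q.comap (Ideal.Quotient.mk (Ideal.span {x}))).primeCompl _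
      (Submonoid.mem_map_of_mem _ hx)
  · rw [← Localization.AtPrime.map_eq_maximalIdeal]
    refine Ideal.mem_map_of_mem _ ?_
    rw [Ideal.mem_comap]
    have h0 : Ideal.Quotient.mk (Ideal.span {x}) x = 0 :=
      Ideal.Quotient.eq_zero_iff_mem.mpr (Ideal.mem_span_singleton_self x)
    rw [h0]; exact Ideal.zero_mem _

/-- If `x` is a nonzerodivisor of the Noetherian ring `R` and all local rings of `R/x` are regular,
then `R` is regular at every prime containing `x`. -/
theorem regular_at_of_quotient {R : Type u} [CommRing R] [IsNoetherianRing R] (x : R)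
    (hx : x ∈ nonZeroDivisors R)
    (hq : ∀ (Q : Ideal (R ⧸ Ideal.span {x})) [Q.IsPrime],
      IsRegularLocalRing (Localization.AtPrime Q))
    (P : Ideal R) [P.IsPrime] (hxP : x ∈ P) :
    IsRegularLocalRing (Localization.AtPrime P) := by
  have hIP : Ideal.span {x} ≤ P := by
    rw [Ideal.span_le]
    intro y hy
    rw [Set.mem_singleton_iff] at hy
    rw [hy]; exact hxP
  have hsurj : Function.Surjective (Ideal.Quotient.mk (Ideal.span {x})) :=
    Ideal.Quotient.mk_surjective
  haveI hQ : (P.map (Ideal.Quotient.mk (Ideal.span {x}))).IsPrime :=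
    Ideal.map_isPrime_of_surjective hsurj (by rw [Ideal.mk_ker]; exact hIP)
  have hcomap : (P.map (Ideal.Quotient.mk (Ideal.span {x}))).comap
      (Ideal.Quotient.mk (Ideal.span {x})) = P := by
    rw [Ideal.comap_map_of_surjective _ hsurj, ← RingHom.ker_eq_comap_bot, Ideal.mk_ker]
    exact sup_eq_left.mpr hIP
  exact atPrime_congr_regular hcomap
    (regular_comap_of_quotient x hx _ (hq (P.map (Ideal.Quotient.mk (Ideal.span {x})))))

/-- The defining relation of `C[W]/(W^n - c)`. -/
theorem root_pow_eq {C : Type*} [CommRing C] (c : C) (n : ℕ) :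
    AdjoinRoot.root (X ^ n - Polynomial.C c : C[X]) ^ n = AdjoinRoot.of _ c := by
  have h := AdjoinRoot.eval₂_root (X ^ n - Polynomial.C c : C[X])
  rw [eval₂_sub, eval₂_pow, eval₂_X, eval₂_C, sub_eq_zero] at h
  exact h

/-- Every element of `C[W]/(W^n - c)` is congruent modulo `W` to a constant. -/
theorem exists_of_sub_mem {C : Type*} [CommRing C] (q : C[X]) (z : AdjoinRoot q) :
    ∃ x : C, z - AdjoinRoot.of q x ∈ Ideal.span {AdjoinRoot.root q} := by
  induction z using AdjoinRoot.induction_on with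
  | ih p =>
    refine ⟨p.coeff 0, ?_⟩
    rw [Ideal.mem_span_singleton']
    refine ⟨AdjoinRoot.mk q p.divX, ?_⟩
    have h := Polynomial.X_mul_divX_add p
    have h2 : AdjoinRoot.mk q p =
        AdjoinRoot.root q * AdjoinRoot.mk q p.divX + AdjoinRoot.of q (p.coeff 0) := by
      conv_lhs => rw [← h]
      rw [map_add, map_mul, AdjoinRoot.mk_X, AdjoinRoot.mk_C]
    rw [h2]; ring

/-- `C[W]/(W^n - c, W) ≃ C/(c)`. -/
theorem nonempty_quotRoot_ringEquiv {C : Type*} [CommRing C] (c : C) (n : ℕ) (hn : 1 ≤ n) :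
    Nonempty ((AdjoinRoot (X ^ n - Polynomial.C c : C[X]) ⧸
      Ideal.span {AdjoinRoot.root (X ^ n - Polynomial.C c : C[X])}) ≃+* (C ⧸ Ideal.span {c})) := by
  have hrel := root_pow_eq c n
  have hφ : (X ^ n - Polynomial.C c : C[X]).eval₂ (Ideal.Quotient.mk (Ideal.span {c})) 0 = 0 := by
    rw [eval₂_sub, eval₂_pow, eval₂_X, eval₂_C, zero_pow (by omega), zero_sub, neg_eq_zero,
      Ideal.Quotient.eq_zero_iff_mem]
    exact Ideal.mem_span_singleton_self c
  obtain ⟨φ, hφof, hφroot⟩ : ∃ φ : AdjoinRoot (X ^ n - Polynomial.C c : C[X]) →+* C ⧸ Ideal.span {c},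
      (∀ x, φ (AdjoinRoot.of _ x) = Ideal.Quotient.mk _ x) ∧ φ (AdjoinRoot.root _) = 0 :=
    ⟨AdjoinRoot.lift (Ideal.Quotient.mk (Ideal.span {c})) 0 hφ,
      fun x => AdjoinRoot.lift_of hφ, AdjoinRoot.lift_root hφ⟩
  have hker : ∀ a ∈ Ideal.span {AdjoinRoot.root (X ^ n - Polynomial.C c : C[X])}, φ a = 0 := by
    intro a ha
    obtain ⟨b, rfl⟩ := Ideal.mem_span_singleton'.mp ha
    rw [map_mul, hφroot, mul_zero]
  obtain ⟨Φ, hΦ⟩ : ∃ Φ : (AdjoinRoot (X ^ n - Polynomial.C c : C[X]) ⧸
      Ideal.span {AdjoinRoot.root (X ^ n - Polynomial.C c : C[X])}) →+* C ⧸ Ideal.span {c},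
      ∀ z, Φ (Ideal.Quotient.mk _ z) = φ z :=
    ⟨Ideal.Quotient.lift _ φ hker, fun z => Ideal.Quotient.lift_mk _ _ _⟩
  have hrep : ∀ y : (AdjoinRoot (X ^ n - Polynomial.C c : C[X]) ⧸
      Ideal.span {AdjoinRoot.root (X ^ n - Polynomial.C c : C[X])}),
      ∃ x : C, y = Ideal.Quotient.mk _ (AdjoinRoot.of _ x) := by
    intro y
    obtain ⟨z, rfl⟩ := Ideal.Quotient.mk_surjective y
    obtain ⟨x, hx⟩ := exists_of_sub_mem _ z
    exact ⟨x, (Ideal.Quotient.eq).mpr hx⟩
  refine ⟨RingEquiv.ofBijective Φ ⟨?_, ?_⟩⟩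
  · rw [injective_iff_map_eq_zero]
    intro y hy
    obtain ⟨x, rfl⟩ := hrep y
    rw [hΦ, hφof, Ideal.Quotient.eq_zero_iff_mem, Ideal.mem_span_singleton'] at hy
    obtain ⟨d, rfl⟩ := hy
    rw [Ideal.Quotient.eq_zero_iff_mem, Ideal.mem_span_singleton']
    refine ⟨AdjoinRoot.of _ d * AdjoinRoot.root _ ^ (n - 1), ?_⟩
    rw [mul_assoc, ← pow_succ, Nat.sub_add_cancel hn, hrel, map_mul]
  · intro y
    obtain ⟨x, rfl⟩ := Ideal.Quotient.mk_surjective y
    exact ⟨Ideal.Quotient.mk _ (AdjoinRoot.of _ x), by rw [hΦ, hφof]⟩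

/-- The standard étale pair `(W^n - c, c)`. -/
noncomputable def awayPair {C : Type*} [CommRing C] (c : C) (n : ℕ) (hn : 1 ≤ n) (v : C)
    (hv : (n : C) * v = 1) : StandardEtalePair C where
  f := X ^ n - Polynomial.C c
  monic_f := monic_X_pow_sub_C c (by omega)
  g := Polynomial.C c
  cond := by
    refine ⟨Polynomial.C v * X, -1, 1, ?_⟩
    rw [Groth.Agent.S14457.deriv_f, pow_one]
    have hX : (X : C[X]) ^ (n - 1) * X = X ^ n := by
      rw [← pow_succ]; congr 1; omega
    have hnv : (Polynomial.C (n : C) * Polynomial.C v : C[X]) = 1 := by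
      rw [← C_mul, hv, C_1]
    linear_combination (Polynomial.C (n : C) * Polynomial.C v) * hX + X ^ n * hnv

/-- `(C[W]/(W^n - c))[1/c]` is étale over `C` when `n` is invertible in `C`. -/
theorem etale_away {C : Type u} [CommRing C] (c : C) (n : ℕ) (hn : 1 ≤ n) (hnC : IsUnit (n : C)) :
    Algebra.Etale C (Localization.Away (AdjoinRoot.of (X ^ n - Polynomial.C c : C[X]) c)) := by
  obtain ⟨v, hv⟩ := hnC.exists_right_inv
  let P := awayPair c n hn v hv
  have h1 : AdjoinRoot.mk P.f P.g = AdjoinRoot.of (X ^ n - Polynomial.C c : C[X]) c :=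
    AdjoinRoot.mk_C c
  have e : P.Ring ≃ₐ[C] Localization.Away (AdjoinRoot.mk P.f P.g) := P.equivAwayAdjoinRoot
  rw [h1] at e
  exact Algebra.Etale.of_equiv e

/-- If `C` is a regular ring, `c` a nonzerodivisor with `C/(c)` regular and `n ≥ 1` is invertible in
`C`, then `C[W]/(W^n - c)` is a regular ring. -/
theorem kummer_regular (C : Type u) [CommRing C] [IsRegularRing C] (c : C)
    (hc : c ∈ nonZeroDivisors C) (n : ℕ) (hn : 1 ≤ n) (hnC : IsUnit (n : C))
    (hq : ∀ (Q : Ideal (C ⧸ Ideal.span {c})) [Q.IsPrime],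
      IsRegularLocalRing (Localization.AtPrime Q)) :
    IsRegularRing (AdjoinRoot (X ^ n - Polynomial.C c : C[X])) := by
  have hmonic : (X ^ n - Polynomial.C c : C[X]).Monic := monic_X_pow_sub_C c (by omega)
  haveI : IsNoetherianRing (AdjoinRoot (X ^ n - Polynomial.C c : C[X])) := inferInstance
  rw [isRegularRing_iff]
  intro P hP
  have hrel := root_pow_eq c n
  haveI : Module.Free C (AdjoinRoot (X ^ n - Polynomial.C c : C[X])) := hmonic.free_adjoinRoot
  have hofc : AdjoinRoot.of (X ^ n - Polynomial.C c : C[X]) c ∈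
      nonZeroDivisors (AdjoinRoot (X ^ n - Polynomial.C c : C[X])) := by
    have h2 : IsSMulRegular (AdjoinRoot (X ^ n - Polynomial.C c : C[X])) c :=
      Module.Flat.isSMulRegular_of_nonZeroDivisors hc
    rw [mem_nonZeroDivisors_iff_left]
    intro x hx
    apply h2
    show c • x = c • 0
    rw [smul_zero, Algebra.smul_def, AdjoinRoot.algebraMap_eq]; exact hx
  have hroot : AdjoinRoot.root (X ^ n - Polynomial.C c : C[X]) ∈
      nonZeroDivisors (AdjoinRoot (X ^ n - Polynomial.C c : C[X])) := by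
    have h3 : AdjoinRoot.root (X ^ n - Polynomial.C c : C[X]) *
        AdjoinRoot.root (X ^ n - Polynomial.C c : C[X]) ^ (n - 1) ∈ nonZeroDivisors _ := by
      rw [← pow_succ', Nat.sub_add_cancel hn, hrel]; exact hofc
    exact (mul_mem_nonZeroDivisors.mp h3).1
  by_cases hW : AdjoinRoot.root (X ^ n - Polynomial.C c : C[X]) ∈ P
  · obtain ⟨e⟩ := nonempty_quotRoot_ringEquiv c n hn
    refine regular_at_of_quotient _ hroot ?_ P hW
    intro Q hQ
    haveI : IsRegularRing (C ⧸ Ideal.span {c}) := isRegularRing_iff.mpr hq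
    haveI : IsRegularRing (AdjoinRoot (X ^ n - Polynomial.C c : C[X]) ⧸
        Ideal.span {AdjoinRoot.root (X ^ n - Polynomial.C c : C[X])}) :=
      IsRegularRing.of_ringEquiv e.symm
    exact IsRegularRing.isRegularLocalRing_localization Q
  · have hcP : AdjoinRoot.of (X ^ n - Polynomial.C c : C[X]) c ∉ P := by
      rw [← hrel]; exact fun h => hW (hP.mem_of_pow_mem n h)
    haveI : Algebra.Etale C
        (Localization.Away (AdjoinRoot.of (X ^ n - Polynomial.C c : C[X]) c)) :=
      etale_away c n hn hnC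
    obtain ⟨P', hP', ⟨e⟩⟩ := Groth.Agent.Lib.Helper24.exists_atPrime_ringEquiv_of_disjoint
      (S' := Localization.Away (AdjoinRoot.of (X ^ n - Polynomial.C c : C[X]) c))
      (.powers (AdjoinRoot.of (X ^ n - Polynomial.C c : C[X]) c)) P
      ((Ideal.disjoint_powers_iff_notMem_of_isPrime _).mpr hcP)
    have h1 : IsRegularLocalRing (Localization.AtPrime P') :=
      Groth.Agent.S1535.isRegularLocalRing_atPrime_of_smooth C
        (Localization.Away (AdjoinRoot.of (X ^ n - Polynomial.C c : C[X]) c)) P'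
    exact IsRegularLocalRing.of_ringEquiv e.symm

end Groth.Agent.Lib.Helper99.KummerRegular
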