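import Mathlib
import Groth.Agent.Lib.Helper99.KummerRegular
import Groth.Agent.Lib.Helper73.RegularNormal
import Groth.Agent.Lib.Helper13.NormalRing

/-!
# Normalization of the `N`-th root cover `B[t]/(t^N - u f^α)` (helper99, for S16900)

With `g = gcd(N, α)`, `N = g N'`, `α = g α'`, `a α' = 1 + b N'`, the subalgebra of
`K = (B[t]/(t^N - u f^α))[1/f]` generated by the `t^i f^{-⌊iα/N⌋}` is isomorphic to the tower
`A2 = C1[W]/(W^{N'} - S^a f)`, `C1 = B[S]/(S^g - u)`, via `S ↦ t^{N'} f^{-α'}`, `W ↦ t^a f^{-b}`.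
-/

set_option autoImplicit false
set_option linter.style.haveILetI false

universe u

open Polynomial

namespace Groth.Agent.Lib.Helper99.CyclicCover

open Groth.Agent.Lib.Helper99

section Identities

variable {K : Type*} [CommRing K]

theorem pow_mul_inv_eq (N α : ℕ) (hN : 0 < N) (t inv fK uK : K) (hinv : fK * inv = 1)
    (ht : t ^ N = uK * fK ^ α) (e : ℕ) :
    t ^ e * inv ^ (e * α / N) = uK ^ (e / N) * (t ^ (e % N) * inv ^ (e % N * α / N)) := by
  obtain ⟨c, i, hi, rfl⟩ : ∃ c i, i < N ∧ e = N * c + i :=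
    ⟨e / N, e % N, Nat.mod_lt _ hN, (Nat.div_add_mod e N).symm⟩
  have h1 : (N * c + i) * α / N = c * α + i * α / N := by
    rw [add_mul, mul_assoc, Nat.mul_add_div hN]
  have h2 : (N * c + i) / N = c := by
    rw [Nat.mul_add_div hN, Nat.div_eq_of_lt hi, add_zero]
  have h3 : (N * c + i) % N = i := by
    rw [Nat.mul_add_mod, Nat.mod_eq_of_lt hi]
  have h4 : fK ^ (c * α) * inv ^ (c * α) = 1 := by rw [← mul_pow, hinv, one_pow]
  rw [h1, h2, h3, pow_add, pow_mul, ht, pow_add]
  calc (uK * fK ^ α) ^ c * t ^ i * (inv ^ (c * α) * inv ^ (i * α / N))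
      = uK ^ c * (fK ^ (c * α) * inv ^ (c * α)) * (t ^ i * inv ^ (i * α / N)) := by ring
    _ = uK ^ c * (t ^ i * inv ^ (i * α / N)) := by rw [h4, mul_one]

theorem tau_pow_N' (W S Sinv fR : K) (N' α' a b : ℕ)
    (hS : S * Sinv = 1) (hW : W ^ N' = S ^ a * fR) (hab : a * α' = 1 + b * N') :
    (W ^ α' * Sinv ^ b) ^ N' = S * fR ^ α' := by
  calc (W ^ α' * Sinv ^ b) ^ N' = (W ^ N') ^ α' * Sinv ^ (b * N') := by ring
    _ = S ^ (a * α') * fR ^ α' * Sinv ^ (b * N') := by rw [hW]; ring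
    _ = S * fR ^ α' * (S * Sinv) ^ (b * N') := by rw [hab]; ring
    _ = S * fR ^ α' := by rw [hS, one_pow, mul_one]

theorem tau_pow_a (W S Sinv fR : K) (N' α' a b : ℕ)
    (hS : S * Sinv = 1) (hW : W ^ N' = S ^ a * fR) (hab : a * α' = 1 + b * N') :
    (W ^ α' * Sinv ^ b) ^ a = W * fR ^ b := by
  calc (W ^ α' * Sinv ^ b) ^ a = W ^ (a * α') * Sinv ^ (b * a) := by ring
    _ = W * (W ^ N') ^ b * Sinv ^ (b * a) := by rw [hab]; ring
    _ = W * fR ^ b * (S * Sinv) ^ (a * b) := by rw [hW]; ring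
    _ = W * fR ^ b := by rw [hS, one_pow, mul_one]

theorem tau_pow_N (W S Sinv fR uR : K) (g N' α' a b : ℕ)
    (hS : S * Sinv = 1) (hW : W ^ N' = S ^ a * fR) (hab : a * α' = 1 + b * N')
    (hSg : S ^ g = uR) :
    (W ^ α' * Sinv ^ b) ^ (g * N') = uR * fR ^ (g * α') := by
  rw [mul_comm g N', pow_mul, tau_pow_N' W S Sinv fR N' α' a b hS hW hab, mul_pow, hSg,
    ← pow_mul, mul_comm α' g]

theorem mul_inv_of_pow {B : Type*} [CommRing B] [Algebra B K] (u : Bˣ) (x : K) (g : ℕ)
    (hg : 1 ≤ g) (hx : x ^ g = algebraMap B K u) :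
    x * (x ^ (g - 1) * algebraMap B K ((u⁻¹ : Bˣ) : B)) = 1 := by
  rw [← mul_assoc, ← pow_succ', Nat.sub_add_cancel hg, hx, ← map_mul, Units.mul_inv, map_one]

theorem s_pow (t inv fK uK : K) (g N' α' : ℕ) (hinv : fK * inv = 1)
    (ht : t ^ (g * N') = uK * fK ^ (g * α')) : (t ^ N' * inv ^ α') ^ g = uK := by
  have h4 : fK ^ (g * α') * inv ^ (g * α') = 1 := by rw [← mul_pow, hinv, one_pow]
  calc (t ^ N' * inv ^ α') ^ g = t ^ (g * N') * inv ^ (g * α') := by ring
    _ = uK * (fK ^ (g * α') * inv ^ (g * α')) := by rw [ht]; ring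
    _ = uK := by rw [h4, mul_one]

theorem w_pow (t inv fK : K) (N' α' a b : ℕ) (hinv : fK * inv = 1)
    (hab : a * α' = 1 + b * N') :
    (t ^ a * inv ^ b) ^ N' = (t ^ N' * inv ^ α') ^ a * fK := by
  calc (t ^ a * inv ^ b) ^ N' = t ^ (N' * a) * inv ^ (b * N') * (fK * inv) := by
        rw [hinv]; ring
    _ = t ^ (N' * a) * inv ^ (1 + b * N') * fK := by ring
    _ = (t ^ N' * inv ^ α') ^ a * fK := by rw [← hab]; ring

theorem t_eq (t inv s sinv : K) (N' α' a b : ℕ) (hs : s = t ^ N' * inv ^ α')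
    (hss : s * sinv = 1) (hab : a * α' = 1 + b * N') :
    (t ^ a * inv ^ b) ^ α' * sinv ^ b = t := by
  calc (t ^ a * inv ^ b) ^ α' * sinv ^ b = t ^ (a * α') * inv ^ (b * α') * sinv ^ b := by ring
    _ = t * (t ^ N' * inv ^ α') ^ b * sinv ^ b := by rw [hab]; ring
    _ = t * (s * sinv) ^ b := by rw [← hs]; ring
    _ = t := by rw [hss, one_pow, mul_one]

theorem gen_eq (t inv fK s sinv w : K) (N' α' a b : ℕ) (hinv : fK * inv = 1)
    (hw : w ^ N' = s ^ a * fK) (ht : w ^ α' * sinv ^ b = t) (i : ℕ) :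
    t ^ i * inv ^ (i * α' / N') =
      s ^ (a * (i * α' / N')) * sinv ^ (b * i) * w ^ (i * α' % N') := by
  have hdm : i * α' = N' * (i * α' / N') + i * α' % N' := (Nat.div_add_mod _ _).symm
  generalize i * α' / N' = q at hdm ⊢
  generalize i * α' % N' = r at hdm ⊢
  calc t ^ i * inv ^ q = w ^ (i * α') * sinv ^ (b * i) * inv ^ q := by rw [← ht]; ring
    _ = (w ^ N') ^ q * w ^ r * sinv ^ (b * i) * inv ^ q := by rw [hdm]; ring
    _ = s ^ (a * q) * sinv ^ (b * i) * w ^ r * (fK * inv) ^ q := by rw [hw]; ring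
    _ = s ^ (a * q) * sinv ^ (b * i) * w ^ r := by rw [hinv, one_pow, mul_one]

theorem arith (N α : ℕ) (hN : 0 < N) (hα : 0 < α) :
    ∃ g N' α' a b : ℕ, 1 ≤ g ∧ 1 ≤ N' ∧ N = g * N' ∧ α = g * α' ∧ a * α' = 1 + b * N' := by
  have hgpos : 0 < Nat.gcd N α := Nat.gcd_pos_of_pos_left α hN
  have hNg : N = Nat.gcd N α * (N / Nat.gcd N α) :=
    (Nat.mul_div_cancel' (Nat.gcd_dvd_left N α)).symm
  have hαg : α = Nat.gcd N α * (α / Nat.gcd N α) :=
    (Nat.mul_div_cancel' (Nat.gcd_dvd_right N α)).symm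
  have hcop : Nat.Coprime (N / Nat.gcd N α) (α / Nat.gcd N α) :=
    Nat.coprime_div_gcd_div_gcd hgpos
  generalize Nat.gcd N α = g at hgpos hNg hαg hcop
  generalize N / g = N' at hNg hcop
  generalize α / g = α' at hαg hcop
  have hN' : 1 ≤ N' := by
    rcases Nat.eq_zero_or_pos N' with h | h
    · rw [h, mul_zero] at hNg; omega
    · exact h
  have hα' : 1 ≤ α' := by
    rcases Nat.eq_zero_or_pos α' with h | h
    · rw [h, mul_zero] at hαg; omega
    · exact h
  by_cases h1 : N' = 1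
  · refine ⟨g, N', α', 1, α' - 1, hgpos, hN', hNg, hαg, ?_⟩
    rw [h1]; omega
  · have h2 : 1 < N' := by omega
    obtain ⟨m, -, hm⟩ := Nat.exists_mul_mod_eq_one_of_coprime hcop.symm h2
    refine ⟨g, N', α', m, α' * m / N', hgpos, hN', hNg, hαg, ?_⟩
    have h3 := Nat.div_add_mod (α' * m) N'
    rw [hm] at h3
    calc m * α' = α' * m := mul_comm _ _
      _ = N' * (α' * m / N') + 1 := h3.symm
      _ = 1 + α' * m / N' * N' := by ring

end Identities

section Tower

variable (B : Type u) [CommRing B] (u : Bˣ) (f : B) (g N' a : ℕ)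

/-- First layer: `B[S]/(S^g - u)`. -/
abbrev C1 : Type u := AdjoinRoot (X ^ g - C (u : B) : B[X])

/-- The element `S^a f` of the first layer. -/
noncomputable def cEl : C1 B u g :=
  AdjoinRoot.root (X ^ g - C (u : B) : B[X]) ^ a * algebraMap B (C1 B u g) f

/-- Second layer: `C1[W]/(W^N' - S^a f)`. -/
abbrev A2 : Type u := AdjoinRoot (X ^ N' - C (cEl B u f g a) : (C1 B u g)[X])

/-- The class of `S` in the second layer. -/
noncomputable def S2 : A2 B u f g N' a :=
  algebraMap (C1 B u g) (A2 B u f g N' a) (AdjoinRoot.root (X ^ g - C (u : B) : B[X]))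

/-- The class of `W` in the second layer. -/
noncomputable def W2 : A2 B u f g N' a :=
  AdjoinRoot.root (X ^ N' - C (cEl B u f g a) : (C1 B u g)[X])

/-- The inverse of `S` in the second layer. -/
noncomputable def Sinv2 : A2 B u f g N' a :=
  S2 B u f g N' a ^ (g - 1) * algebraMap B (A2 B u f g N' a) ((u⁻¹ : Bˣ) : B)

theorem S2_pow : S2 B u f g N' a ^ g = algebraMap B (A2 B u f g N' a) u := by
  unfold S2
  rw [← map_pow, KummerRegular.root_pow_eq, ← AdjoinRoot.algebraMap_eq,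
    ← IsScalarTower.algebraMap_apply]

theorem W2_pow :
    W2 B u f g N' a ^ N' = S2 B u f g N' a ^ a * algebraMap B (A2 B u f g N' a) f := by
  have h := KummerRegular.root_pow_eq (cEl B u f g a) N'
  have h2 : AdjoinRoot.of (X ^ N' - C (cEl B u f g a) : (C1 B u g)[X]) (cEl B u f g a) =
      S2 B u f g N' a ^ a * algebraMap B (A2 B u f g N' a) f := by
    rw [IsScalarTower.algebraMap_apply B (C1 B u g) (A2 B u f g N' a) f]
    unfold S2
    rw [← map_pow, ← map_mul, AdjoinRoot.algebraMap_eq]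
    rfl
  exact h.trans h2

theorem S2_mul_Sinv2 (hg : 1 ≤ g) : S2 B u f g N' a * Sinv2 B u f g N' a = 1 :=
  mul_inv_of_pow u (S2 B u f g N' a) g hg (S2_pow B u f g N' a)

theorem A2_induction (P : A2 B u f g N' a → Prop)
    (hB : ∀ b : B, P (algebraMap B (A2 B u f g N' a) b)) (hS : P (S2 B u f g N' a))
    (hW : P (W2 B u f g N' a))
    (hadd : ∀ x y, P x → P y → P (x + y)) (hmul : ∀ x y, P x → P y → P (x * y)) :
    ∀ y, P y := by
  have h1 : ∀ x : C1 B u g, P (algebraMap (C1 B u g) (A2 B u f g N' a) x) := by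
    intro x
    induction x using AdjoinRoot.induction_on with
    | ih p =>
      induction p using Polynomial.induction_on with
      | C b =>
        rw [AdjoinRoot.mk_C, ← AdjoinRoot.algebraMap_eq, ← IsScalarTower.algebraMap_apply]
        exact hB b
      | add p q hp hq => rw [map_add, map_add]; exact hadd _ _ hp hq
      | monomial n b h =>
        rw [pow_succ, ← mul_assoc, map_mul, map_mul, AdjoinRoot.mk_X]
        exact hmul _ _ h hS
  intro y
  induction y using AdjoinRoot.induction_on with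
  | ih p =>
    induction p using Polynomial.induction_on with
    | C x => rw [AdjoinRoot.mk_C, ← AdjoinRoot.algebraMap_eq]; exact h1 x
    | add p q hp hq => rw [map_add]; exact hadd _ _ hp hq
    | monomial n x h =>
      rw [pow_succ, ← mul_assoc, map_mul, AdjoinRoot.mk_X]
      exact hmul _ _ h hW

theorem exists_psi {K : Type*} [CommRing K] [Algebra B K] (s w : K)
    (hs : s ^ g = algebraMap B K u) (hw : w ^ N' = s ^ a * algebraMap B K f) :
    ∃ ψ : A2 B u f g N' a →ₐ[B] K, ψ (S2 B u f g N' a) = s ∧ ψ (W2 B u f g N' a) = w := by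
  have h1 : (X ^ g - C (u : B) : B[X]).eval₂ (Algebra.ofId B K) s = 0 := by
    rw [eval₂_sub, eval₂_pow, eval₂_X, eval₂_C, hs]
    exact sub_self _
  obtain ⟨ψ₁, hψ₁root⟩ : ∃ ψ₁ : C1 B u g →ₐ[B] K,
      ψ₁ (AdjoinRoot.root (X ^ g - C (u : B) : B[X])) = s :=
    ⟨AdjoinRoot.liftAlgHom _ (Algebra.ofId B K) s h1, AdjoinRoot.liftAlgHom_root _ _ _ _⟩
  have h2 : (X ^ N' - C (cEl B u f g a) : (C1 B u g)[X]).eval₂ ψ₁ w = 0 := by
    rw [eval₂_sub, eval₂_pow, eval₂_X, eval₂_C, sub_eq_zero, hw]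
    show s ^ a * algebraMap B K f =
      ψ₁ (AdjoinRoot.root (X ^ g - C (u : B) : B[X]) ^ a * algebraMap B (C1 B u g) f)
    rw [map_mul, map_pow, hψ₁root, AlgHom.commutes]
  refine ⟨AdjoinRoot.liftAlgHom _ ψ₁ w h2, ?_, AdjoinRoot.liftAlgHom_root _ _ _ _⟩
  unfold S2
  rw [AdjoinRoot.algebraMap_eq, AdjoinRoot.liftAlgHom_of, hψ₁root]

theorem exists_theta0 (N α α' b : ℕ) (hg : 1 ≤ g) (hNg : N = g * N') (hαg : α = g * α')
    (hab : a * α' = 1 + b * N') :
    ∃ θ₀ : AdjoinRoot (X ^ N - C ((u : B) * f ^ α) : B[X]) →+* A2 B u f g N' a,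
      (∀ x : B, θ₀ (AdjoinRoot.of _ x) = algebraMap B (A2 B u f g N' a) x) ∧
      θ₀ (AdjoinRoot.root _) = W2 B u f g N' a ^ α' * Sinv2 B u f g N' a ^ b := by
  have h : (X ^ N - C ((u : B) * f ^ α) : B[X]).eval₂ (algebraMap B (A2 B u f g N' a))
      (W2 B u f g N' a ^ α' * Sinv2 B u f g N' a ^ b) = 0 := by
    rw [eval₂_sub, eval₂_pow, eval₂_X, eval₂_C, sub_eq_zero, hNg, hαg, map_mul, map_pow]
    exact tau_pow_N _ _ _ _ _ g N' α' a b (S2_mul_Sinv2 B u f g N' a hg)
      (W2_pow B u f g N' a) hab (S2_pow B u f g N' a)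
  exact ⟨AdjoinRoot.lift _ _ h, fun x => AdjoinRoot.lift_of h, AdjoinRoot.lift_root h⟩

theorem psi_range_le {K : Type*} [CommRing K] [Algebra B K] (A : Subalgebra B K)
    (ψ : A2 B u f g N' a →ₐ[B] K) (hS : ψ (S2 B u f g N' a) ∈ A)
    (hW : ψ (W2 B u f g N' a) ∈ A) : ψ.range ≤ A := by
  intro x hx
  obtain ⟨y, rfl⟩ := (AlgHom.mem_range ψ).mp hx
  clear hx
  revert y
  refine A2_induction B u f g N' a (fun y => ψ y ∈ A) ?_ hS hW ?_ ?_
  · intro b
    show ψ (algebraMap B _ b) ∈ A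
    rw [AlgHom.commutes]; exact A.algebraMap_mem b
  · intro x y hx hy
    show ψ (x + y) ∈ A
    rw [map_add]; exact A.add_mem hx hy
  · intro x y hx hy
    show ψ (x * y) ∈ A
    rw [map_mul]; exact A.mul_mem hx hy

theorem A2_finite (hg : 1 ≤ g) (hN' : 1 ≤ N') : Module.Finite B (A2 B u f g N' a) := by
  haveI : Module.Finite B (C1 B u g) :=
    (monic_X_pow_sub_C (u : B) (by omega)).finite_adjoinRoot
  haveI : Module.Finite (C1 B u g) (A2 B u f g N' a) :=
    (monic_X_pow_sub_C (cEl B u f g a) (by omega)).finite_adjoinRoot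
  exact Module.Finite.trans (C1 B u g) (A2 B u f g N' a)

theorem f2_mem_nonZeroDivisors (hg : 1 ≤ g) (hN' : 1 ≤ N') (hf : f ∈ nonZeroDivisors B) :
    algebraMap B (A2 B u f g N' a) f ∈ nonZeroDivisors (A2 B u f g N' a) := by
  haveI : Module.Free B (C1 B u g) :=
    (monic_X_pow_sub_C (u : B) (by omega)).free_adjoinRoot
  haveI : Module.Free (C1 B u g) (A2 B u f g N' a) :=
    (monic_X_pow_sub_C (cEl B u f g a) (by omega)).free_adjoinRoot
  haveI : Module.Flat B (A2 B u f g N' a) :=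
    Module.Flat.trans B (C1 B u g) (A2 B u f g N' a)
  have h2 : IsSMulRegular (A2 B u f g N' a) f := Module.Flat.isSMulRegular_of_nonZeroDivisors hf
  rw [mem_nonZeroDivisors_iff_left]
  intro x hx
  apply h2
  show f • x = f • 0
  rw [smul_zero, Algebra.smul_def]; exact hx

theorem psi_injective_aux {A' K T : Type*} [CommRing A'] [CommRing K] [CommRing T] [Algebra B A']
    [Algebra A' K] [Algebra B K] [IsScalarTower B A' K]
    [IsLocalization.Away (algebraMap B A' f) K]
    (ι : A2 B u f g N' a →+* T) (hι : Function.Injective ι)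
    (hιf : IsUnit (ι (algebraMap B (A2 B u f g N' a) f)))
    (hg : 1 ≤ g) (α' b : ℕ) (hab : a * α' = 1 + b * N')
    (r : A') (inv : K) (hinv : algebraMap B K f * inv = 1)
    (θ₀ : A' →+* A2 B u f g N' a)
    (hθB : ∀ x : B, θ₀ (algebraMap B A' x) = algebraMap B (A2 B u f g N' a) x)
    (hθr : θ₀ r = W2 B u f g N' a ^ α' * Sinv2 B u f g N' a ^ b)
    (ψ : A2 B u f g N' a →ₐ[B] K)
    (hψS : ψ (S2 B u f g N' a) = algebraMap A' K r ^ N' * inv ^ α')
    (hψW : ψ (W2 B u f g N' a) = algebraMap A' K r ^ a * inv ^ b) :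
    Function.Injective ψ := by
  have hunit : IsUnit ((ι.comp θ₀) (algebraMap B A' f)) := by
    rw [RingHom.comp_apply, hθB]
    exact hιf
  obtain ⟨θ, hθ⟩ : ∃ θ : K →+* T, ∀ x : A', θ (algebraMap A' K x) = ι (θ₀ x) :=
    ⟨IsLocalization.Away.lift (algebraMap B A' f) hunit,
      fun x => IsLocalization.Away.lift_eq _ hunit x⟩
  have hθf : θ (algebraMap B K f) = ι (algebraMap B _ f) := by
    rw [IsScalarTower.algebraMap_apply B A' K, hθ, hθB]
  have hθinv : ι (algebraMap B _ f) * θ inv = 1 := by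
    rw [← hθf, ← map_mul, hinv, map_one]
  have hS := S2_mul_Sinv2 B u f g N' a hg
  have e1 : θ (algebraMap A' K r) = ι (W2 B u f g N' a ^ α' * Sinv2 B u f g N' a ^ b) := by
    rw [hθ, hθr]
  have key : ∀ y, θ (ψ y) = ι y := by
    refine A2_induction B u f g N' a (fun y => θ (ψ y) = ι y) ?_ ?_ ?_ ?_ ?_
    · intro x
      show θ (ψ (algebraMap B _ x)) = ι (algebraMap B _ x)
      rw [AlgHom.commutes, IsScalarTower.algebraMap_apply B A' K, hθ, hθB]
    · show θ (ψ (S2 B u f g N' a)) = ι (S2 B u f g N' a)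
      calc θ (ψ (S2 B u f g N' a)) = θ (algebraMap A' K r) ^ N' * θ inv ^ α' := by
            rw [hψS, map_mul, map_pow, map_pow]
        _ = ι ((W2 B u f g N' a ^ α' * Sinv2 B u f g N' a ^ b) ^ N') * θ inv ^ α' := by
            rw [e1, map_pow]
        _ = ι (S2 B u f g N' a) * (ι (algebraMap B _ f) * θ inv) ^ α' := by
            rw [tau_pow_N' _ _ _ _ N' α' a b hS (W2_pow B u f g N' a) hab, map_mul, map_pow]
            ring
        _ = ι (S2 B u f g N' a) := by rw [hθinv, one_pow, mul_one]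
    · show θ (ψ (W2 B u f g N' a)) = ι (W2 B u f g N' a)
      calc θ (ψ (W2 B u f g N' a)) = θ (algebraMap A' K r) ^ a * θ inv ^ b := by
            rw [hψW, map_mul, map_pow, map_pow]
        _ = ι ((W2 B u f g N' a ^ α' * Sinv2 B u f g N' a ^ b) ^ a) * θ inv ^ b := by
            rw [e1, map_pow]
        _ = ι (W2 B u f g N' a) * (ι (algebraMap B _ f) * θ inv) ^ b := by
            rw [tau_pow_a _ _ _ _ N' α' a b hS (W2_pow B u f g N' a) hab, map_mul, map_pow]
            ring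
        _ = ι (W2 B u f g N' a) := by rw [hθinv, one_pow, mul_one]
    · intro x y hx hy
      show θ (ψ (x + y)) = ι (x + y)
      rw [map_add, map_add, map_add, hx, hy]
    · intro x y hx hy
      show θ (ψ (x * y)) = ι (x * y)
      rw [map_mul, map_mul, map_mul, hx, hy]
  intro x y hxy
  apply hι
  rw [← key, ← key, hxy]

theorem psi_injective {A' K : Type*} [CommRing A'] [CommRing K] [Algebra B A'] [Algebra A' K]
    [Algebra B K] [IsScalarTower B A' K] [IsLocalization.Away (algebraMap B A' f) K]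
    (hf₂ : algebraMap B (A2 B u f g N' a) f ∈ nonZeroDivisors (A2 B u f g N' a))
    (hg : 1 ≤ g) (α' b : ℕ) (hab : a * α' = 1 + b * N')
    (r : A') (inv : K) (hinv : algebraMap B K f * inv = 1)
    (θ₀ : A' →+* A2 B u f g N' a)
    (hθB : ∀ x : B, θ₀ (algebraMap B A' x) = algebraMap B (A2 B u f g N' a) x)
    (hθr : θ₀ r = W2 B u f g N' a ^ α' * Sinv2 B u f g N' a ^ b)
    (ψ : A2 B u f g N' a →ₐ[B] K)
    (hψS : ψ (S2 B u f g N' a) = algebraMap A' K r ^ N' * inv ^ α')
    (hψW : ψ (W2 B u f g N' a) = algebraMap A' K r ^ a * inv ^ b) :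
    Function.Injective ψ :=
  psi_injective_aux B u f g N' a
    (algebraMap (A2 B u f g N' a) (Localization.Away (algebraMap B (A2 B u f g N' a) f)))
    (IsLocalization.injective _ (Submonoid.powers_le.mpr hf₂))
    (IsLocalization.Away.algebraMap_isUnit _) hg α' b hab r inv hinv θ₀ hθB hθr ψ hψS hψW

theorem A2_regular [IsRegularRing B] (hf : f ∈ nonZeroDivisors B)
    (hD : ∀ (P : Ideal (B ⧸ Ideal.span ({f} : Set B))) [P.IsPrime],
      IsRegularLocalRing (Localization.AtPrime P))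
    (hg : 1 ≤ g) (hgB : IsUnit ((g : ℕ) : B)) (hN' : 1 ≤ N') (hN'B : IsUnit ((N' : ℕ) : B)) :
    IsRegularRing (A2 B u f g N' a) := by
  haveI : Algebra.Etale B (C1 B u g) :=
    Groth.Agent.S14457.etale_of B (u : B) g hg (Or.inr (hgB.mul u.isUnit))
  haveI : IsNoetherianRing (C1 B u g) := inferInstance
  haveI : IsRegularRing (C1 B u g) := isRegularRing_iff.mpr fun q _ =>
    Groth.Agent.S1535.isRegularLocalRing_atPrime_of_smooth B (C1 B u g) q
  have hSg : AdjoinRoot.root (X ^ g - C (u : B) : B[X]) ^ g = algebraMap B (C1 B u g) u := by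
    rw [KummerRegular.root_pow_eq, AdjoinRoot.algebraMap_eq]
  have hS := mul_inv_of_pow u (AdjoinRoot.root (X ^ g - C (u : B) : B[X])) g hg hSg
  haveI : Module.Free B (C1 B u g) :=
    (monic_X_pow_sub_C (u : B) (by omega)).free_adjoinRoot
  have hfC : algebraMap B (C1 B u g) f ∈ nonZeroDivisors (C1 B u g) := by
    have h2 : IsSMulRegular (C1 B u g) f := Module.Flat.isSMulRegular_of_nonZeroDivisors hf
    rw [mem_nonZeroDivisors_iff_left]
    intro x hx
    apply h2
    show f • x = f • 0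
    rw [smul_zero, Algebra.smul_def]; exact hx
  have hSnzd : AdjoinRoot.root (X ^ g - C (u : B) : B[X]) ∈ nonZeroDivisors (C1 B u g) :=
    (IsUnit.of_mul_eq_one _ hS).mem_nonZeroDivisors
  have hc : cEl B u f g a ∈ nonZeroDivisors (C1 B u g) := by
    unfold cEl
    exact mul_mem (pow_mem hSnzd a) hfC
  have hN'C : IsUnit ((N' : ℕ) : C1 B u g) := by
    have := hN'B.map (algebraMap B (C1 B u g)); rwa [map_natCast] at this
  have hspan : Ideal.span {cEl B u f g a} =
      (Ideal.span ({f} : Set B)).map (AdjoinRoot.of (X ^ g - C (u : B) : B[X])) := by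
    rw [Ideal.map_span, Set.image_singleton]
    apply le_antisymm
    · rw [Ideal.span_singleton_le_iff_mem, Ideal.mem_span_singleton']
      exact ⟨AdjoinRoot.root (X ^ g - C (u : B) : B[X]) ^ a, by
        unfold cEl; rw [AdjoinRoot.algebraMap_eq]⟩
    · rw [Ideal.span_singleton_le_iff_mem, Ideal.mem_span_singleton']
      refine ⟨(AdjoinRoot.root (X ^ g - C (u : B) : B[X]) ^ (g - 1) *
        algebraMap B (C1 B u g) ((u⁻¹ : Bˣ) : B)) ^ a, ?_⟩
      unfold cEl
      show _ = algebraMap B (C1 B u g) f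
      rw [← mul_assoc, ← mul_pow, mul_comm _ (AdjoinRoot.root _), hS, one_pow, one_mul]
  have hmap : (X ^ g - C (u : B) : B[X]).map (Ideal.Quotient.mk (Ideal.span ({f} : Set B))) =
      X ^ g - C (Ideal.Quotient.mk (Ideal.span ({f} : Set B)) (u : B)) := by
    rw [Polynomial.map_sub, Polynomial.map_pow, Polynomial.map_X, Polynomial.map_C]
  haveI : IsRegularRing (B ⧸ Ideal.span ({f} : Set B)) := isRegularRing_iff.mpr hD
  have hu' : IsUnit (((g : ℕ) : B ⧸ Ideal.span ({f} : Set B)) *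
      Ideal.Quotient.mk (Ideal.span ({f} : Set B)) (u : B)) := by
    refine IsUnit.mul ?_ (u.isUnit.map _)
    have := hgB.map (Ideal.Quotient.mk (Ideal.span ({f} : Set B))); rwa [map_natCast] at this
  haveI : Algebra.Etale (B ⧸ Ideal.span ({f} : Set B))
      (AdjoinRoot (X ^ g - C (Ideal.Quotient.mk (Ideal.span ({f} : Set B)) (u : B)))) :=
    Groth.Agent.S14457.etale_of _ _ g hg (Or.inr hu')
  have hD' : IsRegularRing
      (AdjoinRoot (X ^ g - C (Ideal.Quotient.mk (Ideal.span ({f} : Set B)) (u : B)))) :=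
    isRegularRing_iff.mpr fun q _ =>
      Groth.Agent.S1535.isRegularLocalRing_atPrime_of_smooth (B ⧸ Ideal.span ({f} : Set B)) _ q
  have hq : IsRegularRing (C1 B u g ⧸ Ideal.span {cEl B u f g a}) := by
    have e₂ := AdjoinRoot.quotAdjoinRootEquivQuotPolynomialQuot (Ideal.span ({f} : Set B))
      (X ^ g - C (u : B) : B[X])
    rw [hmap] at e₂
    have e₁ : (C1 B u g ⧸ Ideal.span {cEl B u f g a}) ≃+*
        (C1 B u g ⧸ (Ideal.span ({f} : Set B)).map
          (AdjoinRoot.of (X ^ g - C (u : B) : B[X]))) :=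
      Ideal.quotEquivOfEq hspan
    haveI : IsRegularRing ((B ⧸ Ideal.span ({f} : Set B))[X] ⧸
        Ideal.span {(X ^ g - C (Ideal.Quotient.mk (Ideal.span ({f} : Set B)) (u : B)) :
          (B ⧸ Ideal.span ({f} : Set B))[X])}) := hD'
    exact IsRegularRing.of_ringEquiv (R := ((B ⧸ Ideal.span ({f} : Set B))[X] ⧸
        Ideal.span {(X ^ g - C (Ideal.Quotient.mk (Ideal.span ({f} : Set B)) (u : B)) :
          (B ⧸ Ideal.span ({f} : Set B))[X])})) (e₁.trans e₂).symm
  exact KummerRegular.kummer_regular (C1 B u g) (cEl B u f g a) hc N' hN' hN'C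
    (fun Q _ => IsRegularRing.isRegularLocalRing_localization Q)

end Tower

section Assembly

/-- Final assembly: a finite regular `B`-algebra `A₂` embedded in `K = A'[1/f']` with image `A`,
receiving `A'` compatibly, gives that `A` is finite, the integral closure of `A'` in `K`, and
regular. -/
theorem assembly {B : Type u} [CommRing B] {A' K : Type u} [CommRing A'] [CommRing K]
    [Algebra B A'] [Algebra A' K] [Algebra B K] [IsScalarTower B A' K] (f' : A')
    [IsLocalization.Away f' K]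
    (A₂ : Type u) [CommRing A₂] [Algebra B A₂] [Module.Finite B A₂] [IsRegularRing A₂]
    (ψ : A₂ →ₐ[B] K) (hψ : Function.Injective ψ) (θ₀ : A' →+* A₂)
    (hθ : ∀ x, ψ (θ₀ x) = algebraMap A' K x)
    (A : Subalgebra B K) (hA : ψ.range = A) :
    Module.Finite B A ∧ IsIntegralClosure A A' K ∧
      ∀ (Q : Ideal A) [Q.IsPrime], IsRegularLocalRing (Localization.AtPrime Q) := by
  subst hA
  have e : A₂ ≃ₐ[B] ψ.range := AlgEquiv.ofInjective ψ hψ
  haveI hfin : Module.Finite B ψ.range := Module.Finite.equiv e.toLinearEquiv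
  refine ⟨hfin, ?_, ?_⟩
  · refine ⟨Subtype.val_injective, ?_⟩
    intro x
    constructor
    · intro hx
      letI : Algebra A₂ K := ψ.toRingHom.toAlgebra
      have halg : ∀ y : A₂, algebraMap A₂ K y = ψ y := fun y => rfl
      have hunit : IsUnit (algebraMap A' K f') := IsLocalization.Away.algebraMap_isUnit f'
      have hloc : IsLocalization.Away (θ₀ f') K := by
        apply IsLocalization.Away.mk
        · rw [halg, hθ]; exact hunit
        · intro s
          obtain ⟨n, a, hna⟩ := IsLocalization.Away.surj f' s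
          refine ⟨n, θ₀ a, ?_⟩
          rw [halg, halg, hθ, hθ]; exact hna
        · intro a b hab
          refine ⟨0, ?_⟩
          rw [pow_zero, one_mul, one_mul]
          exact hψ hab
      have hnzd : Submonoid.powers (θ₀ f') ≤ nonZeroDivisors A₂ := by
        rw [Submonoid.powers_le, mem_nonZeroDivisors_iff_left]
        intro y hy
        apply hψ
        rw [map_zero]
        have h1 : ψ (θ₀ f') * ψ y = 0 := by rw [← map_mul, hy, map_zero]
        rw [hθ] at h1
        exact (hunit.mul_right_eq_zero).mp h1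
      have hint : IsIntegral A₂ x := by
        obtain ⟨p, hp, hpx⟩ := hx
        refine ⟨p.map θ₀, hp.map _, ?_⟩
        rw [Polynomial.eval₂_map]
        have hcomp : (algebraMap A₂ K).comp θ₀ = algebraMap A' K := RingHom.ext hθ
        rw [hcomp]; exact hpx
      have hnorm : EGA4.IsNormalRing A₂ :=
        Groth.Agent.Lib.Helper73.RegularNormal.isNormalRing_of_forall_isRegularLocalRing A₂
          (fun p _ => IsRegularRing.isRegularLocalRing_localization p)
      obtain ⟨y, hy⟩ := Groth.Agent.Lib.Helper13.mem_range_of_isIntegral_of_isNormalRing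
        (K := K) (Submonoid.powers (θ₀ f')) hnzd hnorm x hint
      exact ⟨⟨x, (AlgHom.mem_range ψ).mpr ⟨y, hy⟩⟩, rfl⟩
    · rintro ⟨y, rfl⟩
      have h1 : IsIntegral B y := (Algebra.IsIntegral.of_finite B ψ.range).isIntegral y
      have h2 : IsIntegral B (ψ.range.val y) := h1.map ψ.range.val
      exact h2.tower_top
  · haveI : IsRegularRing ψ.range := IsRegularRing.of_ringEquiv e.toRingEquiv
    intro Q _
    exact IsRegularRing.isRegularLocalRing_localization Q

end Assembly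

section Main

variable (B : Type u) [CommRing B] (N : ℕ) (u : Bˣ) (α : ℕ) (f₁ : B)

/-- The algebra `A' = B[t]/(t^N - u f₁^α)`. -/
abbrev Aprime : Type u := AdjoinRoot (X ^ N - C ((u : B) * f₁ ^ α) : B[X])

/-- The algebra `K = A'[1/f₁]`. -/
abbrev KK : Type u := Localization.Away (algebraMap B (Aprime B N u α f₁) f₁)

/-- The class of `t` in `K`. -/
noncomputable abbrev tK : KK B N u α f₁ :=
  algebraMap (Aprime B N u α f₁) (KK B N u α f₁) (AdjoinRoot.root _)

/-- The inverse of `f₁` in `K`. -/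
noncomputable abbrev invK : KK B N u α f₁ :=
  IsLocalization.Away.invSelf (S := KK B N u α f₁) (algebraMap B (Aprime B N u α f₁) f₁)

theorem fK_mul_invK : algebraMap B (KK B N u α f₁) f₁ * invK B N u α f₁ = 1 := by
  rw [IsScalarTower.algebraMap_apply B (Aprime B N u α f₁) (KK B N u α f₁)]
  exact IsLocalization.Away.mul_invSelf _

theorem tK_pow : tK B N u α f₁ ^ N =
    algebraMap B (KK B N u α f₁) u * algebraMap B (KK B N u α f₁) f₁ ^ α := by
  rw [← map_pow, KummerRegular.root_pow_eq, ← AdjoinRoot.algebraMap_eq,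
    ← IsScalarTower.algebraMap_apply, map_mul, map_pow]

/-- `t^e f₁^{-⌊eα/N⌋}` lies in the subalgebra generated by the first `N` of them. -/
theorem pow_mul_inv_mem (hN : 0 < N) (A : Subalgebra B (KK B N u α f₁))
    (hA : ∀ i < N, tK B N u α f₁ ^ i * invK B N u α f₁ ^ (i * α / N) ∈ A) (e : ℕ) :
    tK B N u α f₁ ^ e * invK B N u α f₁ ^ (e * α / N) ∈ A := by
  rw [pow_mul_inv_eq N α hN _ _ _ _ (fK_mul_invK B N u α f₁) (tK_pow B N u α f₁) e]
  exact A.mul_mem (A.pow_mem (A.algebraMap_mem _) _) (hA _ (Nat.mod_lt _ hN))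

/-- The case `α > 0`. -/
theorem cyclicCover_pos [IsRegularRing B] (hN : 0 < N) (hNB : IsUnit ((N : ℕ) : B))
    (hα : 0 < α) (hf₁ : f₁ ∈ nonZeroDivisors B)
    (hD : ∀ (P : Ideal (B ⧸ Ideal.span ({f₁} : Set B))) [P.IsPrime],
      IsRegularLocalRing (Localization.AtPrime P))
    (A : Subalgebra B (KK B N u α f₁))
    (hA : A = Algebra.adjoin B (Set.range fun i : Fin N =>
      tK B N u α f₁ ^ (i : ℕ) * invK B N u α f₁ ^ ((i : ℕ) * α / N))) :
    Module.Finite B A ∧ IsIntegralClosure A (Aprime B N u α f₁) (KK B N u α f₁) ∧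
      ∀ (Q : Ideal A) [Q.IsPrime], IsRegularLocalRing (Localization.AtPrime Q) := by
  obtain ⟨g, N', α', a, b, hg, hN', hNg, hαg, hab⟩ := arith N α hN hα
  have hgB : IsUnit ((g : ℕ) : B) := by
    have h : ((N : ℕ) : B) = (g : B) * (N' : B) := by rw [hNg, Nat.cast_mul]
    rw [h] at hNB; exact isUnit_of_mul_isUnit_left hNB
  have hN'B : IsUnit ((N' : ℕ) : B) := by
    have h : ((N : ℕ) : B) = (g : B) * (N' : B) := by rw [hNg, Nat.cast_mul]
    rw [h] at hNB; exact isUnit_of_mul_isUnit_right hNB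
  have hgen : ∀ i < N, tK B N u α f₁ ^ i * invK B N u α f₁ ^ (i * α / N) ∈ A := by
    intro i hi
    rw [hA]
    exact Algebra.subset_adjoin ⟨⟨i, hi⟩, rfl⟩
  have hmem := pow_mul_inv_mem B N u α f₁ hN A hgen
  have hinv := fK_mul_invK B N u α f₁
  have ht := tK_pow B N u α f₁
  have ht' : tK B N u α f₁ ^ (g * N') = algebraMap B (KK B N u α f₁) u *
      algebraMap B (KK B N u α f₁) f₁ ^ (g * α') := by
    rw [← hNg, ← hαg]; exact ht
  -- the elements s and w
  have hsg := s_pow (tK B N u α f₁) (invK B N u α f₁) _ _ g N' α' hinv ht'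
  have hwN := w_pow (tK B N u α f₁) (invK B N u α f₁) _ N' α' a b hinv hab
  obtain ⟨ψ, hψS, hψW⟩ := exists_psi B u f₁ g N' a
    (tK B N u α f₁ ^ N' * invK B N u α f₁ ^ α') (tK B N u α f₁ ^ a * invK B N u α f₁ ^ b)
    hsg hwN
  have hss := mul_inv_of_pow u (tK B N u α f₁ ^ N' * invK B N u α f₁ ^ α') g hg hsg
  have hψSinv : ψ (Sinv2 B u f₁ g N' a) =
      (tK B N u α f₁ ^ N' * invK B N u α f₁ ^ α') ^ (g - 1) *
        algebraMap B (KK B N u α f₁) ((u⁻¹ : Bˣ) : B) := by
    unfold Sinv2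
    rw [map_mul, map_pow, hψS, AlgHom.commutes]
  have hteq := t_eq (tK B N u α f₁) (invK B N u α f₁) _ _ N' α' a b rfl hss hab
  obtain ⟨θ₀, hθB, hθr⟩ := exists_theta0 B u f₁ g N' a N α α' b hg hNg hαg hab
  have hcomp : (ψ : A2 B u f₁ g N' a →+* KK B N u α f₁).comp θ₀ =
      algebraMap (Aprime B N u α f₁) (KK B N u α f₁) := by
    apply AdjoinRoot.ringHom_ext
    · ext x
      show ψ (θ₀ (AdjoinRoot.of _ x)) = algebraMap (Aprime B N u α f₁) (KK B N u α f₁)
        (AdjoinRoot.of _ x)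
      rw [hθB, AlgHom.commutes, ← AdjoinRoot.algebraMap_eq, ← IsScalarTower.algebraMap_apply]
    · show ψ (θ₀ (AdjoinRoot.root _)) = tK B N u α f₁
      rw [hθr, map_mul, map_pow, map_pow, hψW, hψSinv]
      exact hteq
  have hθ : ∀ x, ψ (θ₀ x) = algebraMap (Aprime B N u α f₁) (KK B N u α f₁) x :=
    fun x => RingHom.congr_fun hcomp x
  have hf₂ := f2_mem_nonZeroDivisors B u f₁ g N' a hg hN' hf₁
  have hψinj : Function.Injective ψ :=
    psi_injective B u f₁ g N' a hf₂ hg α' b hab (AdjoinRoot.root _) (invK B N u α f₁) hinv θ₀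
      (fun x => by rw [AdjoinRoot.algebraMap_eq]; exact hθB x) hθr ψ hψS hψW
  -- the range
  have hdiv : ∀ i : ℕ, i * α / N = i * α' / N' := by
    intro i
    rw [hNg, hαg, show i * (g * α') = g * (i * α') by ring]
    exact Nat.mul_div_mul_left _ _ hg
  have hsA : tK B N u α f₁ ^ N' * invK B N u α f₁ ^ α' ∈ A := by
    have h1 := hmem N'
    have h2 : N' * α / N = α' := by
      rw [hNg, hαg, show N' * (g * α') = g * N' * α' by ring]
      exact Nat.mul_div_cancel_left α' (Nat.mul_pos hg hN')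
    rwa [h2] at h1
  have hwA : tK B N u α f₁ ^ a * invK B N u α f₁ ^ b ∈ A := by
    have h1 := hmem a
    rw [hdiv a, hab] at h1
    by_cases hN1 : N' = 1
    · rw [hN1, Nat.div_one, mul_one] at h1
      have h2 : tK B N u α f₁ ^ a * invK B N u α f₁ ^ b =
          algebraMap B (KK B N u α f₁) f₁ *
            (tK B N u α f₁ ^ a * invK B N u α f₁ ^ (1 + b)) := by
        calc tK B N u α f₁ ^ a * invK B N u α f₁ ^ b
            = tK B N u α f₁ ^ a * invK B N u α f₁ ^ b * 1 := (mul_one _).symm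
          _ = tK B N u α f₁ ^ a * invK B N u α f₁ ^ b *
              (algebraMap B (KK B N u α f₁) f₁ * invK B N u α f₁) := by rw [hinv]
          _ = _ := by ring
      rw [h2]
      exact A.mul_mem (A.algebraMap_mem _) h1
    · have h2 : (1 + b * N') / N' = b := by
        rw [Nat.add_mul_div_right _ _ (by omega : 0 < N'), Nat.div_eq_of_lt (by omega), zero_add]
      rwa [h2] at h1
  have hrange : ψ.range = A := by
    apply le_antisymm
    · exact psi_range_le B u f₁ g N' a A ψ (hψS ▸ hsA) (hψW ▸ hwA)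
    · rw [hA]
      apply Algebra.adjoin_le
      rintro _ ⟨i, rfl⟩
      rw [SetLike.mem_coe, AlgHom.mem_range]
      refine ⟨S2 B u f₁ g N' a ^ (a * ((i : ℕ) * α' / N')) * Sinv2 B u f₁ g N' a ^ (b * (i : ℕ)) *
        W2 B u f₁ g N' a ^ ((i : ℕ) * α' % N'), ?_⟩
      show ψ _ = tK B N u α f₁ ^ (i : ℕ) * invK B N u α f₁ ^ ((i : ℕ) * α / N)
      rw [map_mul ψ, map_mul ψ, map_pow ψ, map_pow ψ, map_pow ψ, hψS, hψSinv, hψW, hdiv]
      exact (gen_eq (tK B N u α f₁) (invK B N u α f₁) _ _ _ _ N' α' a b hinv hwN hteq i).symm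
  haveI := A2_finite B u f₁ g N' a hg hN'
  haveI := A2_regular B u f₁ g N' a hf₁ hD hg hgB hN' hN'B
  exact assembly (algebraMap B (Aprime B N u α f₁) f₁) (A2 B u f₁ g N' a) ψ hψinj θ₀ hθ A hrange

/-- The case `α = 0`. -/
theorem cyclicCover_zero [IsRegularRing B] (hN : 0 < N) (hNB : IsUnit ((N : ℕ) : B))
    (hf₁ : f₁ ∈ nonZeroDivisors B)
    (A : Subalgebra B (KK B N u 0 f₁))
    (hA : A = Algebra.adjoin B (Set.range fun i : Fin N =>
      tK B N u 0 f₁ ^ (i : ℕ) * invK B N u 0 f₁ ^ ((i : ℕ) * 0 / N))) :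
    Module.Finite B A ∧ IsIntegralClosure A (Aprime B N u 0 f₁) (KK B N u 0 f₁) ∧
      ∀ (Q : Ideal A) [Q.IsPrime], IsRegularLocalRing (Localization.AtPrime Q) := by
  have hmonic : (X ^ N - C ((u : B) * f₁ ^ 0) : B[X]).Monic := monic_X_pow_sub_C _ (by omega)
  haveI : Algebra.Etale B (Aprime B N u 0 f₁) :=
    Groth.Agent.S14457.etale_of B ((u : B) * f₁ ^ 0) N hN
      (Or.inr (hNB.mul (by rw [pow_zero, mul_one]; exact u.isUnit)))
  haveI : IsNoetherianRing (Aprime B N u 0 f₁) := inferInstance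
  haveI : IsRegularRing (Aprime B N u 0 f₁) := isRegularRing_iff.mpr fun q _ =>
    Groth.Agent.S1535.isRegularLocalRing_atPrime_of_smooth B (Aprime B N u 0 f₁) q
  haveI : Module.Finite B (Aprime B N u 0 f₁) := hmonic.finite_adjoinRoot
  haveI : Module.Free B (Aprime B N u 0 f₁) := hmonic.free_adjoinRoot
  have hf' : algebraMap B (Aprime B N u 0 f₁) f₁ ∈ nonZeroDivisors (Aprime B N u 0 f₁) := by
    have h2 : IsSMulRegular (Aprime B N u 0 f₁) f₁ :=
      Module.Flat.isSMulRegular_of_nonZeroDivisors hf₁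
    rw [mem_nonZeroDivisors_iff_left]
    intro x hx
    apply h2
    show f₁ • x = f₁ • 0
    rw [smul_zero, Algebra.smul_def]; exact hx
  have hinj : Function.Injective (IsScalarTower.toAlgHom B (Aprime B N u 0 f₁) (KK B N u 0 f₁)) :=
    IsLocalization.injective _ (Submonoid.powers_le.mpr hf')
  have hgen : ∀ i < N, tK B N u 0 f₁ ^ i * invK B N u 0 f₁ ^ (i * 0 / N) ∈ A := by
    intro i hi
    rw [hA]
    exact Algebra.subset_adjoin ⟨⟨i, hi⟩, rfl⟩
  have hmem := pow_mul_inv_mem B N u 0 f₁ hN A hgen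
  have htA : tK B N u 0 f₁ ∈ A := by
    have h1 := hmem 1
    rwa [Nat.mul_zero, Nat.zero_div, pow_zero (invK B N u 0 f₁), mul_one, pow_one] at h1
  have hrange : (IsScalarTower.toAlgHom B (Aprime B N u 0 f₁) (KK B N u 0 f₁)).range = A := by
    apply le_antisymm
    · intro x hx
      obtain ⟨y, rfl⟩ := (AlgHom.mem_range _).mp hx
      clear hx
      show algebraMap (Aprime B N u 0 f₁) (KK B N u 0 f₁) y ∈ A
      induction y using AdjoinRoot.induction_on with
      | ih p =>
        induction p using Polynomial.induction_on with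
        | C b =>
          rw [AdjoinRoot.mk_C, ← AdjoinRoot.algebraMap_eq, ← IsScalarTower.algebraMap_apply]
          exact A.algebraMap_mem b
        | add p q hp hq => rw [map_add, map_add]; exact A.add_mem hp hq
        | monomial n b h =>
          rw [pow_succ, ← mul_assoc, map_mul (AdjoinRoot.mk _), map_mul (algebraMap _ _),
            AdjoinRoot.mk_X]
          exact A.mul_mem h htA
    · rw [hA]
      apply Algebra.adjoin_le
      rintro _ ⟨i, rfl⟩
      rw [SetLike.mem_coe, AlgHom.mem_range]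
      refine ⟨AdjoinRoot.root _ ^ (i : ℕ), ?_⟩
      show algebraMap (Aprime B N u 0 f₁) (KK B N u 0 f₁) (AdjoinRoot.root _ ^ (i : ℕ)) =
        tK B N u 0 f₁ ^ (i : ℕ) * invK B N u 0 f₁ ^ ((i : ℕ) * 0 / N)
      rw [Nat.mul_zero, Nat.zero_div, pow_zero (invK B N u 0 f₁), mul_one,
        map_pow (algebraMap _ _)]
  exact assembly (algebraMap B (Aprime B N u 0 f₁) f₁) (Aprime B N u 0 f₁)
    (IsScalarTower.toAlgHom B (Aprime B N u 0 f₁) (KK B N u 0 f₁)) hinj (RingHom.id _)
    (fun x => rfl) A hrange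

end Main

end Groth.Agent.Lib.Helper99.CyclicCover
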