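import Groth.Prelude.Def_GrLC
import Groth.Prelude.Def_GrSeg
import Groth.Agent.Lib.Helper99.GrMod2

/-!
# Graded duals, general piece types; `R^*` is *injective (helper99)
-/

set_option autoImplicit false
universe u

namespace Groth.Agent.Lib.Helper99

open DirectSum

section Dual

variable {k : Type u} [Field k] {R : Type u} [CommRing R] [Algebra k R]
  {M : Type u} [AddCommGroup M] [Module R M] [Module k M] [IsScalarTower k R M]
  {τ : Type u} [SetLike τ M] [AddSubgroupClass τ M]
  {ℳ : ℤ → τ} [DirectSum.Decomposition ℳ]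
  {D : Type u} [AddCommGroup D] [Module R D] [Module k D] [IsScalarTower k R D]
  {τ' : Type u} [SetLike τ' D] [AddSubgroupClass τ' D]
  {𝒟 : ℤ → τ'} [DirectSum.Decomposition 𝒟]
  {β : D →ₗ[k] M →ₗ[k] k}

/-- pairing with a homogeneous `d ∈ D_n` only sees the component of degree `-n` (general piece types) -/
theorem gdual_pair_proj' (hD : GrSeg.IsGDual R ℳ 𝒟 β) {n : ℤ} {d : D} (hd : d ∈ 𝒟 n) (y : M) :
    β d y = β d ((decompose ℳ y) (-n) : M) := by
  induction y using DirectSum.Decomposition.inductionOn ℳ with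
  | zero => simp
  | @homogeneous i y =>
    by_cases h : i = -n
    · subst h
      rw [decompose_of_mem_same ℳ y.2]
    · rw [decompose_of_mem_ne ℳ y.2 h, map_zero]
      exact hD.vanish n d hd i h y y.2
  | add y y' hy hy' =>
    rw [map_add, hy, hy', decompose_add, DirectSum.add_apply, AddMemClass.coe_add, map_add]

/-- pairing with a homogeneous `y ∈ M_n` only sees the component of degree `-n` (general piece types) -/
theorem gdual_pair_proj_left' (hD : GrSeg.IsGDual R ℳ 𝒟 β) {n : ℤ} {y : M} (hy : y ∈ ℳ n) (d : D) :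
    β d y = β ((decompose 𝒟 d) (-n) : D) y := by
  induction d using DirectSum.Decomposition.inductionOn 𝒟 with
  | zero => simp
  | @homogeneous i d =>
    by_cases h : i = -n
    · subst h
      rw [decompose_of_mem_same 𝒟 d.2]
    · rw [decompose_of_mem_ne 𝒟 d.2 h, map_zero, LinearMap.zero_apply]
      exact hD.vanish i d d.2 n (fun h' => h (by omega)) y hy
  | add d d' hd hd' =>
    rw [map_add, LinearMap.add_apply, hd, hd', decompose_add, DirectSum.add_apply, AddMemClass.coe_add, map_add,
      LinearMap.add_apply]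

/-- an element of `D` pairing to zero with all of `M` is zero (general piece types) -/
theorem gdual_sep_left' (hD : GrSeg.IsGDual R ℳ 𝒟 β) {d : D} (h : ∀ y, β d y = 0) : d = 0 := by
  have h1 : ∀ n, ((decompose 𝒟 d) n : D) = 0 := by
    intro n
    apply hD.eq_zero n _ (SetLike.coe_mem _)
    intro x hx
    have := gdual_pair_proj_left' hD hx d
    rw [neg_neg] at this
    rw [← this]
    exact h x
  have h2 : decompose 𝒟 d = 0 := by
    ext n
    rw [h1 n]
    rfl
  exact (decompose 𝒟).injective (h2.trans (decompose_zero 𝒟).symm)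

end Dual

section Inj

variable {k : Type u} [Field k] {R : Type u} [CommRing R] [Algebra k R]
  (𝒜 : ℤ → Submodule k R) [GradedAlgebra 𝒜]
  {D : Type u} [AddCommGroup D] [Module R D] [Module k D] [IsScalarTower k R D]
  {𝒟 : ℤ → AddSubgroup D} [DirectSum.Decomposition 𝒟] [SetLike.GradedSMul 𝒜 𝒟]
  {β : D →ₗ[k] R →ₗ[k] k}

/-- degree-zero projection of a graded module, as a `k`-linear map -/
noncomputable def proj0 {B : Type u} [AddCommGroup B] [Module R B] [Module k B] [IsScalarTower k R B]
    (ℬ : ℤ → AddSubgroup B) [DirectSum.Decomposition ℬ] [SetLike.GradedSMul 𝒜 ℬ] : B →ₗ[k] B where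
  toFun b := ((decompose ℬ b) 0 : B)
  map_add' a b := by rw [decompose_add, DirectSum.add_apply, AddMemClass.coe_add]
  map_smul' c b := by
    have h0 : c • b = (algebraMap k R c) • b := (algebraMap_smul R c b).symm
    rw [h0, coe_decompose_smul_of_left_mem 𝒜 ℬ (algebraMap_mem_zero 𝒜 c) b 0, sub_zero, algebraMap_smul]
    rfl

theorem proj0_apply {B : Type u} [AddCommGroup B] [Module R B] [Module k B] [IsScalarTower k R B]
    (ℬ : ℤ → AddSubgroup B) [DirectSum.Decomposition ℬ] [SetLike.GradedSMul 𝒜 ℬ] (b : B) :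
    proj0 𝒜 ℬ b = ((decompose ℬ b) 0 : B) := rfl

/-- The graded dual of `R` is an injective object of the category of graded `R`-modules. -/
theorem gdual_self_isStarInj (hD : GrSeg.IsGDual R 𝒜 𝒟 β) : GrLC.IsStarInj 𝒜 𝒟 := by
  classical
  intro A B f hfgr hfinj g hggr
  letI : Module k A.carrier := Module.compHom _ (algebraMap k R)
  haveI : IsScalarTower k R A.carrier := IsScalarTower.of_algebraMap_smul fun _ _ => rfl
  letI : Module k B.carrier := Module.compHom _ (algebraMap k R)
  haveI : IsScalarTower k R B.carrier := IsScalarTower.of_algebraMap_smul fun _ _ => rfl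
  -- the functional on A
  let lamA : A.carrier →ₗ[k] k := (β.flip 1) ∘ₗ (g.restrictScalars k)
  have hlamA : ∀ a, lamA a = β (g a) 1 := fun a => rfl
  -- retraction of f in degree 0
  let A0 : Submodule k A.carrier := pieceK 𝒜 A.gr 0
  let f0 : A0 →ₗ[k] B.carrier := (f.restrictScalars k) ∘ₗ A0.subtype
  have hf0 : LinearMap.ker f0 = ⊥ := by
    rw [LinearMap.ker_eq_bot]
    exact hfinj.comp Subtype.val_injective
  obtain ⟨ρ, hρ⟩ := f0.exists_leftInverse_of_injective hf0
  have hρ' : ∀ a : A0, ρ (f a.1) = a := fun a => LinearMap.congr_fun hρ a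
  let lamB : B.carrier →ₗ[k] k := lamA ∘ₗ A0.subtype ∘ₗ ρ ∘ₗ proj0 𝒜 B.gr
  have hlamB : ∀ b, lamB b = lamA (ρ ((decompose B.gr b) 0 : B.carrier)).1 := fun b => rfl
  -- lamB kills pieces of nonzero degree
  have hlamB0 : ∀ (i : ℤ), i ≠ 0 → ∀ b ∈ B.gr i, lamB b = 0 := by
    intro i hi b hb
    rw [hlamB, decompose_of_mem_ne B.gr hb hi, map_zero]
    simp
  -- lamB ∘ f = lamA
  have hlamBf : ∀ a, lamB (f a) = lamA a := by
    intro a
    rw [hlamB, coe_decompose_map A.gr B.gr f hfgr a 0]
    have hmem : ((decompose A.gr a) 0 : A.carrier) ∈ A0 := SetLike.coe_mem _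
    have := hρ' ⟨_, hmem⟩
    rw [this, hlamA, hlamA, ← coe_decompose_map A.gr 𝒟 g hggr a 0]
    have h1 : (1 : R) ∈ 𝒜 0 := SetLike.GradedOne.one_mem
    have h2 := gdual_pair_proj_left' hD h1 (g a)
    rw [neg_zero] at h2
    exact h2.symm
  -- the functional r ↦ lamB (r • b)
  let ell : B.carrier → (R →ₗ[k] k) := fun b =>
    lamB ∘ₗ ((LinearMap.toSpanSingleton R B.carrier b).restrictScalars k)
  have hell : ∀ b r, ell b r = lamB (r • b) := fun b r => rfl
  -- representability, homogeneous case
  have hhom : ∀ (n : ℤ) (b : B.carrier), b ∈ B.gr n → ∃ d ∈ 𝒟 n, ∀ r, β d r = lamB (r • b) := by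
    intro n b hb
    obtain ⟨d, hd, hdr⟩ := hD.exists_eq n (ell b)
    refine ⟨d, hd, ?_⟩
    intro r
    induction r using DirectSum.Decomposition.inductionOn 𝒜 with
    | zero => simp
    | @homogeneous j r =>
      by_cases hj : j = -n
      · subst hj
        rw [hdr r.1 r.2, hell]
      · rw [hD.vanish n d hd j hj r.1 r.2]
        have hmem : (r : R) • b ∈ B.gr (j + n) := SetLike.GradedSMul.smul_mem (A := 𝒜) (B := B.gr) r.2 hb
        exact (hlamB0 (j + n) (fun h => hj (by omega)) _ hmem).symm
    | add r r' hr hr' => rw [map_add, hr, hr', add_smul, map_add]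
  have hex : ∀ b : B.carrier, ∃ d : D, ∀ r, β d r = lamB (r • b) := by
    intro b
    induction b using DirectSum.Decomposition.inductionOn B.gr with
    | zero => exact ⟨0, fun r => by simp⟩
    | @homogeneous i b =>
      obtain ⟨d, _, hd⟩ := hhom i b.1 b.2
      exact ⟨d, hd⟩
    | add b b' hb hb' =>
      obtain ⟨d, hd⟩ := hb
      obtain ⟨d', hd'⟩ := hb'
      exact ⟨d + d', fun r => by rw [map_add, LinearMap.add_apply, hd, hd', smul_add, map_add]⟩
  choose h0 hh0 using hex
  have huniq : ∀ (b : B.carrier) (d : D), (∀ r, β d r = lamB (r • b)) → d = h0 b := by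
    intro b d hd
    rw [← sub_eq_zero]
    apply gdual_sep_left' hD
    intro r
    rw [map_sub, LinearMap.sub_apply, hd, hh0, sub_self]
  let h : B.carrier →ₗ[R] D :=
    { toFun := h0
      map_add' := fun b b' => by
        symm
        apply huniq
        intro r
        rw [map_add, LinearMap.add_apply, hh0, hh0, smul_add, map_add]
      map_smul' := fun s b => by
        symm
        apply huniq
        intro r
        simp only [RingHom.id_apply]
        rw [hD.map_smul, hh0, smul_eq_mul, mul_comm, mul_smul] }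
  refine ⟨h, ?_, ?_⟩
  · intro n b hb
    obtain ⟨d, hdn, hd⟩ := hhom n b hb
    have : d = h0 b := huniq b d hd
    change h0 b ∈ 𝒟 n
    rw [← this]
    exact hdn
  · ext a
    change h0 (f a) = g a
    symm
    apply huniq
    intro r
    rw [← map_smul, hlamBf, hlamA, map_smul, hD.map_smul, smul_eq_mul, mul_one]

end Inj

end Groth.Agent.Lib.Helper99
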