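import Groth.Prelude.Def_GrSeg
import Groth.Agent.Lib.Helper99.GrArt
import Groth.Agent.Lib.Helper99.GrDual3

/-!
# The graded dual of `R` is Artinian; graded maps into it from functionals (helper99)
-/

set_option autoImplicit false
universe u

namespace Groth.Agent.Lib.Helper99

open DirectSum

section AsSub

variable {M : Type*} [AddCommGroup M] {τ : Type*} [SetLike τ M] [AddSubgroupClass τ M]
  (ℳ : ℤ → τ) [DirectSum.Decomposition ℳ]

/-- the same grading with pieces viewed as additive subgroups -/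
@[reducible] def asSubgroups : ℤ → AddSubgroup M := fun n => AddSubgroup.ofClass (ℳ n)

/-- the decomposition of the same grading with pieces viewed as additive subgroups -/
@[reducible] noncomputable def decompositionAsSubgroups : DirectSum.Decomposition (asSubgroups ℳ) where
  decompose' x := DirectSum.decompose ℳ x
  left_inv x := (DirectSum.decompose ℳ).left_inv x
  right_inv y := (DirectSum.decompose ℳ).right_inv y

end AsSub

section SelfDual

variable {k : Type u} [Field k] {R : Type u} [CommRing R] [Algebra k R]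
  (𝒜 : ℤ → Submodule k R) [GradedAlgebra 𝒜]
  {D : Type u} [AddCommGroup D] [Module R D] [Module k D] [IsScalarTower k R D]
  {𝒟 : ℤ → AddSubgroup D} [DirectSum.Decomposition 𝒟] [SetLike.GradedSMul 𝒜 𝒟]
  {β : D →ₗ[k] R →ₗ[k] k}

/-- The graded dual of a nonnegatively graded algebra of finite type over `k = R_0` is an Artinian module. -/
theorem isArtinian_gdual_self (hpos : ∀ n : ℤ, n < 0 → 𝒜 n = ⊥) (h0 : 𝒜 0 = Submodule.span k {(1 : R)})
    [Algebra.FiniteType k R] (hD : GrSeg.IsGDual R 𝒜 𝒟 β) : IsArtinian R D := by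
  letI : DirectSum.Decomposition (asSubgroups 𝒜) := decompositionAsSubgroups 𝒜
  haveI : SetLike.GradedSMul 𝒜 (asSubgroups 𝒜) :=
    ⟨fun {i j ai bj} hi hj => SetLike.GradedMul.mul_mem (A := 𝒜) hi hj⟩
  have hD' : GrSeg.IsGDual R (asSubgroups 𝒜) 𝒟 β :=
    ⟨hD.map_smul, hD.vanish, hD.eq_zero, hD.exists_eq⟩
  haveI : IsNoetherianRing R := Algebra.FiniteType.isNoetherianRing k R
  have hfin : ∀ n, Module.Finite k (pieceK 𝒜 (asSubgroups 𝒜) n) :=
    fun n => finite_pieceK 𝒜 (asSubgroups 𝒜) hpos h0 n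
  refine isArtinian_gdual_of_isNoetherian 𝒜 hD' hfin 0 ?_
  intro n hn d hd
  apply hD.eq_zero n d hd
  intro x hx
  rw [hpos (-n) (by omega)] at hx
  rw [(Submodule.mem_bot k).mp hx, map_zero]

/-- A functional on a graded module `B` supported in degree `g₀` gives a graded map `B → R^*` of degree `-g₀`. -/
theorem exists_hom_of_functional (hD : GrSeg.IsGDual R 𝒜 𝒟 β)
    {B : Type u} [AddCommGroup B] [Module R B] [Module k B] [IsScalarTower k R B]
    (ℬ : ℤ → AddSubgroup B) [DirectSum.Decomposition ℬ] [SetLike.GradedSMul 𝒜 ℬ]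
    (lam : B →ₗ[k] k) (g₀ : ℤ) (hlam : ∀ j, j ≠ g₀ → ∀ b ∈ ℬ j, lam b = 0) :
    ∃ h : B →ₗ[R] D, (∀ b r, β (h b) r = lam (r • b)) ∧ ∀ n b, b ∈ ℬ n → h b ∈ 𝒟 (n - g₀) := by
  classical
  let ell : B → (R →ₗ[k] k) := fun b =>
    lam ∘ₗ ((LinearMap.toSpanSingleton R B b).restrictScalars k)
  have hell : ∀ b r, ell b r = lam (r • b) := fun b r => rfl
  have hhom : ∀ (n : ℤ) (b : B), b ∈ ℬ n → ∃ d ∈ 𝒟 (n - g₀), ∀ r, β d r = lam (r • b) := by
    intro n b hb
    obtain ⟨d, hd, hdr⟩ := hD.exists_eq (n - g₀) (ell b)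
    refine ⟨d, hd, ?_⟩
    intro r
    induction r using DirectSum.Decomposition.inductionOn 𝒜 with
    | zero => simp
    | @homogeneous j r =>
      by_cases hj : j = -(n - g₀)
      · subst hj
        rw [hdr r.1 r.2, hell]
      · rw [hD.vanish (n - g₀) d hd j hj r.1 r.2]
        have hmem : (r : R) • b ∈ ℬ (j + n) := SetLike.GradedSMul.smul_mem (A := 𝒜) (B := ℬ) r.2 hb
        exact (hlam (j + n) (fun h => hj (by omega)) _ hmem).symm
    | add r r' hr hr' => rw [map_add, hr, hr', add_smul, map_add]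
  have hex : ∀ b : B, ∃ d : D, ∀ r, β d r = lam (r • b) := by
    intro b
    induction b using DirectSum.Decomposition.inductionOn ℬ with
    | zero => exact ⟨0, fun r => by simp⟩
    | @homogeneous i b =>
      obtain ⟨d, _, hd⟩ := hhom i b.1 b.2
      exact ⟨d, hd⟩
    | add b b' hb hb' =>
      obtain ⟨d, hd⟩ := hb
      obtain ⟨d', hd'⟩ := hb'
      exact ⟨d + d', fun r => by rw [map_add, LinearMap.add_apply, hd, hd', smul_add, map_add]⟩
  choose h0 hh0 using hex
  have huniq : ∀ (b : B) (d : D), (∀ r, β d r = lam (r • b)) → d = h0 b := by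
    intro b d hd
    rw [← sub_eq_zero]
    apply gdual_sep_left' hD
    intro r
    rw [map_sub, LinearMap.sub_apply, hd, hh0, sub_self]
  let h : B →ₗ[R] D :=
    { toFun := h0
      map_add' := fun b b' => by
        symm
        apply huniq
        intro r
        rw [map_add, LinearMap.add_apply, hh0, hh0, smul_add, map_add]
      map_smul' := fun s b => by
        symm
        apply huniq
        intro r
        simp only [RingHom.id_apply]
        rw [hD.map_smul, hh0, smul_eq_mul, mul_comm, mul_smul] }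
  refine ⟨h, hh0, ?_⟩
  intro n b hb
  obtain ⟨d, hdn, hd⟩ := hhom n b hb
  have : d = h0 b := huniq b d hd
  change h0 b ∈ 𝒟 (n - g₀)
  rw [← this]
  exact hdn

end SelfDual

section Embed

variable {k : Type u} [Field k] {R : Type u} [CommRing R] [Algebra k R]
  (𝒜 : ℤ → Submodule k R) [GradedAlgebra 𝒜]
  {M : Type u} [AddCommGroup M] [Module R M] [Module k M] [IsScalarTower k R M]
  (ℳ : ℤ → AddSubgroup M) [DirectSum.Decomposition ℳ] [SetLike.GradedSMul 𝒜 ℳ]

/-- the degree-`g` projection of a graded module onto its piece, as a `k`-linear map -/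
noncomputable def projV (g : ℤ) : M →ₗ[k] pieceK 𝒜 ℳ g where
  toFun b := ⟨((decompose ℳ b) g : M), SetLike.coe_mem _⟩
  map_add' a b := by
    apply Subtype.ext
    simp only [decompose_add, DirectSum.add_apply, AddMemClass.coe_add]
  map_smul' c b := by
    apply Subtype.ext
    have h0 : c • b = (algebraMap k R c) • b := (algebraMap_smul R c b).symm
    simp only [RingHom.id_apply, Submodule.coe_smul]
    rw [h0, coe_decompose_smul_of_left_mem 𝒜 ℳ (algebraMap_mem_zero 𝒜 c) b g, sub_zero, algebraMap_smul]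

theorem projV_coe (g : ℤ) (b : M) : ((projV 𝒜 ℳ g b : pieceK 𝒜 ℳ g) : M) = ((decompose ℳ b) g : M) := rfl

/-- elements all of whose multiples live in degrees `< a` -/
def lowKer (a : ℤ) : Submodule R M where
  carrier := {x | ∀ r : R, ∀ g, a ≤ g → ((decompose ℳ (r • x)) g : M) = 0}
  add_mem' := by
    intro x y hx hy r g hg
    rw [smul_add, decompose_add, DirectSum.add_apply, AddMemClass.coe_add, hx r g hg, hy r g hg, add_zero]
  zero_mem' := by
    intro r g _
    rw [smul_zero, decompose_zero]; rfl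
  smul_mem' := by
    intro r' x hx r g hg
    rw [← mul_smul]
    exact hx _ g hg

theorem exists_lowKer_eq_bot [IsArtinian R M] : ∃ a : ℤ, lowKer (R := R) ℳ a = (⊥ : Submodule R M) := by
  classical
  let f : ℕ →o (Submodule R M)ᵒᵈ :=
    ⟨fun m => OrderDual.toDual (lowKer (R := R) ℳ (-(m : ℤ))), by
      intro a b hab
      change lowKer (R := R) ℳ (-(b : ℤ)) ≤ lowKer (R := R) ℳ (-(a : ℤ))
      intro x hx r g hg
      have hab' : (a : ℤ) ≤ b := by exact_mod_cast hab
      exact hx r g (by omega)⟩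
  obtain ⟨n₀, hn₀⟩ := IsArtinian.monotone_stabilizes f
  refine ⟨-(n₀ : ℤ), ?_⟩
  rw [eq_bot_iff]
  intro x hx
  rw [Submodule.mem_bot]
  have h0 : ∀ j, ((decompose ℳ x) j : M) = 0 := by
    intro j
    -- choose m ≥ n₀ with -m ≤ j
    let m : ℕ := max n₀ (-j).toNat
    have e1 : lowKer (R := R) ℳ (-(n₀ : ℤ)) = lowKer (R := R) ℳ (-(m : ℤ)) :=
      congrArg OrderDual.ofDual (hn₀ m (le_max_left _ _))
    have hx' : x ∈ lowKer (R := R) ℳ (-(m : ℤ)) := by rw [← e1]; exact hx
    have hmj : -(m : ℤ) ≤ j := by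
      have : (-j).toNat ≤ m := le_max_right _ _
      have h2 : -j ≤ ((-j).toNat : ℤ) := Int.self_le_toNat _
      have h3 : ((-j).toNat : ℤ) ≤ (m : ℤ) := by exact_mod_cast this
      omega
    have := hx' 1 j hmj
    rwa [one_smul] at this
  have h2 : decompose ℳ x = 0 := by
    ext n
    rw [h0 n]; rfl
  exact (decompose ℳ).injective (h2.trans (decompose_zero ℳ).symm)

variable {D : Type u} [AddCommGroup D] [Module R D] [Module k D] [IsScalarTower k R D]
  {𝒟 : ℤ → AddSubgroup D} [DirectSum.Decomposition 𝒟] [SetLike.GradedSMul 𝒜 𝒟]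
  {β : D →ₗ[k] R →ₗ[k] k}

/-- an Artinian graded module embeds, by a map with graded-shifted components, in a finite power of `R^*` -/
theorem exists_embedding_of_isArtinian (hpos : ∀ n : ℤ, n < 0 → 𝒜 n = ⊥)
    (h0 : 𝒜 0 = Submodule.span k {(1 : R)}) (hD : GrSeg.IsGDual R 𝒜 𝒟 β) [IsArtinian R M] :
    ∃ (t : ℕ) (sh : Fin t → ℤ) (f : M →ₗ[R] (Fin t → D)), Function.Injective f ∧
      ∀ (i : Fin t) (g : ℤ) (x : M), x ∈ ℳ g → f x i ∈ 𝒟 (g + sh i) := by
  classical
  obtain ⟨c, hc⟩ := exists_piece_eq_zero_of_gt 𝒜 ℳ hpos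
  obtain ⟨a, ha⟩ := exists_lowKer_eq_bot (R := R) ℳ
  haveI hfin : ∀ g, Module.Finite k (pieceK 𝒜 ℳ g) := fun g => finite_pieceK_of_isArtinian 𝒜 ℳ h0 g
  let bas : ∀ g : ℤ, Module.Basis (Fin (Module.finrank k (pieceK 𝒜 ℳ g))) k (pieceK 𝒜 ℳ g) :=
    fun g => Module.finBasis k (pieceK 𝒜 ℳ g)
  let lamf : ∀ g : ℤ, Fin (Module.finrank k (pieceK 𝒜 ℳ g)) → (M →ₗ[k] k) :=
    fun g j => (bas g).coord j ∘ₗ projV 𝒜 ℳ g
  have hsupp : ∀ (g : ℤ) (j : Fin (Module.finrank k (pieceK 𝒜 ℳ g))) (j' : ℤ), j' ≠ g →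
      ∀ b ∈ ℳ j', lamf g j b = 0 := by
    intro g j j' hj' b hb
    have : projV 𝒜 ℳ g b = 0 := by
      apply Subtype.ext
      rw [projV_coe, decompose_of_mem_ne ℳ hb hj']
      rfl
    simp only [lamf, LinearMap.comp_apply, this, map_zero]
  let I := Σ g : ↥(Finset.Icc a c), Fin (Module.finrank k (pieceK 𝒜 ℳ g.1))
  let t := Fintype.card I
  let e : I ≃ Fin t := Fintype.equivFin I
  choose hmap hβ hgr using fun i : I =>
    exists_hom_of_functional 𝒜 hD ℳ (lamf i.1.1 i.2) i.1.1 (hsupp i.1.1 i.2)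
  refine ⟨t, fun i' => -(e.symm i').1.1, LinearMap.pi (fun i' => hmap (e.symm i')), ?_, ?_⟩
  · rw [← LinearMap.ker_eq_bot, LinearMap.ker_eq_bot']
    intro x hx
    have hx0 : ∀ i : I, hmap i x = 0 := by
      intro i
      have := congrFun hx (e i)
      simpa using this
    have hxK : x ∈ lowKer (R := R) ℳ a := by
      intro r g hg
      by_cases hgc : c < g
      · exact hc g hgc _ (SetLike.coe_mem _)
      · have hgI : g ∈ Finset.Icc a c := Finset.mem_Icc.mpr ⟨hg, by omega⟩
        have hcoord : ∀ j, (bas g).coord j (projV 𝒜 ℳ g (r • x)) = 0 := by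
          intro j
          have h1 := hβ ⟨⟨g, hgI⟩, j⟩ x r
          rw [hx0, map_zero, LinearMap.zero_apply] at h1
          exact h1.symm
        have hz : projV 𝒜 ℳ g (r • x) = 0 := (Module.Basis.forall_coord_eq_zero_iff (bas g)).mp hcoord
        have := congrArg Subtype.val hz
        rw [projV_coe] at this
        exact this
    rw [ha] at hxK
    exact (Submodule.mem_bot R).mp hxK
  · intro i' g x hx
    have := hgr (e.symm i') g x hx
    rw [sub_eq_add_neg] at this
    exact this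

end Embed

end Groth.Agent.Lib.Helper99
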