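import Groth.Prelude.Def_GrLC
import Groth.Agent.Lib.Helper99.GrDual
import Groth.Agent.Lib.Helper99.GrMod2

/-!
# Graded duals: the dual map (helper99)
-/

set_option autoImplicit false
universe u

namespace Groth.Agent.Lib.Helper99

open DirectSum

section Dual

variable {k : Type u} [Field k] {R : Type u} [CommRing R] [Algebra k R]
  {M : Type u} [AddCommGroup M] [Module R M] [Module k M] [IsScalarTower k R M]
  {ℳ : ℤ → AddSubgroup M} [DirectSum.Decomposition ℳ]
  {D : Type u} [AddCommGroup D] [Module R D] [Module k D] [IsScalarTower k R D]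
  {𝒟 : ℤ → AddSubgroup D} [DirectSum.Decomposition 𝒟]
  {β : D →ₗ[k] M →ₗ[k] k}

/-- an element of `D` pairing to zero with all of `M` is zero -/
theorem gdual_sep_left (hD : GrSeg.IsGDual R ℳ 𝒟 β) {d : D} (h : ∀ y, β d y = 0) : d = 0 := by
  have h1 : ∀ n, ((decompose 𝒟 d) n : D) = 0 := by
    intro n
    apply hD.eq_zero n _ (SetLike.coe_mem _)
    intro x hx
    have := gdual_pair_proj_left hD hx d
    rw [neg_neg] at this
    rw [← this]
    exact h x
  have h2 : decompose 𝒟 d = 0 := by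
    ext n
    rw [h1 n]
    rfl
  exact (decompose 𝒟).injective (h2.trans (decompose_zero 𝒟).symm)

variable {F : Type u} [AddCommGroup F] [Module R F] [Module k F] [IsScalarTower k R F]
  {ℱ : ℤ → AddSubgroup F} [DirectSum.Decomposition ℱ]
  {E : Type u} [AddCommGroup E] [Module R E] [Module k E] [IsScalarTower k R E]
  {𝓔 : ℤ → AddSubgroup E} [DirectSum.Decomposition 𝓔]
  {βF : E →ₗ[k] F →ₗ[k] k}

/-- the dual of a surjective map is injective -/
theorem gdualMap_injective (hD : GrSeg.IsGDual R ℳ 𝒟 β) {f : F →ₗ[R] M} {g : D →ₗ[R] E}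
    (hg : GrSeg.IsGDualMap β βF f g) (hf : Function.Surjective f) : Function.Injective g := by
  rw [← LinearMap.ker_eq_bot, LinearMap.ker_eq_bot']
  intro d hd
  apply gdual_sep_left hD
  intro y
  obtain ⟨x, rfl⟩ := hf y
  rw [← hg d x, hd, map_zero, LinearMap.zero_apply]

/-- the dual of a graded map is graded -/
theorem gdualMap_isGrHom (hE : GrSeg.IsGDual R ℱ 𝓔 βF) (hD : GrSeg.IsGDual R ℳ 𝒟 β)
    {f : F →ₗ[R] M} {g : D →ₗ[R] E}
    (hg : GrSeg.IsGDualMap β βF f g) (hf : GrLC.IsGrHom ℱ ℳ f) : GrLC.IsGrHom 𝒟 𝓔 g := by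
  intro n d hd
  have h1 : ∀ m, m ≠ n → ((decompose 𝓔 (g d)) m : E) = 0 := by
    intro m hm
    apply hE.eq_zero m _ (SetLike.coe_mem _)
    intro x hx
    have := gdual_pair_proj_left hE hx (g d)
    rw [neg_neg] at this
    rw [← this, hg d x]
    exact hD.vanish n d hd (-m) (fun h' => hm (by omega)) (f x) (hf (-m) x hx)
  have h2 : g d = ((decompose 𝓔 (g d)) n : E) := by
    classical
    nth_rewrite 1 [← DirectSum.sum_support_decompose 𝓔 (g d)]
    refine Finset.sum_eq_single n (fun m _ hm => h1 m hm) (fun hn => ?_)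
    rw [DFinsupp.mem_support_iff, not_not] at hn
    rw [hn]; rfl
  rw [h2]
  exact SetLike.coe_mem _

end Dual

end Groth.Agent.Lib.Helper99
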