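import Groth.Prelude.Def_GrSeg
import Groth.Agent.Lib.Helper99.GrArt2

/-!
# Segre products: the action of `R ⊗ S` on `M ⊗ N` as a module structure; finiteness (helper99)
-/

set_option autoImplicit false
universe u

namespace Groth.Agent.Lib.Helper99

open DirectSum
open scoped TensorProduct

section Act

variable {k : Type u} [CommRing k] {R S : Type u} [CommRing R] [CommRing S] [Algebra k R] [Algebra k S]
  {M N : Type u} [AddCommGroup M] [Module R M] [Module k M] [IsScalarTower k R M]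
  [AddCommGroup N] [Module S N] [Module k N] [IsScalarTower k S N]

theorem act_one (z : M ⊗[k] N) : GrSeg.act k R S M N 1 z = z := by
  rw [Algebra.TensorProduct.one_def]
  induction z using TensorProduct.induction_on with
  | zero => simp
  | tmul x y => rw [GrSeg.act_tmul, one_smul, one_smul]
  | add z z' hz hz' => rw [map_add, hz, hz']

theorem act_mul (u v : R ⊗[k] S) (z : M ⊗[k] N) :
    GrSeg.act k R S M N (u * v) z = GrSeg.act k R S M N u (GrSeg.act k R S M N v z) := by
  induction u using TensorProduct.induction_on with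
  | zero => simp
  | tmul a b =>
    induction v using TensorProduct.induction_on with
    | zero => simp
    | tmul r s =>
      induction z using TensorProduct.induction_on with
      | zero => simp
      | tmul x y =>
        rw [Algebra.TensorProduct.tmul_mul_tmul, GrSeg.act_tmul, GrSeg.act_tmul, GrSeg.act_tmul, mul_smul, mul_smul]
      | add z z' hz hz' => simp only [map_add, hz, hz']
    | add v v' hv hv' => simp only [mul_add, map_add, LinearMap.add_apply, hv, hv']
  | add u u' hu hu' => simp only [add_mul, map_add, LinearMap.add_apply, hu, hu']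

/-- the module structure of `R ⊗ S` on `M ⊗ N` given by `GrSeg.act` -/
@[reducible] noncomputable def segreModule : Module (R ⊗[k] S) (M ⊗[k] N) where
  smul u z := GrSeg.act k R S M N u z
  one_smul := act_one
  mul_smul := act_mul
  smul_zero u := map_zero _
  smul_add u := map_add _
  add_smul u v z := by
    change GrSeg.act k R S M N (u + v) z = _
    rw [map_add, LinearMap.add_apply]
    rfl
  zero_smul z := by
    change GrSeg.act k R S M N 0 z = 0
    rw [map_zero, LinearMap.zero_apply]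

end Act

section Fin

variable {k : Type u} [Field k] {R S T : Type u} [CommRing R] [CommRing S] [CommRing T]
  [Algebra k R] [Algebra k S] [Algebra k T]
  (𝒜 : ℤ → Submodule k R) [GradedAlgebra 𝒜] (ℬ : ℤ → Submodule k S) [GradedAlgebra ℬ]
  (𝒯 : ℤ → Submodule k T) [GradedAlgebra 𝒯]
  {M N P : Type u} [AddCommGroup M] [Module R M] [Module k M] [IsScalarTower k R M]
  [AddCommGroup N] [Module S N] [Module k N] [IsScalarTower k S N]
  [AddCommGroup P] [Module T P] [Module k P] [IsScalarTower k T P]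
  (ℳ : ℤ → AddSubgroup M) [DirectSum.Decomposition ℳ] [SetLike.GradedSMul 𝒜 ℳ]
  (𝒩 : ℤ → AddSubgroup N) [DirectSum.Decomposition 𝒩] [SetLike.GradedSMul ℬ 𝒩]
  (𝒬 : ℤ → AddSubgroup P) [DirectSum.Decomposition 𝒬]

/-- the degree-`n` projection `M → M` as a `k`-linear map -/
noncomputable def prK (n : ℤ) : M →ₗ[k] M := (pieceK 𝒜 ℳ n).subtype ∘ₗ projV 𝒜 ℳ n

theorem prK_apply (n : ℤ) (x : M) : prK 𝒜 ℳ n x = ((decompose ℳ x) n : M) := rfl

/-- the diagonal projection of `R ⊗ S` onto `R_j ⊗ S_j` -/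
noncomputable def diagR (j : ℤ) : R ⊗[k] S →ₗ[k] R ⊗[k] S :=
  TensorProduct.map (GradedAlgebra.proj 𝒜 j) (GradedAlgebra.proj ℬ j)

theorem diagR_mem (j : ℤ) (c : R ⊗[k] S) : diagR 𝒜 ℬ j c ∈ GrSeg.segrePiece k 𝒜 ℬ j := by
  induction c using TensorProduct.induction_on with
  | zero => rw [map_zero]; exact Submodule.zero_mem _
  | tmul r s =>
    refine Submodule.subset_span ⟨_, ?_, _, ?_, rfl⟩
    · rw [GradedAlgebra.proj_apply]; exact SetLike.coe_mem _
    · rw [GradedAlgebra.proj_apply]; exact SetLike.coe_mem _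
  | add c c' hc hc' => rw [map_add]; exact Submodule.add_mem _ hc hc'

/-- the diagonal projection of `M ⊗ N` onto `M_n ⊗ N_n` -/
noncomputable def diagM (n : ℤ) : M ⊗[k] N →ₗ[k] M ⊗[k] N :=
  TensorProduct.map (prK 𝒜 ℳ n) (prK ℬ 𝒩 n)

theorem diagM_act (n m : ℤ) (c : R ⊗[k] S) {a : M} (ha : a ∈ ℳ m) {b : N} (hb : b ∈ 𝒩 m) :
    diagM 𝒜 ℬ ℳ 𝒩 n (GrSeg.act k R S M N c (a ⊗ₜ[k] b)) =
      GrSeg.act k R S M N (diagR 𝒜 ℬ (n - m) c) (a ⊗ₜ[k] b) := by
  induction c using TensorProduct.induction_on with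
  | zero => simp
  | tmul r s =>
    rw [GrSeg.act_tmul]
    simp only [diagM, diagR, TensorProduct.map_tmul]
    rw [GrSeg.act_tmul, prK_apply, prK_apply, coe_decompose_smul_of_mem 𝒜 ℳ r ha n,
      coe_decompose_smul_of_mem ℬ 𝒩 s hb n, GradedAlgebra.proj_apply, GradedAlgebra.proj_apply]
  | add c c' hc hc' => simp only [map_add, LinearMap.add_apply, hc, hc']

/-- The Segre product of finitely generated graded modules is finitely generated over the Segre product ring. -/
theorem segre_finite [Algebra.FiniteType k R] [Algebra.FiniteType k S] (ψ : T →ₐ[k] R ⊗[k] S)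
    (hT : GrSeg.IsSegreRing 𝒜 ℬ 𝒯 ψ) [Module.Finite R M] [Module.Finite S N]
    (φ : P →ₗ[k] M ⊗[k] N) (hP : GrSeg.IsSegreMod ψ ℳ 𝒩 𝒬 φ) : Module.Finite T P := by
  classical
  letI : Module (R ⊗[k] S) (M ⊗[k] N) := segreModule
  have hsmul : ∀ (u : R ⊗[k] S) (z : M ⊗[k] N), u • z = GrSeg.act k R S M N u z := fun _ _ => rfl
  haveI : IsNoetherianRing R := Algebra.FiniteType.isNoetherianRing k R
  haveI : IsNoetherianRing (R ⊗[k] S) := Algebra.FiniteType.isNoetherianRing R (R ⊗[k] S)
  -- M ⊗ N is finite over R ⊗ S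
  haveI : Module.Finite (R ⊗[k] S) (M ⊗[k] N) := by
    obtain ⟨sM, hsM⟩ := (Module.Finite.fg_top : (⊤ : Submodule R M).FG)
    obtain ⟨sN, hsN⟩ := (Module.Finite.fg_top : (⊤ : Submodule S N).FG)
    let G : Submodule (R ⊗[k] S) (M ⊗[k] N) :=
      Submodule.span (R ⊗[k] S) (((sM ×ˢ sN).image (fun p => p.1 ⊗ₜ[k] p.2) : Finset (M ⊗[k] N)) : Set (M ⊗[k] N))
    have h1 : ∀ x ∈ sM, ∀ y : N, x ⊗ₜ[k] y ∈ G := by
      intro x hx y
      have hy : y ∈ Submodule.span S (sN : Set N) := by rw [hsN]; exact Submodule.mem_top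
      induction hy using Submodule.span_induction with
      | mem y hy =>
        apply Submodule.subset_span
        rw [Finset.coe_image]
        exact ⟨(x, y), by simp [hx, hy], rfl⟩
      | zero => rw [TensorProduct.tmul_zero]; exact G.zero_mem
      | add y y' _ _ hy hy' => rw [TensorProduct.tmul_add]; exact G.add_mem hy hy'
      | smul s y _ hy =>
        have : x ⊗ₜ[k] (s • y) = ((1 : R) ⊗ₜ[k] s) • (x ⊗ₜ[k] y) := by
          rw [hsmul, GrSeg.act_tmul, one_smul]
        rw [this]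
        exact G.smul_mem _ hy
    have h2 : ∀ (x : M) (y : N), x ⊗ₜ[k] y ∈ G := by
      intro x y
      have hx : x ∈ Submodule.span R (sM : Set M) := by rw [hsM]; exact Submodule.mem_top
      induction hx using Submodule.span_induction with
      | mem x hx => exact h1 x hx y
      | zero => rw [TensorProduct.zero_tmul]; exact G.zero_mem
      | add x x' _ _ hx hx' => rw [TensorProduct.add_tmul]; exact G.add_mem hx hx'
      | smul r x _ hx =>
        have : (r • x) ⊗ₜ[k] y = (r ⊗ₜ[k] (1 : S)) • (x ⊗ₜ[k] y) := by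
          rw [hsmul, GrSeg.act_tmul, one_smul]
        rw [this]
        exact G.smul_mem _ hx
    have hall : ∀ z : M ⊗[k] N, z ∈ G := by
      intro z
      induction z using TensorProduct.induction_on with
      | zero => exact G.zero_mem
      | tmul x y => exact h2 x y
      | add z z' hz hz' => exact G.add_mem hz hz'
    exact ⟨⟨_, (eq_top_iff.mpr (fun z _ => hall z) : G = ⊤)⟩⟩
  haveI : IsNoetherian (R ⊗[k] S) (M ⊗[k] N) := isNoetherian_of_isNoetherianRing_of_finite _ _
  -- the generating set of bihomogeneous pure tensors of equal degrees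
  let S₀ : Set (M ⊗[k] N) := {z | ∃ n : ℤ, ∃ a ∈ ℳ n, ∃ b ∈ 𝒩 n, z = a ⊗ₜ[k] b}
  obtain ⟨u, hus, hu⟩ := (Submodule.fg_span_iff_fg_span_finset_subset S₀).mp
    (IsNoetherian.noetherian (Submodule.span (R ⊗[k] S) S₀))
  have hdat : ∀ x : ↥u, ∃ (n : ℤ) (a : M) (b : N), a ∈ ℳ n ∧ b ∈ 𝒩 n ∧ x.1 = a ⊗ₜ[k] b := by
    intro x
    obtain ⟨n, a, ha, b, hb, hx⟩ := hus x.2
    exact ⟨n, a, b, ha, hb, hx⟩
  choose deg a b ha hb hab using hdat
  have hq : ∀ x : ↥u, ∃ q : P, φ q = x.1 := by
    intro x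
    have h1 : x.1 ∈ (GrSeg.segrePiece k ℳ 𝒩 (deg x) : Set (M ⊗[k] N)) := by
      rw [hab x]
      exact Submodule.subset_span ⟨a x, ha x, b x, hb x, rfl⟩
    rw [← hP.image_piece (deg x)] at h1
    obtain ⟨q, _, hq⟩ := h1
    exact ⟨q, hq⟩
  choose q hq using hq
  let G : Submodule T P := Submodule.span T (Set.range q)
  -- every element of S₀ is the image of an element of G
  have hS₀ : ∀ y ∈ S₀, ∃ p ∈ G, φ p = y := by
    rintro y ⟨n, a', ha', b', hb', rfl⟩
    have hy : a' ⊗ₜ[k] b' ∈ Submodule.span (R ⊗[k] S) (u : Set (M ⊗[k] N)) := by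
      rw [← hu]
      exact Submodule.subset_span ⟨n, a', ha', b', hb', rfl⟩
    obtain ⟨c, hc⟩ := Submodule.mem_span_finset'.mp hy
    have hπ : diagM 𝒜 ℬ ℳ 𝒩 n (a' ⊗ₜ[k] b') = a' ⊗ₜ[k] b' := by
      simp only [diagM, TensorProduct.map_tmul, prK_apply]
      rw [decompose_of_mem_same ℳ ha', decompose_of_mem_same 𝒩 hb']
    have ht : ∀ x : ↥u, ∃ t : T, ψ t = diagR 𝒜 ℬ (n - deg x) (c x) := by
      intro x
      have := diagR_mem 𝒜 ℬ (n - deg x) (c x)
      rw [← hT.2 (n - deg x)] at this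
      obtain ⟨t, _, ht⟩ := this
      exact ⟨t, ht⟩
    choose t ht using ht
    refine ⟨∑ x : ↥u, t x • q x, ?_, ?_⟩
    · exact Submodule.sum_mem _ fun x _ => Submodule.smul_mem _ _ (Submodule.subset_span ⟨x, rfl⟩)
    · rw [map_sum, ← hπ, ← hc, map_sum]
      refine Finset.sum_congr rfl fun x _ => ?_
      rw [hP.map_smul, hq, ht, hsmul]
      conv_rhs => rw [hab x]
      rw [diagM_act 𝒜 ℬ ℳ 𝒩 n (deg x) (c x) (ha x) (hb x), ← hab x]
  -- hence G = ⊤
  have hpiece : ∀ (n : ℤ), ∀ v ∈ GrSeg.segrePiece k ℳ 𝒩 n, ∃ p ∈ G, φ p = v := by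
    intro n v hv
    induction hv using Submodule.span_induction with
    | mem v hv =>
      obtain ⟨a', ha', b', hb', rfl⟩ := hv
      exact hS₀ _ ⟨n, a', ha', b', hb', rfl⟩
    | zero => exact ⟨0, G.zero_mem, map_zero φ⟩
    | add v v' _ _ hv hv' =>
      obtain ⟨p, hp, hpv⟩ := hv
      obtain ⟨p', hp', hpv'⟩ := hv'
      exact ⟨p + p', G.add_mem hp hp', by rw [map_add, hpv, hpv']⟩
    | smul c v _ hv =>
      obtain ⟨p, hp, hpv⟩ := hv
      refine ⟨c • p, ?_, by rw [map_smul, hpv]⟩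
      rw [← algebraMap_smul T c p]
      exact G.smul_mem _ hp
  have hGall : ∀ p : P, p ∈ G := by
    intro p
    induction p using DirectSum.Decomposition.inductionOn 𝒬 with
    | zero => exact G.zero_mem
    | @homogeneous n p =>
      have h1 : φ p ∈ (GrSeg.segrePiece k ℳ 𝒩 n : Set (M ⊗[k] N)) := by
        rw [← hP.image_piece n]
        exact ⟨p.1, p.2, rfl⟩
      obtain ⟨p', hp', hpp'⟩ := hpiece n _ h1
      have : (p : P) = p' := hP.injective hpp'.symm
      rw [this]
      exact hp'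
    | add p p' hp hp' => exact G.add_mem hp hp'
  have hG : G = ⊤ := eq_top_iff.mpr (fun p _ => hGall p)
  exact ⟨hG ▸ Submodule.fg_span (Set.finite_range q)⟩

end Fin

end Groth.Agent.Lib.Helper99
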