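import Groth.Agent.Lib.Helper99.GrMod2

/-!
# Standard graded rings: `R_{i+j} = R_i R_j` (helper99)
-/

set_option autoImplicit false
universe u

namespace Groth.Agent.Lib.Helper99

open DirectSum

section Std

variable {R : Type*} [CommRing R] {σ : Type*} [SetLike σ R] [AddSubgroupClass σ R]
  (𝒜 : ℤ → σ) [GradedRing 𝒜]

/-- in a ring whose irrelevant ideal is generated in degree one, `R_{n+1} = R_1 R_n` -/
theorem mem_closure_mul_one (hstd : Ideal.span (⋃ n ∈ Set.Ioi (0 : ℤ), (𝒜 n : Set R)) = Ideal.span ((𝒜 1 : σ) : Set R))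
    {n : ℤ} (hn : 0 ≤ n) {x : R} (hx : x ∈ 𝒜 (n + 1)) :
    x ∈ AddSubgroup.closure {z : R | ∃ a ∈ 𝒜 1, ∃ b ∈ 𝒜 n, z = a * b} := by
  classical
  have hx1 : x ∈ Ideal.span ((𝒜 1 : σ) : Set R) := by
    rw [← hstd]
    apply Ideal.subset_span
    simp only [Set.mem_iUnion, Set.mem_Ioi, SetLike.mem_coe]
    exact ⟨n + 1, by omega, hx⟩
  obtain ⟨f, t, hts, -, hft⟩ := Submodule.mem_span_iff_exists_finset_subset.mp hx1
  have hxt : x ∈ Submodule.span R (t : Set R) := by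
    rw [← hft]
    exact Submodule.sum_mem _ fun a ha => Submodule.smul_mem _ _ (Submodule.subset_span ha)
  obtain ⟨c, hc, rfl⟩ := exists_homogeneous_coeff 𝒜 𝒜 t (fun _ => 1) (fun m hm => hts hm) hxt hx
  refine AddSubgroup.sum_mem _ fun m hm => ?_
  apply AddSubgroup.subset_closure
  refine ⟨m, hts hm, c m, ?_, ?_⟩
  · have := hc m hm
    rwa [add_sub_cancel_right] at this
  · rw [smul_eq_mul, mul_comm]

/-- in a ring whose irrelevant ideal is generated in degree one, `R_{i+j} = R_i R_j` for `i, j ≥ 0` -/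
theorem mem_closure_mul (hstd : Ideal.span (⋃ n ∈ Set.Ioi (0 : ℤ), (𝒜 n : Set R)) = Ideal.span ((𝒜 1 : σ) : Set R))
    (i : ℕ) {j : ℤ} (hj : 0 ≤ j) {x : R} (hx : x ∈ 𝒜 ((i : ℤ) + j)) :
    x ∈ AddSubgroup.closure {z : R | ∃ a ∈ 𝒜 (i : ℤ), ∃ b ∈ 𝒜 j, z = a * b} := by
  induction i generalizing x with
  | zero =>
    apply AddSubgroup.subset_closure
    refine ⟨1, ?_, x, ?_, (one_mul x).symm⟩
    · exact SetLike.GradedOne.one_mem (A := 𝒜)
    · simpa using hx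
  | succ i ih =>
    have hx' : x ∈ 𝒜 (((i : ℤ) + j) + 1) := by
      have : ((i + 1 : ℕ) : ℤ) + j = ((i : ℤ) + j) + 1 := by push_cast; ring
      rwa [this] at hx
    have h1 := mem_closure_mul_one 𝒜 hstd (by omega : (0 : ℤ) ≤ (i : ℤ) + j) hx'
    refine (AddSubgroup.closure_le _).mpr ?_ h1
    rintro z ⟨a₁, ha₁, y, hy, rfl⟩
    have h2 := ih hy
    have hle : AddSubgroup.closure {z : R | ∃ a ∈ 𝒜 (i : ℤ), ∃ b ∈ 𝒜 j, z = a * b} ≤
        (AddSubgroup.closure {z : R | ∃ a ∈ 𝒜 ((i + 1 : ℕ) : ℤ), ∃ b ∈ 𝒜 j, z = a * b}).comap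
          (AddMonoidHom.mulLeft a₁) := by
      refine (AddSubgroup.closure_le _).mpr ?_
      rintro w ⟨a, ha, b, hb, rfl⟩
      apply AddSubgroup.subset_closure
      refine ⟨a₁ * a, ?_, b, hb, (mul_assoc _ _ _).symm⟩
      have := SetLike.GradedMul.mul_mem ha₁ ha
      have e : (1 : ℤ) + (i : ℤ) = ((i + 1 : ℕ) : ℤ) := by push_cast; ring
      rwa [e] at this
    exact hle h2

end Std

end Groth.Agent.Lib.Helper99
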