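import Mathlib

/-!
# `H¹` of the cotangent complex and finite separable residue field extensions (helper99)

Let `R → K'` be a surjection onto a field and `k/K'` a finite separable field extension.
Then `k ⊗_{K'} H¹(L_{K'/R}) → H¹(L_{k/R})` is bijective.
-/

set_option autoImplicit false
universe u

namespace Groth.Agent.Lib.Helper99.H1Sep

open Polynomial TensorProduct

section Setup

variable {R K' k : Type u} [CommRing R] [Field K'] [Field k]
  [Algebra R K'] [Algebra R k] [Algebra K' k] [IsScalarTower R K' k]

/-- the data of a standard étale neighbourhood -/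
theorem exists_pair (hsurj : Function.Surjective (algebraMap R K'))
    [FiniteDimensional K' k] [Algebra.IsSeparable K' k] :
    ∃ (P : StandardEtalePair R) (θ : k) (hθ : P.HasMap θ),
      Function.Surjective (P.lift θ hθ) ∧
      RingHom.ker (P.lift θ hθ) = Ideal.map (algebraMap R P.Ring) (RingHom.ker (algebraMap R K')) := by
  classical
  let pb := Field.powerBasisOfFiniteOfSeparable K' k
  set θ : k := pb.gen with hθdef
  set g : K'[X] := minpoly K' θ with hg
  have hgmonic : g.Monic := minpoly.monic (Algebra.IsSeparable.isIntegral K' θ)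
  have hglift : g ∈ Polynomial.lifts (algebraMap R K') := by
    rw [Polynomial.mem_lifts]
    exact Polynomial.map_surjective _ hsurj g
  obtain ⟨G, hGmap, -, hGmonic⟩ := Polynomial.lifts_and_natDegree_eq_and_monic hglift hgmonic
  let P : StandardEtalePair R :=
    { f := G, monic_f := hGmonic, g := derivative G, cond := ⟨1, 0, 1, by simp⟩ }
  have haevalG : ∀ (F : R[X]) {A : Type u} [CommRing A] [Algebra R A] [Algebra K' A]
      [IsScalarTower R K' A] (a : A), aeval a F = aeval a (F.map (algebraMap R K')) := by
    intro F A _ _ _ _ a
    rw [Polynomial.aeval_map_algebraMap]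
  have hmap : P.HasMap θ := by
    refine ⟨?_, ?_⟩
    · change aeval θ G = 0
      rw [haevalG, hGmap, hg, minpoly.aeval]
    · change IsUnit (aeval θ (derivative G))
      rw [haevalG, ← Polynomial.derivative_map, hGmap, isUnit_iff_ne_zero]
      exact (Algebra.IsSeparable.isSeparable K' θ).aeval_derivative_ne_zero (minpoly.aeval K' θ)
  refine ⟨P, θ, hmap, ?_, ?_⟩
  · intro y
    obtain ⟨f, rfl⟩ := pb.exists_eq_aeval' y
    obtain ⟨F, rfl⟩ := Polynomial.map_surjective _ hsurj f
    refine ⟨aeval P.X F, ?_⟩
    rw [← Polynomial.aeval_algHom_apply, P.lift_X, ← haevalG]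
  · set π := P.lift θ hmap with hπ
    set m : Ideal R := RingHom.ker (algebraMap R K') with hm
    set I : Ideal P.Ring := Ideal.map (algebraMap R P.Ring) m with hI
    apply le_antisymm
    · -- `ker π ≤ I`
      let q : P.Ring →ₐ[R] P.Ring ⧸ I := Ideal.Quotient.mkₐ R I
      have hle : RingHom.ker (algebraMap R K') ≤ RingHom.ker (algebraMap R (P.Ring ⧸ I)) := by
        intro r hr
        rw [RingHom.mem_ker, IsScalarTower.algebraMap_apply R P.Ring (P.Ring ⧸ I)]
        exact Ideal.Quotient.eq_zero_iff_mem.mpr (Ideal.mem_map_of_mem _ hr)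
      let φ₀ : K' →+* P.Ring ⧸ I :=
        (algebraMap R K').liftOfSurjective hsurj ⟨algebraMap R (P.Ring ⧸ I), hle⟩
      have hφ₀ : ∀ r, φ₀ (algebraMap R K' r) = algebraMap R (P.Ring ⧸ I) r := fun r =>
        RingHom.liftOfSurjective_comp_apply _ hsurj ⟨algebraMap R (P.Ring ⧸ I), hle⟩ r
      letI : Algebra K' (P.Ring ⧸ I) := φ₀.toAlgebra
      haveI : IsScalarTower R K' (P.Ring ⧸ I) :=
        IsScalarTower.of_algebraMap_eq (fun r => (hφ₀ r).symm)
      have hroot : aeval (q P.X) (minpoly K' pb.gen) = 0 := by
        change aeval (q P.X) g = 0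
        rw [← hGmap, ← haevalG, Polynomial.aeval_algHom_apply]
        have : aeval P.X G = 0 := P.hasMap_X.1
        rw [this, map_zero]
      let ψ : k →ₐ[K'] P.Ring ⧸ I := pb.lift (q P.X) hroot
      have hcomp : (ψ.restrictScalars R).comp π = q := by
        apply P.hom_ext
        change ψ (π P.X) = q P.X
        rw [hπ, P.lift_X]
        exact pb.lift_gen _ hroot
      intro e he
      rw [RingHom.mem_ker] at he
      have h1 : q e = 0 := by
        rw [← hcomp]
        change ψ (π e) = 0
        rw [he, map_zero]
      exact Ideal.Quotient.eq_zero_iff_mem.mp h1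
    · rw [hI, Ideal.map_le_iff_le_comap]
      intro r hr
      rw [Ideal.mem_comap, RingHom.mem_ker]
      change π (algebraMap R P.Ring r) = 0
      rw [AlgHom.commutes, IsScalarTower.algebraMap_apply R K' k, (RingHom.mem_ker).mp hr, map_zero]

end Setup

section Main

variable {R K' k : Type u} [CommRing R] [Field K'] [Field k]
  [Algebra R K'] [Algebra R k] [Algebra K' k] [IsScalarTower R K' k]

open Algebra

/-- the extension `R → K'` -/
noncomputable def P₁ (hsurj : Function.Surjective (algebraMap R K')) :
    Algebra.Extension.{u} R K' where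
  Ring := R
  σ := fun x => (hsurj x).choose
  algebraMap_σ := fun x => (hsurj x).choose_spec

set_option backward.isDefEq.respectTransparency false in
theorem bijective_liftBaseChange (hsurj : Function.Surjective (algebraMap R K'))
    [FiniteDimensional K' k] [Algebra.IsSeparable K' k] :
    Function.Bijective ((Algebra.H1Cotangent.map R R K' k).liftBaseChange k) := by
  obtain ⟨P, θ, hθ, hπsurj, hker⟩ := exists_pair (R := R) (K' := K') (k := k) hsurj
  let π : P.Ring →ₐ[R] k := P.lift θ hθ
  let P1 : Extension.{u} R K' := P₁ hsurj
  let Q1 : Extension.{u} R k := Extension.ofSurjective π hπsurj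
  let f1 : P1.Hom Q1 :=
    { toRingHom := algebraMap R P.Ring
      toRingHom_algebraMap := fun x => rfl
      algebraMap_toRingHom := fun x =>
        (π.commutes (show R from x)).trans (IsScalarTower.algebraMap_apply R K' k (show R from x)) }
  letI alg : Algebra P1.Ring Q1.Ring := (inferInstance : Algebra R P.Ring)
  have halg : algebraMap P1.Ring Q1.Ring = f1.toRingHom := rfl
  have H₁ : f1.toRingHom.FormallyEtale :=
    RingHom.formallyEtale_algebraMap.mpr (inferInstance : Algebra.FormallyEtale R P.Ring)
  have hLapp : ∀ (e : P.Ring) (a : P1.ker),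
      (((f1.mapKer halg).liftBaseChange Q1.Ring (e ⊗ₜ a)).1 : P.Ring) =
        e * algebraMap R P.Ring (a.1 : R) := by
    intro e a
    rw [LinearMap.liftBaseChange_tmul]
    rfl
  have H₂ : Function.Bijective ((f1.mapKer halg).liftBaseChange Q1.Ring) := by
    constructor
    · -- injectivity, by flatness
      have hflat : Function.Injective
          (LinearMap.lTensor P.Ring (Submodule.subtype (RingHom.ker (algebraMap R K')))) :=
        Module.Flat.lTensor_preserves_injective_linearMap _ Subtype.val_injective
      have hcomp : ∀ x : P.Ring ⊗[R] (RingHom.ker (algebraMap R K')),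
          (((f1.mapKer halg).liftBaseChange Q1.Ring x).1 : P.Ring) =
            TensorProduct.rid R P.Ring
              (LinearMap.lTensor P.Ring (Submodule.subtype (RingHom.ker (algebraMap R K'))) x) := by
        intro x
        induction x with
        | zero => simp
        | add x y hx hy =>
          rw [map_add, map_add, map_add, ← hx, ← hy]
          rfl
        | tmul e a =>
          refine (hLapp e a).trans ?_
          rw [LinearMap.lTensor_tmul, TensorProduct.rid_tmul, Submodule.subtype_apply,
            Algebra.smul_def, mul_comm]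
      intro x y hxy
      apply hflat
      apply (TensorProduct.rid R P.Ring).injective
      rw [← hcomp, ← hcomp, hxy]
    · -- surjectivity, since `ker π = m E`
      rintro ⟨y, hy⟩
      have hy' : y ∈ Ideal.map (algebraMap R P.Ring) (RingHom.ker (algebraMap R K')) := by
        rw [← hker]
        exact hy
      suffices h : ∃ x, (((f1.mapKer halg).liftBaseChange Q1.Ring x).1 : P.Ring) = y by
        obtain ⟨x, hx⟩ := h
        exact ⟨x, Subtype.ext hx⟩
      clear hy
      rw [Ideal.map] at hy'
      induction hy' using Submodule.span_induction with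
      | mem y hy =>
        obtain ⟨a, ha, rfl⟩ := hy
        refine ⟨1 ⊗ₜ ⟨a, ha⟩, ?_⟩
        rw [hLapp, one_mul]
      | zero => exact ⟨0, by simp⟩
      | add y z _ _ hy hz =>
        obtain ⟨x1, h1⟩ := hy
        obtain ⟨x2, h2⟩ := hz
        refine ⟨x1 + x2, ?_⟩
        rw [map_add, ← h1, ← h2]
        rfl
      | smul e y _ hy =>
        obtain ⟨x1, h1⟩ := hy
        let e' : Q1.Ring := e
        refine ⟨e' • x1, ?_⟩
        rw [map_smul, ← h1]
        rfl
  haveI : Module.Flat K' k := inferInstance
  let A := Extension.tensorH1CotangentOfFormallyEtale f1 halg H₁ H₂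
  have hA : ∀ x, A x = (Extension.H1Cotangent.map f1).liftBaseChange k x := fun x => rfl
  let P0 : Extension.{u} R K' := (Generators.self R K').toExtension
  let Q0 : Extension.{u} R k := (Generators.self R k).toExtension
  haveI : FormallySmooth R P1.Ring := (inferInstance : FormallySmooth R R)
  haveI : FormallySmooth R Q1.Ring := (inferInstance : FormallySmooth R P.Ring)
  haveI : FormallySmooth R P0.Ring := inferInstanceAs (FormallySmooth R (MvPolynomial _ _))
  haveI : FormallySmooth R Q0.Ring := inferInstanceAs (FormallySmooth R (MvPolynomial _ _))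
  let h : P1.Hom P0 :=
    { toRingHom := algebraMap R (MvPolynomial K' R)
      toRingHom_algebraMap := fun x => rfl
      algebraMap_toRingHom := fun x =>
        (IsScalarTower.algebraMap_apply R P0.Ring K' x).symm }
  let g : Q0.Hom Q1 :=
    { toRingHom := (MvPolynomial.aeval Q1.σ).toRingHom
      toRingHom_algebraMap := (MvPolynomial.aeval Q1.σ).commutes
      algebraMap_toRingHom := by
        have : (IsScalarTower.toAlgHom R Q1.Ring k).comp (MvPolynomial.aeval Q1.σ) =
            IsScalarTower.toAlgHom _ (Generators.self R k).toExtension.Ring _ := by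
          ext i
          change _ = algebraMap (Generators.self R k).Ring _ (.X i)
          simp
        exact DFunLike.congr_fun this }
  let f0 : P0.Hom Q0 :=
    (Generators.defaultHom (Generators.self R K') (Generators.self R k)).toExtensionHom
  let eP := Extension.H1Cotangent.equivOfFormallySmooth P1 P0
  let eQ := Extension.H1Cotangent.equivOfFormallySmooth Q0 Q1
  have key : ∀ x : P1.H1Cotangent,
      eQ (Extension.H1Cotangent.map f0 (eP x)) = Extension.H1Cotangent.map f1 x := by
    intro x
    rw [Extension.H1Cotangent.equivOfFormallySmooth_apply (f := h),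
      Extension.H1Cotangent.equivOfFormallySmooth_apply (f := g),
      ← Extension.H1Cotangent.map_comp_apply, ← Extension.H1Cotangent.map_comp_apply,
      Extension.H1Cotangent.map_eq _ f1]
  set B := (Algebra.H1Cotangent.map R R K' k).liftBaseChange k with hB
  have hcomp : ∀ z : k ⊗[K'] P1.H1Cotangent, B (LinearEquiv.lTensor k eP z) = eQ.symm (A z) := by
    intro z
    induction z with
    | zero => simp
    | add z w hz hw => simp only [map_add, hz, hw]
    | tmul c x =>
      rw [LinearEquiv.lTensor_tmul, hB, LinearMap.liftBaseChange_tmul, hA,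
        LinearMap.liftBaseChange_tmul, map_smul]
      congr 1
      rw [LinearEquiv.eq_symm_apply]
      exact key x
  have h1 : Function.Bijective (B ∘ (LinearEquiv.lTensor k eP)) := by
    have : (B ∘ (LinearEquiv.lTensor k eP)) = eQ.symm ∘ A := funext hcomp
    rw [this]
    exact eQ.symm.bijective.comp A.bijective
  exact (Function.Bijective.of_comp_iff B (LinearEquiv.lTensor k eP).bijective).mp h1

end Main

end Groth.Agent.Lib.Helper99.H1Sep
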