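import Mathlib
import Groth.Agent.Lib.Helper86.HopfDer5

/-!
# Hopf algebras of height one over a local ring (SGA 3, VII_A 7.4, (iv) ⇒ (ii))
-/

set_option autoImplicit false
set_option linter.unusedSectionVars false
set_option linter.style.haveILetI false
universe u

open scoped TensorProduct

namespace Groth.Agent.Lib.Helper99.HeightOne

open MvPolynomial

section general

variable (p : ℕ) [Fact p.Prime] (R : Type u) [CommRing R] [CharP R p]
  (A : Type u) [CommRing A] [Bialgebra R A]
  (h1 : ∀ a : A, Bialgebra.counitAlgHom R A a = 0 → a ^ p = 0)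

include h1 in
theorem isIntegral_all : Algebra.IsIntegral R A := by
  refine ⟨fun a => ?_⟩
  have hp : 0 < p := (Fact.out : p.Prime).pos
  have h2 : a = algebraMap R A (Bialgebra.counitAlgHom R A a) +
      (a - algebraMap R A (Bialgebra.counitAlgHom R A a)) := by ring
  rw [h2]
  refine IsIntegral.add isIntegral_algebraMap ?_
  refine IsIntegral.of_pow hp ?_
  rw [h1 _ (by rw [map_sub, AlgHom.commutes, Algebra.algebraMap_self, RingHom.id_apply, sub_self])]
  exact isIntegral_zero

include h1 in
theorem finite_of_finiteType [Algebra.FiniteType R A] : Module.Finite R A :=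
  haveI := isIntegral_all p R A h1
  Algebra.IsIntegral.finite

end general

section residue

variable (p : ℕ) [Fact p.Prime] (R : Type u) [CommRing R] [IsLocalRing R] [CharP R p]
  (A : Type u) [CommRing A] [Bialgebra R A]

theorem charP_residueField : CharP (IsLocalRing.ResidueField R) p := by
  rw [CharP.charP_iff_prime_eq_zero (Fact.out : p.Prime)]
  rw [← map_natCast (algebraMap R (IsLocalRing.ResidueField R)), CharP.cast_eq_zero R p, map_zero]

/-- The counit of the residue bialgebra on pure tensors. -/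
theorem counit_tmul' (c : IsLocalRing.ResidueField R) (a : A) :
    Bialgebra.counitAlgHom (IsLocalRing.ResidueField R) ((IsLocalRing.ResidueField R) ⊗[R] A)
      (c ⊗ₜ[R] a) =
      c * algebraMap R (IsLocalRing.ResidueField R) (Bialgebra.counitAlgHom R A a) := by
  change Coalgebra.counit (R := IsLocalRing.ResidueField R) (c ⊗ₜ[R] a) = _
  rw [TensorProduct.counit_tmul]
  change Coalgebra.counit (R := R) a • c = _
  rw [Algebra.smul_def, mul_comm]
  rfl

theorem add_pow_of_natCast_eq_zero {S : Type*} [CommRing S] (hp : p.Prime) (h0 : (p : S) = 0)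
    (x y : S) : (x + y) ^ p = x ^ p + y ^ p := by
  rw [add_pow_prime_eq hp, h0, zero_mul, zero_mul, zero_mul, add_zero]

theorem natCast_tensor_eq_zero : (p : (IsLocalRing.ResidueField R) ⊗[R] A) = 0 := by
  rw [← map_natCast (algebraMap R ((IsLocalRing.ResidueField R) ⊗[R] A)), CharP.cast_eq_zero R p,
    map_zero]

variable (h1 : ∀ a : A, Bialgebra.counitAlgHom R A a = 0 → a ^ p = 0)

include h1 in
theorem residue_sub_counit_pow (z : (IsLocalRing.ResidueField R) ⊗[R] A) :
    (z - algebraMap (IsLocalRing.ResidueField R) ((IsLocalRing.ResidueField R) ⊗[R] A)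
      (Bialgebra.counitAlgHom (IsLocalRing.ResidueField R) ((IsLocalRing.ResidueField R) ⊗[R] A) z)) ^ p
      = 0 := by
  have hp : p.Prime := Fact.out
  induction z using TensorProduct.induction_on with
  | zero => rw [map_zero, map_zero, sub_zero, zero_pow hp.ne_zero]
  | tmul c a =>
    have h2 : c ⊗ₜ[R] a - algebraMap (IsLocalRing.ResidueField R) ((IsLocalRing.ResidueField R) ⊗[R] A)
        (Bialgebra.counitAlgHom (IsLocalRing.ResidueField R) ((IsLocalRing.ResidueField R) ⊗[R] A)
          (c ⊗ₜ[R] a)) =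
        c ⊗ₜ[R] (a - algebraMap R A (Bialgebra.counitAlgHom R A a)) := by
      rw [counit_tmul', Algebra.TensorProduct.algebraMap_apply, TensorProduct.tmul_sub,
        Algebra.algebraMap_self, RingHom.id_apply, Algebra.algebraMap_eq_smul_one,
        Algebra.algebraMap_eq_smul_one (A := A), TensorProduct.tmul_smul, mul_comm,
        ← smul_eq_mul, smul_assoc, TensorProduct.smul_tmul', smul_eq_mul, one_mul]
    rw [h2, Algebra.TensorProduct.tmul_pow,
      h1 _ (by rw [map_sub, AlgHom.commutes, Algebra.algebraMap_self, RingHom.id_apply, sub_self]),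
      TensorProduct.tmul_zero]
  | add x y hx hy =>
    have h3 : x + y - algebraMap (IsLocalRing.ResidueField R) ((IsLocalRing.ResidueField R) ⊗[R] A)
        (Bialgebra.counitAlgHom (IsLocalRing.ResidueField R) ((IsLocalRing.ResidueField R) ⊗[R] A)
          (x + y)) =
        (x - algebraMap (IsLocalRing.ResidueField R) ((IsLocalRing.ResidueField R) ⊗[R] A)
          (Bialgebra.counitAlgHom (IsLocalRing.ResidueField R) ((IsLocalRing.ResidueField R) ⊗[R] A) x)) +
        (y - algebraMap (IsLocalRing.ResidueField R) ((IsLocalRing.ResidueField R) ⊗[R] A)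
          (Bialgebra.counitAlgHom (IsLocalRing.ResidueField R) ((IsLocalRing.ResidueField R) ⊗[R] A) y)) := by
      rw [map_add, map_add]; ring
    rw [h3, add_pow_of_natCast_eq_zero p hp (natCast_tensor_eq_zero p R A), hx, hy, add_zero]

include h1 in
theorem residue_pow_eq_zero (z : (IsLocalRing.ResidueField R) ⊗[R] A)
    (hz : Bialgebra.counitAlgHom (IsLocalRing.ResidueField R) ((IsLocalRing.ResidueField R) ⊗[R] A) z = 0) :
    z ^ p = 0 := by
  have := residue_sub_counit_pow p R A h1 z
  rwa [hz, map_zero, sub_zero] at this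

include h1 in
theorem exists_residue_equiv [Module.Finite R A] :
    ∃ n : ℕ, Nonempty (((IsLocalRing.ResidueField R) ⊗[R] A) ≃ₐ[IsLocalRing.ResidueField R]
      (MvPolynomial (Fin n) (IsLocalRing.ResidueField R) ⧸
        Ideal.span (Set.range fun i : Fin n =>
          (MvPolynomial.X i : MvPolynomial (Fin n) (IsLocalRing.ResidueField R)) ^ p))) := by
  haveI := charP_residueField p R
  obtain ⟨e⟩ := Groth.Agent.Lib.Helper86.HopfDer.nonempty_algEquiv_frobKernel
    (IsLocalRing.ResidueField R) p ((IsLocalRing.ResidueField R) ⊗[R] A)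
  refine ⟨_, ⟨AlgEquiv.trans ?_ e⟩⟩
  have hJ : Ideal.span ((fun a : (IsLocalRing.ResidueField R) ⊗[R] A => a ^ p) ''
      (RingHom.ker (Bialgebra.counitAlgHom (IsLocalRing.ResidueField R)
        ((IsLocalRing.ResidueField R) ⊗[R] A)) : Set ((IsLocalRing.ResidueField R) ⊗[R] A))) = ⊥ := by
    rw [Ideal.span_eq_bot]
    rintro _ ⟨z, hz, rfl⟩
    exact residue_pow_eq_zero p R A h1 z hz
  exact (AlgEquiv.quotientBot (IsLocalRing.ResidueField R) _).symm.trans
    (Ideal.quotientEquivAlgOfEq _ hJ.symm)

end residue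

section lift

variable (R : Type u) [CommRing R] [IsLocalRing R] (A : Type u) [CommRing A] [Algebra R A]

theorem incl_surjective :
    Function.Surjective (Algebra.TensorProduct.includeRight :
      A →ₐ[R] (IsLocalRing.ResidueField R) ⊗[R] A) := by
  intro z
  induction z using TensorProduct.induction_on with
  | zero => exact ⟨0, map_zero _⟩
  | tmul c a =>
    obtain ⟨r, rfl⟩ := IsLocalRing.residue_surjective c
    refine ⟨r • a, ?_⟩
    rw [Algebra.TensorProduct.includeRight_apply, TensorProduct.tmul_smul,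
      TensorProduct.smul_tmul', Algebra.smul_def, mul_one]
    rfl
  | add x y hx hy =>
    obtain ⟨a, rfl⟩ := hx
    obtain ⟨b, rfl⟩ := hy
    exact ⟨a + b, map_add _ _ _⟩

theorem mem_of_incl_eq_zero (a : A)
    (h : (Algebra.TensorProduct.includeRight : A →ₐ[R] (IsLocalRing.ResidueField R) ⊗[R] A) a = 0) :
    a ∈ (IsLocalRing.maximalIdeal R) • (⊤ : Submodule R A) := by
  have h2 := TensorProduct.quotTensorEquivQuotSMul_mk_one_tmul (M := A) (IsLocalRing.maximalIdeal R) a
  rw [Algebra.TensorProduct.includeRight_apply] at h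
  have h3 : (1 : R ⧸ IsLocalRing.maximalIdeal R) ⊗ₜ[R] a = 0 := h
  rw [h3, map_zero] at h2
  exact (Submodule.Quotient.mk_eq_zero _).mp h2.symm

/-- The truncated polynomial algebra is a finite module. -/
theorem finite_trunc (p : ℕ) (hp : 0 < p) (n : ℕ) :
    Module.Finite R (MvPolynomial (Fin n) R ⧸
      Ideal.span (Set.range fun i : Fin n => (MvPolynomial.X i : MvPolynomial (Fin n) R) ^ p)) := by
  set J := Ideal.span (Set.range fun i : Fin n => (MvPolynomial.X i : MvPolynomial (Fin n) R) ^ p)
  have hint : Algebra.IsIntegral R (MvPolynomial (Fin n) R ⧸ J) := by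
    have hadj : Algebra.adjoin R (Set.range fun i : Fin n =>
        (Ideal.Quotient.mkₐ R J (MvPolynomial.X i))) = ⊤ := by
      have h1 : (Set.range fun i : Fin n => (Ideal.Quotient.mkₐ R J (MvPolynomial.X i))) =
          (Ideal.Quotient.mkₐ R J) '' (Set.range (MvPolynomial.X (R := R) (σ := Fin n))) := by
        rw [← Set.range_comp]; rfl
      rw [h1, ← AlgHom.map_adjoin, MvPolynomial.adjoin_range_X, Algebra.map_top,
        AlgHom.range_eq_top]
      exact Ideal.Quotient.mkₐ_surjective R J
    have hle : Algebra.adjoin R (Set.range fun i : Fin n =>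
        (Ideal.Quotient.mkₐ R J (MvPolynomial.X i))) ≤ integralClosure R (MvPolynomial (Fin n) R ⧸ J) := by
      rw [Algebra.adjoin_le_iff]
      rintro _ ⟨i, rfl⟩
      refine IsIntegral.of_pow hp ?_
      have : (Ideal.Quotient.mkₐ R J (MvPolynomial.X i)) ^ p = 0 := by
        rw [← map_pow, Ideal.Quotient.mkₐ_eq_mk, Ideal.Quotient.eq_zero_iff_mem]
        exact Ideal.subset_span ⟨i, rfl⟩
      rw [this]
      exact isIntegral_zero
    rw [hadj] at hle
    exact ⟨fun z => hle Algebra.mem_top⟩
  exact Algebra.IsIntegral.finite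

end lift

section main

variable (p : ℕ) [Fact p.Prime] (R : Type u) [CommRing R] [IsLocalRing R] [CharP R p]
  (A : Type u) [CommRing A] [Bialgebra R A]
  (h1 : ∀ a : A, Bialgebra.counitAlgHom R A a = 0 → a ^ p = 0)

include h1 in
theorem exists_algEquiv_trunc [Module.Finite R A] [Module.Projective R A] :
    ∃ n : ℕ, Nonempty (A ≃ₐ[R] (MvPolynomial (Fin n) R ⧸
      Ideal.span (Set.range fun i : Fin n => (MvPolynomial.X i : MvPolynomial (Fin n) R) ^ p))) := by
  classical
  have hp : p.Prime := Fact.out
  obtain ⟨n, ⟨e⟩⟩ := exists_residue_equiv p R A h1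
  refine ⟨n, ?_⟩
  set κ := IsLocalRing.ResidueField R with hκ
  set m := IsLocalRing.maximalIdeal R with hm
  set JR := Ideal.span (Set.range fun i : Fin n => (MvPolynomial.X i : MvPolynomial (Fin n) R) ^ p)
    with hJR
  set Jκ := Ideal.span (Set.range fun i : Fin n => (MvPolynomial.X i : MvPolynomial (Fin n) κ) ^ p)
    with hJκ
  let incl : A →ₐ[R] κ ⊗[R] A := Algebra.TensorProduct.includeRight
  let ε := Bialgebra.counitAlgHom R A
  let εκ := Bialgebra.counitAlgHom κ (κ ⊗[R] A)
  let ξ : Fin n → κ ⊗[R] A := fun i => e.symm (Ideal.Quotient.mk Jκ (MvPolynomial.X i))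
  have hξp : ∀ i, ξ i ^ p = 0 := by
    intro i
    change (e.symm (Ideal.Quotient.mk Jκ (MvPolynomial.X i))) ^ p = 0
    have h0 : Ideal.Quotient.mk Jκ ((MvPolynomial.X i : MvPolynomial (Fin n) κ) ^ p) = 0 :=
      Ideal.Quotient.eq_zero_iff_mem.mpr (Ideal.subset_span (Set.mem_range_self i))
    rw [← map_pow, ← map_pow, h0, map_zero]
  have hξε : ∀ i, εκ (ξ i) = 0 := by
    intro i
    have : εκ (ξ i) ^ p = 0 := by rw [← map_pow, hξp, map_zero]
    exact pow_eq_zero_iff hp.ne_zero |>.mp this
  choose y hy using fun i => incl_surjective R A (ξ i)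
  let x : Fin n → A := fun i => y i - algebraMap R A (ε (y i))
  have hεx : ∀ i, ε (x i) = 0 := by
    intro i
    change ε (y i - algebraMap R A (ε (y i))) = 0
    rw [map_sub, AlgHom.commutes, Algebra.algebraMap_self, RingHom.id_apply, sub_self]
  have hxp : ∀ i, x i ^ p = 0 := fun i => h1 _ (hεx i)
  have hinclx : ∀ i, incl (x i) = ξ i := by
    intro i
    change incl (y i - algebraMap R A (ε (y i))) = ξ i
    have h2 : incl (algebraMap R A (ε (y i))) = algebraMap κ (κ ⊗[R] A) (εκ (incl (y i))) := by
      rw [AlgHom.commutes, IsScalarTower.algebraMap_apply R κ (κ ⊗[R] A)]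
      congr 1
      change _ = εκ ((1 : κ) ⊗ₜ[R] y i)
      rw [counit_tmul', one_mul]
    rw [map_sub, h2, hy, hξε, map_zero, sub_zero]
  -- the map from the truncated polynomial algebra
  let φ₀ : MvPolynomial (Fin n) R →ₐ[R] A := MvPolynomial.aeval x
  have hφ₀J : ∀ f ∈ JR, φ₀ f = 0 := by
    intro f hf
    have : JR ≤ RingHom.ker φ₀.toRingHom := by
      rw [hJR, Ideal.span_le]
      rintro _ ⟨i, rfl⟩
      change φ₀ (MvPolynomial.X i ^ p) = 0
      rw [map_pow, MvPolynomial.aeval_X, hxp]
    exact this hf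
  let φ : (MvPolynomial (Fin n) R ⧸ JR) →ₐ[R] A := Ideal.Quotient.liftₐ JR φ₀ hφ₀J
  have hφmk : ∀ f, φ (Ideal.Quotient.mk JR f) = φ₀ f := fun f => rfl
  -- compatibility with the residue field
  have hcompat : ∀ f : MvPolynomial (Fin n) R,
      incl (φ₀ f) = e.symm (Ideal.Quotient.mk Jκ (MvPolynomial.map (algebraMap R κ) f)) := by
    have : (incl.toRingHom.comp φ₀.toRingHom) =
        (e.symm.toAlgHom.toRingHom.comp ((Ideal.Quotient.mk Jκ).comp
          (MvPolynomial.map (algebraMap R κ)))) := by
      apply MvPolynomial.ringHom_ext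
      · intro r
        change incl (φ₀ (MvPolynomial.C r)) =
          e.symm (Ideal.Quotient.mk Jκ (MvPolynomial.map (algebraMap R κ) (MvPolynomial.C r)))
        rw [MvPolynomial.map_C, ← MvPolynomial.algebraMap_eq, AlgHom.commutes, AlgHom.commutes,
          ← MvPolynomial.algebraMap_eq, ← Ideal.Quotient.mkₐ_eq_mk κ, AlgHom.commutes,
          AlgEquiv.commutes, IsScalarTower.algebraMap_apply R κ (κ ⊗[R] A)]
      · intro i
        change incl (φ₀ (MvPolynomial.X i)) =
          e.symm (Ideal.Quotient.mk Jκ (MvPolynomial.map (algebraMap R κ) (MvPolynomial.X i)))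
        rw [MvPolynomial.map_X, MvPolynomial.aeval_X, hinclx]
    intro f
    exact congrArg (fun g => g f) this
  have hmapsurj : Function.Surjective (MvPolynomial.map (σ := Fin n) (algebraMap R κ)) :=
    MvPolynomial.map_surjective _ IsLocalRing.residue_surjective
  have hmjac : m ≤ Ideal.jacobson ⊥ := IsLocalRing.maximalIdeal_le_jacobson ⊥
  -- surjectivity
  have hsurj : Function.Surjective φ := by
    have hle : (⊤ : Submodule R A) ≤ LinearMap.range φ.toLinearMap ⊔ m • (⊤ : Submodule R A) := by
      intro a _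
      obtain ⟨t, ht⟩ := e.symm.surjective (incl a)
      obtain ⟨g, rfl⟩ := Ideal.Quotient.mk_surjective t
      obtain ⟨f, rfl⟩ := hmapsurj g
      have h0 : incl (a - φ₀ f) = 0 := by rw [map_sub, hcompat, ht, sub_self]
      have h2 := mem_of_incl_eq_zero R A _ h0
      have h3 : a = φ (Ideal.Quotient.mk JR f) + (a - φ₀ f) := by rw [hφmk]; ring
      rw [h3]
      exact Submodule.add_mem_sup (LinearMap.mem_range.mpr ⟨Ideal.Quotient.mk JR f, rfl⟩) h2
    have := Submodule.le_of_le_smul_of_le_jacobson_bot (Module.Finite.fg_top) hmjac hle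
    intro a
    exact this Submodule.mem_top
  -- injectivity
  haveI : Module.Finite R (MvPolynomial (Fin n) R ⧸ JR) := finite_trunc R p hp.pos n
  have hinj : Function.Injective φ := by
    obtain ⟨s, hs⟩ := Module.projective_lifting_property φ.toLinearMap LinearMap.id hsurj
    have hs' : ∀ a, φ (s a) = a := fun a => congrArg (fun g => g a) hs
    let πK : (MvPolynomial (Fin n) R ⧸ JR) →ₗ[R] (MvPolynomial (Fin n) R ⧸ JR) :=
      LinearMap.id - s ∘ₗ φ.toLinearMap
    set K := LinearMap.ker φ.toLinearMap with hK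
    have hπmem : ∀ t, πK t ∈ K := by
      intro t
      rw [hK, LinearMap.mem_ker]
      change φ (t - s (φ t)) = 0
      rw [map_sub, hs', sub_self]
    have hπfix : ∀ k ∈ K, πK k = k := by
      intro k hk
      rw [hK, LinearMap.mem_ker] at hk
      change k - s (φ.toLinearMap k) = k
      rw [hk, map_zero, sub_zero]
    have hKrange : K = Submodule.map πK ⊤ := by
      apply le_antisymm
      · intro k hk
        exact ⟨k, Submodule.mem_top, hπfix k hk⟩
      · rintro _ ⟨t, -, rfl⟩
        exact hπmem t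
    have hKfg : K.FG := by
      rw [hKrange]
      exact Submodule.FG.map _ Module.Finite.fg_top
    have hkey : ∀ k ∈ K, k ∈ m • (⊤ : Submodule R (MvPolynomial (Fin n) R ⧸ JR)) := by
      intro k hk
      rw [hK, LinearMap.mem_ker] at hk
      obtain ⟨f, rfl⟩ := Ideal.Quotient.mk_surjective k
      change φ (Ideal.Quotient.mk JR f) = 0 at hk
      rw [hφmk] at hk
      have h2 : Ideal.Quotient.mk Jκ (MvPolynomial.map (algebraMap R κ) f) = 0 := by
        have := hcompat f
        rw [hk, map_zero] at this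
        exact (map_eq_zero_iff _ e.symm.injective).mp this.symm
      rw [Ideal.Quotient.eq_zero_iff_mem, hJκ, Ideal.mem_span_range_iff_exists_fun] at h2
      obtain ⟨g, hg⟩ := h2
      choose g' hg' using fun i => hmapsurj (g i)
      set f' := f - ∑ i, g' i * MvPolynomial.X i ^ p with hf'
      have h3 : MvPolynomial.map (algebraMap R κ) f' = 0 := by
        rw [hf', map_sub, map_sum, ← hg, sub_eq_zero]
        refine (Finset.sum_congr rfl fun i _ => ?_).symm
        rw [map_mul, map_pow, MvPolynomial.map_X, hg']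
      have h4 : f' ∈ Ideal.map MvPolynomial.C m := by
        rw [← RingHom.mem_ker, MvPolynomial.ker_map] at h3
        rwa [hm, ← IsLocalRing.ker_residue]
      have h5 : Ideal.Quotient.mk JR f = Ideal.Quotient.mk JR f' := by
        rw [hf', map_sub, map_sum, eq_comm, sub_eq_self]
        refine Finset.sum_eq_zero fun i _ => ?_
        have h0 : Ideal.Quotient.mk JR ((MvPolynomial.X i : MvPolynomial (Fin n) R) ^ p) = 0 :=
          Ideal.Quotient.eq_zero_iff_mem.mpr (Ideal.subset_span (Set.mem_range_self i))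
        rw [map_mul, h0, mul_zero]
      rw [h5, Ideal.smul_top_eq_map]
      change Ideal.Quotient.mk JR f' ∈ Ideal.map (algebraMap R (MvPolynomial (Fin n) R ⧸ JR)) m
      have h6 : Ideal.map (algebraMap R (MvPolynomial (Fin n) R ⧸ JR)) m =
          Ideal.map (Ideal.Quotient.mk JR) (Ideal.map MvPolynomial.C m) := by
        rw [Ideal.map_map]
        rfl
      rw [h6]
      exact Ideal.mem_map_of_mem _ h4
    have hKle : K ≤ m • K := by
      intro k hk
      have h2 := hkey k hk
      have h3 : πK k ∈ Submodule.map πK (m • (⊤ : Submodule R (MvPolynomial (Fin n) R ⧸ JR))) :=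
        Submodule.mem_map.mpr ⟨k, h2, rfl⟩
      rw [Submodule.map_smul'', ← hKrange, hπfix k hk] at h3
      exact h3
    have hKbot : K = ⊥ := Submodule.eq_bot_of_le_smul_of_le_jacobson_bot m K hKfg hKle hmjac
    have hinj' : Function.Injective φ.toLinearMap := LinearMap.ker_eq_bot.mp hKbot
    exact hinj'
  exact ⟨(AlgEquiv.ofBijective φ ⟨hinj, hsurj⟩).symm⟩

end main

end Groth.Agent.Lib.Helper99.HeightOne
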