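import Mathlib

/-!
# Jacobson's formula `(a + b)^p = a^p + b^p - J_p(a, b)` in an associative ring of characteristic `p`
(helper99)

`cm x y = x * y - y * x`, `adn x n y = (ad x)^n y`, `bw x y w` the right-nested commutator word.
-/

set_option autoImplicit false
set_option linter.unusedSectionVars false
universe u v w

namespace Groth.Agent.Lib.Helper99.Jac

open Polynomial Finset

section Ring

variable {B : Type v} [Ring B]

/-- the ring commutator -/
def cm (x y : B) : B := x * y - y * x

/-- `adn x n y = (ad x)^n y` -/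
def adn (x : B) : ℕ → B → B
  | 0, y => y
  | n + 1, y => cm x (adn x n y)

@[simp] theorem adn_zero (x y : B) : adn x 0 y = y := rfl
theorem adn_succ (x y : B) (n : ℕ) : adn x (n + 1) y = cm x (adn x n y) := rfl

theorem adn_eq_pow (x y : B) (n : ℕ) :
    adn x n y = ((LinearMap.mulLeft ℤ x - LinearMap.mulRight ℤ x) ^ n) y := by
  induction n with
  | zero => simp
  | succ n ih =>
    rw [adn_succ, pow_succ', Module.End.mul_apply, ← ih]
    simp [cm]

theorem adn_succ' (x y : B) (n : ℕ) : adn x (n + 1) y = adn x n (cm x y) := by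
  rw [adn_eq_pow, adn_eq_pow, pow_succ, Module.End.mul_apply]
  simp [cm]

theorem adn_add (x y : B) (m n : ℕ) : adn x (m + n) y = adn x m (adn x n y) := by
  rw [adn_eq_pow, adn_eq_pow, adn_eq_pow, pow_add, Module.End.mul_apply]

/-- binomial expansion of `(ad x)^n` -/
theorem adn_eq_sum (x y : B) (n : ℕ) :
    adn x n y = ∑ m ∈ range (n + 1),
      (((-1) ^ (n - m) * (n.choose m : ℤ) : ℤ)) • (x ^ m * y * x ^ (n - m)) := by
  rw [adn_eq_pow, sub_eq_add_neg,
    ((LinearMap.commute_mulLeft_right (R := ℤ) x x).neg_right).add_pow, LinearMap.sum_apply]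
  refine Finset.sum_congr rfl fun m _ => ?_
  rw [neg_pow, LinearMap.pow_mulLeft, LinearMap.pow_mulRight]
  simp only [Module.End.mul_apply, LinearMap.mulLeft_apply, LinearMap.mulRight_apply]
  rw [← Int.cast_natCast (R := Module.End ℤ B), ← Int.cast_one (R := Module.End ℤ B),
    ← Int.cast_neg, ← Int.cast_pow]
  simp only [Module.End.intCast_apply]
  rw [mul_smul_comm, smul_mul_assoc, mul_smul_comm, mul_smul, mul_assoc]

theorem choose_pred_prime_zmod {p : ℕ} (hp : p.Prime) :
    ∀ m : ℕ, m ≤ p - 1 → (((p - 1).choose m : ℕ) : ZMod p) = (-1) ^ m := by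
  intro m
  induction m with
  | zero => intro _; simp
  | succ m ih =>
    intro hm
    have h1 : p - 1 + 1 = p := Nat.sub_add_cancel hp.one_le
    have h2 : p.choose (m + 1) = (p - 1).choose m + (p - 1).choose (m + 1) := by
      conv_lhs => rw [← h1]
      rw [Nat.choose_succ_succ]
    have h3 : ((p.choose (m + 1) : ℕ) : ZMod p) = 0 := by
      rw [ZMod.natCast_eq_zero_iff]
      exact hp.dvd_choose_self (Nat.succ_ne_zero m) (by omega)
    rw [h2, Nat.cast_add, ih (by omega)] at h3
    rw [pow_succ, mul_neg_one]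
    exact eq_neg_of_add_eq_zero_right h3

theorem neg_one_pow_pred_prime_zmod {p : ℕ} (hp : p.Prime) : ((-1 : ZMod p)) ^ (p - 1) = 1 := by
  rcases hp.eq_two_or_odd' with rfl | hodd
  · decide
  · have : Even (p - 1) := by
      obtain ⟨k, hk⟩ := hodd
      exact ⟨k, by omega⟩
    exact this.neg_one_pow

theorem intCast_eq_one_of_zmod {p : ℕ} (hB : (p : B) = 0) (k : ℤ) (hk : (k : ZMod p) = 1) :
    (k : B) = 1 := by
  have h1 : ((k - 1 : ℤ) : ZMod p) = 0 := by push_cast; rw [hk, sub_self]
  rw [ZMod.intCast_zmod_eq_zero_iff_dvd] at h1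
  obtain ⟨c, hc⟩ := h1
  have h2 : ((k - 1 : ℤ) : B) = 0 := by
    rw [hc]; push_cast; rw [hB, zero_mul]
  push_cast at h2
  exact sub_eq_zero.mp h2

/-- `(ad x)^(p-1) y = ∑ x^m y x^(p-1-m)` in characteristic `p` -/
theorem adn_pred_prime {p : ℕ} (hp : p.Prime) (hB : (p : B) = 0) (x y : B) :
    adn x (p - 1) y = ∑ m ∈ range p, x ^ m * y * x ^ (p - 1 - m) := by
  rw [adn_eq_sum, Nat.sub_add_cancel hp.one_le]
  refine Finset.sum_congr rfl fun m hm => ?_
  have hm' : m ≤ p - 1 := by have := Finset.mem_range.mp hm; omega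
  rw [zsmul_eq_mul, intCast_eq_one_of_zmod hB, one_mul]
  push_cast
  rw [choose_pred_prime_zmod hp m hm', ← pow_add, Nat.sub_add_cancel hm',
    neg_one_pow_pred_prime_zmod hp]

/-- `(ad x)^p = ad (x^p)` in characteristic `p` -/
theorem adn_prime {p : ℕ} (hp : p.Prime) (hB : (p : B) = 0) (x y : B) :
    adn x p y = cm (x ^ p) y := by
  have h1 : p = (p - 1) + 1 := (Nat.sub_add_cancel hp.one_le).symm
  conv_lhs => rw [h1, adn_succ, adn_pred_prime hp hB]
  unfold cm
  rw [Finset.mul_sum, Finset.sum_mul, ← Finset.sum_sub_distrib]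
  have h2 : ∀ m ∈ range p, x * (x ^ m * y * x ^ (p - 1 - m)) - x ^ m * y * x ^ (p - 1 - m) * x =
      (fun i => x ^ i * y * x ^ (p - i)) (m + 1) - (fun i => x ^ i * y * x ^ (p - i)) m := by
    intro m hm
    have hm' := Finset.mem_range.mp hm
    simp only
    rw [show p - (m + 1) = p - 1 - m by omega, show p - m = (p - 1 - m) + 1 by omega,
      pow_succ x (p - 1 - m), pow_succ' x m]
    simp only [mul_assoc]
  rw [Finset.sum_congr rfl h2]
  rw [Finset.sum_range_sub (fun i => x ^ i * y * x ^ (p - i)) p]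
  simp

theorem cm_add_right (x y z : B) : cm x (y + z) = cm x y + cm x z := by
  unfold cm; noncomm_ring

theorem cm_add_left (x y z : B) : cm (x + y) z = cm x z + cm y z := by
  unfold cm; noncomm_ring

theorem cm_sum {ι : Type*} (s : Finset ι) (x : B) (f : ι → B) :
    cm x (∑ i ∈ s, f i) = ∑ i ∈ s, cm x (f i) := by
  unfold cm
  rw [Finset.mul_sum, Finset.sum_mul, Finset.sum_sub_distrib]

@[simp] theorem cm_self (x : B) : cm x x = 0 := by unfold cm; exact sub_self _
@[simp] theorem cm_zero (x : B) : cm x 0 = 0 := by unfold cm; simp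

/-- right-nested commutator word `[x w₁, [x w₂, [ ⋯ [x wₙ, y] ⋯ ]]]` -/
def bw {ι : Type w} (x : ι → B) (y : B) : List ι → B
  | [] => y
  | i :: l => cm (x i) (bw x y l)

@[simp] theorem bw_nil {ι : Type w} (x : ι → B) (y : B) : bw x y [] = y := rfl
@[simp] theorem bw_cons {ι : Type w} (x : ι → B) (y : B) (i : ι) (l : List ι) :
    bw x y (i :: l) = cm (x i) (bw x y l) := rfl

/-- the pair `(a, b)` as a family indexed by `Bool` (`false ↦ a`, `true ↦ b`) -/
def pr (a b : B) : Bool → B := fun i => if i then b else a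

/-- number of `true` values of `t` -/
def nt {n : ℕ} (t : Fin n → Bool) : ℕ := ∑ i, if t i then 1 else 0

theorem nt_cons {n : ℕ} (i : Bool) (t : Fin n → Bool) :
    nt (Fin.cons i t : Fin (n + 1) → Bool) = (if i then 1 else 0) + nt t := by
  unfold nt
  rw [Fin.sum_univ_succ]
  simp

theorem nt_le {n : ℕ} (t : Fin n → Bool) : nt t ≤ n := by
  unfold nt
  calc ∑ i, (if t i then 1 else 0) ≤ ∑ _i : Fin n, 1 :=
        Finset.sum_le_sum fun i _ => by split_ifs <;> simp
    _ = n := by simp

theorem card_false_add_nt {n : ℕ} (t : Fin n → Bool) :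
    Fintype.card {i // t i = false} + nt t = n := by
  unfold nt
  rw [Fintype.card_subtype, ← Finset.card_filter, add_comm]
  have := Finset.card_filter_add_card_filter_not (s := (Finset.univ : Finset (Fin n)))
    (fun i => t i = true)
  simpa using this

theorem sum_cons {n : ℕ} {M : Type*} [AddCommMonoid M] (g : (Fin (n + 1) → Bool) → M) :
    ∑ t, g t = ∑ t : Fin n → Bool, (g (Fin.cons false t) + g (Fin.cons true t)) := by
  rw [← Fintype.sum_equiv (Fin.consEquiv (fun _ : Fin (n + 1) => Bool)) (fun q => g (Fin.cons q.1 q.2)) g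
    (fun q => rfl), Fintype.sum_prod_type, Fintype.sum_bool, ← Finset.sum_add_distrib]
  refine Finset.sum_congr rfl fun t _ => ?_
  rw [add_comm]

end Ring

section Poly

variable {A : Type v} [Ring A]

theorem derivative_pow_noncomm (P : A[X]) (n : ℕ) :
    derivative (P ^ n) = ∑ j ∈ range n, P ^ j * derivative P * P ^ (n - 1 - j) := by
  induction n with
  | zero => simp
  | succ n ih =>
    rw [pow_succ, derivative_mul, ih, Finset.sum_range_succ, Finset.sum_mul]
    congr 1
    · refine Finset.sum_congr rfl fun j hj => ?_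
      have hj' := Finset.mem_range.mp hj
      rw [mul_assoc, ← pow_succ, show n - 1 - j + 1 = n + 1 - 1 - j by omega]
    · simp

/-- expansion of `(ad (a + bX))^n (b)` into commutator words -/
theorem adn_linear (a b : A) (n : ℕ) :
    adn (C a + C b * X : A[X]) n (C b) =
      ∑ t : Fin n → Bool, C (bw (pr a b) b (List.ofFn t)) * X ^ nt t := by
  induction n with
  | zero => simp [nt]
  | succ n ih =>
    rw [adn_succ, ih, cm_sum, sum_cons]
    refine Finset.sum_congr rfl fun t _ => ?_
    rw [nt_cons, nt_cons]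
    simp only [List.ofFn_succ, Fin.cons_zero, Fin.cons_succ, bw_cons, pr]
    unfold cm
    simp only [Bool.false_eq_true, if_false, if_true, zero_add, C_sub, C_mul]
    have hX : ∀ q : A[X], q * X = X * q := fun q => ((commute_X q).eq).symm
    have hXp : ∀ (q : A[X]) (k : ℕ), q * X ^ k = X ^ k * q :=
      fun q k => ((commute_X_pow q k).eq).symm
    rw [pow_add, pow_one]
    generalize C (bw (pr a b) b (List.ofFn t)) = w
    generalize hY : (X : A[X]) ^ nt t = Y
    have hYc : ∀ q : A[X], Y * q = q * Y := fun q => by rw [← hY]; exact (hXp q _).symm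
    have e1 : X * (w * Y) = w * (X * Y) := by rw [← mul_assoc, ← hX w, mul_assoc]
    have e2 : Y * C a = C a * Y := hYc _
    have e3 : Y * (C b * X) = C b * (X * Y) := by rw [hYc, mul_assoc]
    simp only [mul_add, add_mul, mul_sub, sub_mul, mul_assoc, e1, e2, e3]
    abel

/-- the coefficients `s_i` of `(a + b X)^p` -/
theorem coeff_key {p : ℕ} (hp : p.Prime) (hA : (p : A) = 0) (a b : A) (i : ℕ) :
    ((C a + C b * X : A[X]) ^ p).coeff (i + 1) * ((i : A) + 1) =
      ∑ t : Fin (p - 1) → Bool, if nt t = i then bw (pr a b) b (List.ofFn t) else 0 := by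
  have hAX : ((p : ℕ) : A[X]) = 0 := by rw [← C_eq_natCast, hA, C_0]
  have hd : derivative (C a + C b * X : A[X]) = C b := by
    rw [derivative_add, derivative_C, derivative_C_mul, derivative_X, zero_add, mul_one]
  have h1 : derivative ((C a + C b * X : A[X]) ^ p) =
      ∑ t : Fin (p - 1) → Bool, C (bw (pr a b) b (List.ofFn t)) * X ^ nt t := by
    rw [derivative_pow_noncomm, hd, ← adn_pred_prime hp hAX, adn_linear]
  have h2 := congrArg (fun q : A[X] => q.coeff i) h1
  simp only [coeff_derivative, finsetSum_coeff, coeff_C_mul_X_pow] at h2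
  rw [h2]
  exact Finset.sum_congr rfl fun t _ => by simp only [eq_comm]

theorem eval_one_pow {p : ℕ} (a b : A) :
    (a + b) ^ p = ∑ i ∈ range (p + 1), ((C a + C b * X : A[X]) ^ p).coeff i := by
  let φ : A[X] →+* A := eval₂RingHom' (RingHom.id A) 1 (fun x => Commute.one_right x)
  have hφ : ∀ q : A[X], φ q = eval₂ (RingHom.id A) 1 q := fun q => rfl
  have h1 : φ (C a + C b * X : A[X]) = a + b := by
    rw [hφ]; simp [eval₂_add, eval₂_mul_X]
  have hdeg : ((C a + C b * X : A[X]) ^ p).natDegree < p + 1 := by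
    have h0 : (C a + C b * X : A[X]).natDegree ≤ 1 := by
      rw [add_comm]; exact natDegree_linear_le
    have := natDegree_pow_le_of_le p h0
    omega
  rw [← h1, ← map_pow, hφ, eval₂_eq_sum_range' _ hdeg]
  simp

end Poly

section Main

variable (R : Type u) [CommRing R] (p : ℕ) [hp : Fact p.Prime] [CharP R p]
  {A : Type v} [Ring A] [Algebra R A]

/-- Jacobson's sum `J_p(a, b)` in an associative algebra (same shape as `PLie.jacobson`) -/
noncomputable def jacA (a b : A) : A :=
  ∑ t : Fin (p - 1) → Bool,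
    ((ZMod.castHom (dvd_refl p) R) ((Fintype.card {i // t i = false} : ZMod p)⁻¹)) •
      bw (pr a b) b (List.ofFn t)

include R in
theorem natCast_eq_zero_alg : ((p : ℕ) : A) = 0 := by
  rw [← map_natCast (algebraMap R A), CharP.cast_eq_zero, map_zero]

theorem sum_range_pred {M : Type*} [AddCommMonoid M] (f : ℕ → M) {n : ℕ} (hn : 1 ≤ n) :
    ∑ i ∈ range n, f i = ∑ i ∈ range (n - 1), f (i + 1) + f 0 := by
  obtain ⟨m, rfl⟩ : ∃ m, n = m + 1 := ⟨n - 1, by omega⟩
  rw [Finset.sum_range_succ', Nat.add_sub_cancel]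

/-- **Jacobson's formula.** -/
theorem jacobson_formula (a b : A) : (a + b) ^ p = a ^ p + b ^ p - jacA R p a b := by
  have hpp := hp.out
  have hA : ((p : ℕ) : A) = 0 := natCast_eq_zero_alg R p
  obtain ⟨s, hs⟩ : ∃ s : ℕ → A, s = fun i => ((C a + C b * X : A[X]) ^ p).coeff i := ⟨_, rfl⟩
  have hs0 : s 0 = a ^ p := by
    rw [hs]
    have := map_pow (constantCoeff (R := A)) (C a + C b * X : A[X]) p
    simpa using this
  have hsp : s p = b ^ p := by
    rw [hs]
    have h0 : (C a + C b * X : A[X]).natDegree ≤ 1 := by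
      rw [add_comm]; exact natDegree_linear_le
    have := coeff_pow_of_natDegree_le (m := p) h0
    rw [mul_one] at this
    show ((C a + C b * X : A[X]) ^ p).coeff p = b ^ p
    rw [this]
    simp
  have hsum : (a + b) ^ p = ∑ i ∈ range (p + 1), s i := by rw [hs]; exact eval_one_pow a b
  have hkey : ∀ i, s (i + 1) * ((i : A) + 1) =
      ∑ t : Fin (p - 1) → Bool, if nt t = i then bw (pr a b) b (List.ofFn t) else 0 := by
    intro i; rw [hs]; exact coeff_key hpp hA a b i
  let γ : ℕ → R := fun i => ZMod.castHom (dvd_refl p) R ((((p - 1 - i : ℕ) : ZMod p))⁻¹)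
  have hJ : jacA R p a b = ∑ i ∈ range p, γ i • (s (i + 1) * ((i : A) + 1)) := by
    unfold jacA
    simp_rw [hkey, Finset.smul_sum]
    rw [Finset.sum_comm]
    refine Finset.sum_congr rfl fun t _ => ?_
    have hnt : nt t < p := by have := nt_le t; have := hpp.one_le; omega
    rw [Finset.sum_eq_single (nt t)]
    · rw [if_pos rfl]
      have : Fintype.card {i // t i = false} = p - 1 - nt t := by
        have := card_false_add_nt t; omega
      rw [this]
    · intro i _ hi
      rw [if_neg (Ne.symm hi), smul_zero]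
    · intro h
      exact absurd (Finset.mem_range.mpr hnt) h
  have hγ : ∀ i ∈ range (p - 1), γ i • (s (i + 1) * ((i : A) + 1)) = - s (i + 1) := by
    intro i hi
    have hi' := Finset.mem_range.mp hi
    have h1 : (((p - 1 - i : ℕ) : ZMod p)) = - ((i + 1 : ℕ) : ZMod p) := by
      rw [eq_neg_iff_add_eq_zero, ← Nat.cast_add, show p - 1 - i + (i + 1) = p by omega]
      exact ZMod.natCast_self p
    have h2 : ((i + 1 : ℕ) : ZMod p) ≠ 0 := by
      rw [Ne, ZMod.natCast_eq_zero_iff]
      intro hd
      have := Nat.le_of_dvd (Nat.succ_pos i) hd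
      omega
    have h3 : γ i * ((i + 1 : ℕ) : R) = -1 := by
      simp only [γ]
      rw [h1, inv_neg, map_neg, neg_mul, ← map_natCast (ZMod.castHom (dvd_refl p) R), ← map_mul,
        inv_mul_cancel₀ h2, map_one]
    have h4 : ((i : A) + 1) = algebraMap R A ((i + 1 : ℕ) : R) := by
      rw [map_natCast]; push_cast; rfl
    rw [h4, ← Algebra.commutes, ← Algebra.smul_def, smul_smul, h3, neg_one_smul]
  have hγ' : γ (p - 1) = 0 := by
    simp only [γ]
    rw [Nat.sub_self, Nat.cast_zero, inv_zero, map_zero]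
  have hJ' : jacA R p a b = - ∑ i ∈ range (p - 1), s (i + 1) := by
    rw [hJ]
    have : range p = range (p - 1 + 1) := by rw [Nat.sub_add_cancel hpp.one_le]
    rw [this, Finset.sum_range_succ, hγ', zero_smul, add_zero, Finset.sum_congr rfl hγ,
      Finset.sum_neg_distrib]
  rw [hsum, Finset.sum_range_succ, sum_range_pred s hpp.one_le, hs0, hsp, hJ']
  abel

end Main

end Groth.Agent.Lib.Helper99.Jac
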