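import Groth.Agent.Lib.Helper84.LogConn
import Groth.Prelude.Def_LogDiff
import Mathlib

/-!
Helper lemmas on the layers `⊕_{|K| = p} E_K ⊗ ω_K` of a logarithmic λ-connection (helper99).
Builds on helper84's `LogConn` library.
-/

set_option autoImplicit false
set_option linter.unusedSectionVars false
set_option linter.unusedVariables false
universe v u
open TensorProduct

namespace Groth.Agent.Lib.Helper99.LogLayer

open Groth.Agent.Lib.Helper84.LogC

section Expand
variable {B N E : Type u} [CommRing B] [AddCommGroup N] [Module B N] [AddCommGroup E] [Module B E]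
  {κ : Type*} [Fintype κ]

/-- Expansion of an element of `E ⊗ N` along a finite basis of `N`. -/
theorem tensor_basis_expand (b : Module.Basis κ B N) (z : E ⊗[B] N) :
    z = ∑ i, (TensorProduct.rid B E (TensorProduct.map LinearMap.id (b.coord i) z)) ⊗ₜ[B] b i := by
  induction z using TensorProduct.induction_on with
  | zero => simp
  | tmul e l =>
    simp only [TensorProduct.map_tmul, LinearMap.id_apply, TensorProduct.rid_tmul]
    conv_lhs => rw [← b.sum_repr l, TensorProduct.tmul_sum]
    refine Finset.sum_congr rfl fun i _ => ?_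
    rw [TensorProduct.tmul_smul, TensorProduct.smul_tmul', Module.Basis.coord_apply]
  | add x y hx hy =>
    conv_lhs => rw [hx, hy]
    rw [← Finset.sum_add_distrib]
    refine Finset.sum_congr rfl fun i _ => ?_
    rw [map_add, map_add, TensorProduct.add_tmul]

end Expand

section Main
variable {A : Type v} {B L E : Type u} [CommRing A] [CommRing B]
    [Algebra A B] [AddCommGroup L] [Module B L] [Module A L] [IsScalarTower A B L]
    [AddCommGroup E] [Module B E] [Module A E] [IsScalarTower A B E]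
    {n : ℕ}

theorem nabla_expand (nabla : E →ₗ[A] E ⊗[B] L) (ω : Module.Basis (Fin n) B L) (e : E) :
    nabla e = ∑ i, LogConn.comp nabla ω i e ⊗ₜ[B] ω i :=
  tensor_basis_expand ω (nabla e)

theorem wedge_one_ιMulti (p : ℕ) (l : L) (v : Fin p → L) :
    Conn.wedge p ((exteriorPower.oneEquiv B L).symm l) (exteriorPower.ιMulti B p v) =
      exteriorPower.ιMulti B (p + 1) (Fin.cons l v) := by
  apply Subtype.ext
  rw [Conn.wedge_apply_coe, exteriorPower.oneEquiv_symm_apply, exteriorPower.ιMulti_apply_coe,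
    exteriorPower.ιMulti_apply_coe, exteriorPower.ιMulti_apply_coe,
    ExteriorAlgebra.ιMulti_succ_apply, ExteriorAlgebra.ιMulti_succ_apply,
    ExteriorAlgebra.ιMulti_zero_apply, mul_one]
  simp [Matrix.vecTail]

theorem mem_layer_iff (nabla : E →ₗ[A] E ⊗[B] L) (ω : Module.Basis (Fin n) B L) (t : Fin n → B)
    (p : ℕ) (x : E ⊗[B] ↥(⋀[B]^p L)) :
    x ∈ LogConn.layer nabla ω t p ↔
      ∀ K : Set.powersetCard (Fin n) p,
        LogConn.coordE ω p K x ∈ LogConn.piece nabla ω t (K : Finset (Fin n)) := by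
  unfold LogConn.layer
  rw [Submodule.mem_iInf]
  exact Iff.rfl

theorem coordE_tmul (ω : Module.Basis (Fin n) B L) (p : ℕ) (K : Set.powersetCard (Fin n) p)
    (e : E) (η : ↥(⋀[B]^p L)) :
    LogConn.coordE ω p K (e ⊗ₜ[B] η) = ((ω.exteriorPower p).coord K η) • e := by
  show TensorProduct.rid B E (TensorProduct.map LinearMap.id _ (e ⊗ₜ[B] η)) = _
  rw [TensorProduct.map_tmul, TensorProduct.rid_tmul, LinearMap.id_apply]

/-- The `ω_K`-coordinate of `ω_{g 1} ∧ ⋯ ∧ ω_{g q}` vanishes when some element of `K` is missed by `g`. -/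
theorem coord_ιMulti_eq_zero (ω : Module.Basis (Fin n) B L) {q : ℕ}
    (K : Set.powersetCard (Fin n) q) (g : Fin q → Fin n) (x : Fin n)
    (hxK : x ∈ (K : Finset (Fin n))) (hx : ∀ k, g k ≠ x) :
    (ω.exteriorPower q).coord K (exteriorPower.ιMulti B q (fun k => ω (g k))) = 0 := by
  rw [exteriorPower.basis_coord, exteriorPower.ιMultiDual_apply_ιMulti]
  obtain ⟨j, rfl⟩ := (Set.powersetCard.mem_range_ofFinEmbEquiv_symm_iff_mem K x).mpr hxK
  apply Matrix.det_eq_zero_of_column_eq_zero j
  intro k
  rw [Matrix.of_apply, Module.Basis.coord_apply, Module.Basis.repr_self, Finsupp.single_apply,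
    if_neg (hx k)]

theorem ιMulti_cons_ω (ω : Module.Basis (Fin n) B L) {p : ℕ} (i : Fin n) (g : Fin p → Fin n) :
    (Fin.cons (ω i) (fun k => ω (g k)) : Fin (p + 1) → L) =
      fun k => ω ((Fin.cons i g : Fin (p + 1) → Fin n) k) := by
  funext k
  refine Fin.cases ?_ (fun k' => ?_) k
  · simp
  · simp

section Rule
variable (lam : B) (ω : Module.Basis (Fin n) B L) (ι : KaehlerDifferential A B →ₗ[B] L)
    (nabla : E →ₗ[A] E ⊗[B] L)
    (d : ∀ p : ℕ, ↥(⋀[B]^p L) →ₗ[A] ↥(⋀[B]^(p + 1) L))
    (nablas : ∀ p : ℕ, E ⊗[B] ↥(⋀[B]^p L) →ₗ[A] E ⊗[B] ↥(⋀[B]^(p + 1) L))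

theorem d_ιMulti_ω (hd : LogDiff.IsLogRule (KaehlerDifferential.D A B) ι (⇑ω) d) (p : ℕ)
    (g : Fin p → Fin n) :
    d p (exteriorPower.ιMulti B p (fun k => ω (g k))) = 0 := by
  have h := hd p 1 (fun k => ω (g k)) (fun k => Or.inr ⟨g k, rfl⟩)
  rw [one_smul] at h
  rw [h]
  exact AlternatingMap.map_coord_zero _ (0 : Fin (p + 1))
    (by rw [Fin.cons_zero, Derivation.map_one_eq_zero, map_zero])

theorem nablas_tmul_ιMulti (d' : ∀ p : ℕ, ↥(⋀[B]^p L) →ₗ[A] ↥(⋀[B]^(p + 1) L))
    (hrule : Conn.IsCxRule nabla d' nablas) (p : ℕ) (e : E) (v : Fin p → L) :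
    nablas p (e ⊗ₜ[B] exteriorPower.ιMulti B p v) =
      ∑ i, LogConn.comp nabla ω i e ⊗ₜ[B] exteriorPower.ιMulti B (p + 1) (Fin.cons (ω i) v) +
        e ⊗ₜ[B] d' p (exteriorPower.ιMulti B p v) := by
  rw [hrule p e _, nabla_expand nabla ω e, map_sum, map_sum, LinearMap.sum_apply]
  congr 1
  refine Finset.sum_congr rfl fun i _ => ?_
  rw [Conn.toOne_tmul, Conn.twedge_tmul, wedge_one_ιMulti]

end Rule

section Comm
variable (lam : B) (ω : Module.Basis (Fin n) B L) (ι : KaehlerDifferential A B →ₗ[B] L)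
    (nabla : E →ₗ[A] E ⊗[B] L)
    (d : ∀ p : ℕ, ↥(⋀[B]^p L) →ₗ[A] ↥(⋀[B]^(p + 1) L))
    (nablas : ∀ p : ℕ, E ⊗[B] ↥(⋀[B]^p L) →ₗ[A] E ⊗[B] ↥(⋀[B]^(p + 1) L))

theorem coord_pair (g₀ : Fin 2 ↪o Fin n) (i j : Fin n) :
    (ω.exteriorPower 2).coord (Set.powersetCard.ofFinEmbEquiv g₀)
        (exteriorPower.ιMulti B 2 (Fin.cons (ω i) (fun _ => ω j))) =
      (if i = g₀ 0 then 1 else 0) * (if j = g₀ 1 then 1 else 0) -
        (if i = g₀ 1 then 1 else 0) * (if j = g₀ 0 then 1 else 0) := by
  rw [exteriorPower.basis_coord, exteriorPower.ιMultiDual_apply_ιMulti, Equiv.symm_apply_apply,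
    Matrix.det_fin_two]
  simp only [Matrix.of_apply, Module.Basis.coord_apply]
  have h0 : (Fin.cons (ω i) (fun _ => ω j) : Fin 2 → L) 0 = ω i := rfl
  have h1 : (Fin.cons (ω i) (fun _ => ω j) : Fin 2 → L) 1 = ω j := rfl
  rw [h0, h1, Module.Basis.repr_self, Module.Basis.repr_self, Finsupp.single_apply,
    Finsupp.single_apply, Finsupp.single_apply, Finsupp.single_apply]

/-- Integrability makes the components of `∇` commute (strictly increasing pair). -/
theorem comp_comm_aux (hd : LogDiff.IsLogRule (KaehlerDifferential.D A B) ι (⇑ω) d)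
    (hint : Conn.IsIntegrable nabla (fun p => lam • d p) nablas) (g₀ : Fin 2 ↪o Fin n) (e : E) :
    LogConn.comp nabla ω (g₀ 0) (LogConn.comp nabla ω (g₀ 1) e) =
      LogConn.comp nabla ω (g₀ 1) (LogConn.comp nabla ω (g₀ 0) e) := by
  classical
  have h := hint.2 e
  rw [nabla_expand nabla ω e, map_sum, map_sum] at h
  have h2 := congrArg (LogConn.coordE ω 2 (Set.powersetCard.ofFinEmbEquiv g₀)) h
  rw [map_zero, map_sum] at h2
  have hterm : ∀ j : Fin n,
      LogConn.coordE ω 2 (Set.powersetCard.ofFinEmbEquiv g₀)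
        (nablas 1 (Conn.toOne (LogConn.comp nabla ω j e ⊗ₜ[B] ω j))) =
      ∑ i, ((if i = g₀ 0 then (1 : B) else 0) * (if j = g₀ 1 then 1 else 0) -
        (if i = g₀ 1 then 1 else 0) * (if j = g₀ 0 then 1 else 0)) •
          LogConn.comp nabla ω i (LogConn.comp nabla ω j e) := by
    intro j
    rw [Conn.toOne_tmul, exteriorPower.oneEquiv_symm_apply,
      nablas_tmul_ιMulti ω nabla nablas (fun p => lam • d p) hint.1, map_add, map_sum]
    have hz : d 1 (exteriorPower.ιMulti B 1 (fun _ => ω j)) = 0 :=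
      d_ιMulti_ω ω ι d hd 1 (fun _ => j)
    rw [LinearMap.smul_apply, hz, smul_zero, TensorProduct.tmul_zero, map_zero, add_zero]
    refine Finset.sum_congr rfl fun i _ => ?_
    rw [coordE_tmul, coord_pair]
  simp only [hterm] at h2
  have hsum : ∀ (X : Fin n → Fin n → E) (a b : Fin n),
      ∑ j, ∑ i, ((if i = a then (1 : B) else 0) * (if j = b then 1 else 0)) • X i j = X a b := by
    intro X a b
    rw [Finset.sum_eq_single b, Finset.sum_eq_single a]
    · simp
    · intro i _ hi
      simp [hi]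
    · intro h
      exact absurd (Finset.mem_univ _) h
    · intro j _ hj
      simp [hj]
    · intro h
      exact absurd (Finset.mem_univ _) h
  have e1 := hsum (fun i j => LogConn.comp nabla ω i (LogConn.comp nabla ω j e)) (g₀ 0) (g₀ 1)
  have e2 := hsum (fun i j => LogConn.comp nabla ω i (LogConn.comp nabla ω j e)) (g₀ 1) (g₀ 0)
  beta_reduce at e1 e2
  simp only [sub_smul, Finset.sum_sub_distrib] at h2
  rw [e1, e2] at h2
  exact sub_eq_zero.mp h2

theorem comp_comm_of_isIntegrable (hd : LogDiff.IsLogRule (KaehlerDifferential.D A B) ι (⇑ω) d)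
    (hint : Conn.IsIntegrable nabla (fun p => lam • d p) nablas) (a b : Fin n) (e : E) :
    LogConn.comp nabla ω a (LogConn.comp nabla ω b e) =
      LogConn.comp nabla ω b (LogConn.comp nabla ω a e) := by
  have key : ∀ a b : Fin n, a < b → ∀ e : E,
      LogConn.comp nabla ω a (LogConn.comp nabla ω b e) =
        LogConn.comp nabla ω b (LogConn.comp nabla ω a e) := by
    intro a b hab e
    have hmono : StrictMono (![a, b] : Fin 2 → Fin n) := by
      intro x y hxy
      fin_cases x <;> fin_cases y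
      · exact absurd hxy (lt_irrefl _)
      · exact hab
      · exact absurd hxy (by decide)
      · exact absurd hxy (lt_irrefl _)
    exact comp_comm_aux lam ω ι nabla d nablas hd hint (OrderEmbedding.ofStrictMono _ hmono) e
  rcases lt_trichotomy a b with h | h | h
  · exact key a b h e
  · rw [h]
  · exact (key b a h e).symm

end Comm

section Pieces
variable (lam : B) (t : Fin n → B) (bΩ : Module.Basis (Fin n) B (KaehlerDifferential A B))
    (hbΩ : ∀ i, bΩ i = KaehlerDifferential.D A B (t i))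
    (ω : Module.Basis (Fin n) B L) (ι : KaehlerDifferential A B →ₗ[B] L)
    (hι : ∀ i, ι (KaehlerDifferential.D A B (t i)) = t i • ω i)
    (nabla : E →ₗ[A] E ⊗[B] L)
    (hc : Conn.IsLamConn (ι.compDer (KaehlerDifferential.D A B)) lam nabla)
    (hcomm : ∀ (i j : Fin n) (e : E), LogConn.comp nabla ω i (LogConn.comp nabla ω j e) =
      LogConn.comp nabla ω j (LogConn.comp nabla ω i e))

include hcomm in
theorem compProd_insert_of_comm (i : Fin n) (J : Finset (Fin n)) :
    i ∉ J → ∀ e : E, LogConn.compProd nabla ω (insert i J) e =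
      LogConn.comp nabla ω i (LogConn.compProd nabla ω J e) := by
  classical
  induction J using Finset.induction_on_min with
  | empty =>
    intro _ e
    rw [compProd_insert nabla ω i ∅ (by simp)]
    rfl
  | insert j J' hj ih =>
    intro hi e
    have hij : i ≠ j := fun h => hi (h ▸ Finset.mem_insert_self _ _)
    have hiJ' : i ∉ J' := fun h => hi (Finset.mem_insert_of_mem h)
    rcases lt_or_gt_of_ne hij with h | h
    · have hlt : ∀ x ∈ insert j J', i < x := by
        intro x hx
        rcases Finset.mem_insert.mp hx with rfl | hx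
        · exact h
        · exact h.trans (hj x hx)
      rw [compProd_insert nabla ω i (insert j J') hlt]
      rfl
    · have hlt : ∀ x ∈ insert i J', j < x := by
        intro x hx
        rcases Finset.mem_insert.mp hx with rfl | hx
        · exact h
        · exact hj x hx
      rw [Finset.insert_comm i j J', compProd_insert nabla ω j (insert i J') hlt,
        LinearMap.comp_apply, ih hiJ' e, compProd_insert nabla ω j J' hj, LinearMap.comp_apply,
        hcomm]

include hcomm in
theorem comp_compProd_comm (i : Fin n) (J : Finset (Fin n)) :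
    ∀ e : E, LogConn.comp nabla ω i (LogConn.compProd nabla ω J e) =
      LogConn.compProd nabla ω J (LogConn.comp nabla ω i e) := by
  classical
  induction J using Finset.induction_on_min with
  | empty =>
    intro e
    rw [compProd_empty]
    rfl
  | insert j J' hj ih =>
    intro e
    rw [compProd_insert nabla ω j J' hj, LinearMap.comp_apply, LinearMap.comp_apply, hcomm, ih e]

omit [Module A L] [IsScalarTower A B L] in
theorem sdiff_insert_insert (i : Fin n) (K J : Finset (Fin n)) (hi : i ∉ K) :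
    K \ J = insert i K \ insert i J := by
  ext x
  simp only [Finset.mem_sdiff, Finset.mem_insert]
  constructor
  · rintro ⟨k1, k2⟩
    refine ⟨Or.inr k1, ?_⟩
    rintro (k3 | k3)
    · exact hi (k3 ▸ k1)
    · exact k2 k3
  · rintro ⟨k1 | k1, k2⟩
    · exact absurd (Or.inl k1) k2
    · exact ⟨k1, fun k3 => k2 (Or.inr k3)⟩

include hbΩ hι hc hcomm in
/-- `∇_i` maps `E_K` into `E_{K ∪ {i}}` for `i ∉ K`. -/
theorem comp_mem_piece_insert (i : Fin n) (K : Finset (Fin n)) (hi : i ∉ K) (x : E)
    (hx : x ∈ LogConn.piece nabla ω t K) :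
    LogConn.comp nabla ω i x ∈ LogConn.piece nabla ω t (insert i K) := by
  classical
  have key : LogConn.piece nabla ω t K ≤
      (LogConn.piece nabla ω t (insert i K)).comap (LogConn.comp nabla ω i) := by
    apply piece_le
    intro J hJ e
    rw [Submodule.mem_comap, comp_smul lam t bΩ hbΩ ω ι hι nabla hc,
      pd_tt t bΩ hbΩ i (K \ J) (fun h => hi (Finset.mem_sdiff.mp h).1)]
    simp only [mul_zero, zero_mul, zero_smul, add_zero]
    have hiJ : i ∉ J := fun h => hi (hJ h)
    rw [← compProd_insert_of_comm ω nabla hcomm i J hiJ e, sdiff_insert_insert i K J hi]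
    exact mem_piece nabla ω t (insert i K) (insert i J) (Finset.insert_subset_insert i hJ) e
  exact key hx

end Pieces

section Layer
variable (lam : B) (t : Fin n → B) (bΩ : Module.Basis (Fin n) B (KaehlerDifferential A B))
    (hbΩ : ∀ i, bΩ i = KaehlerDifferential.D A B (t i))
    (ω : Module.Basis (Fin n) B L) (ι : KaehlerDifferential A B →ₗ[B] L)
    (hι : ∀ i, ι (KaehlerDifferential.D A B (t i)) = t i • ω i)
    (nabla : E →ₗ[A] E ⊗[B] L)
    (hc : Conn.IsLamConn (ι.compDer (KaehlerDifferential.D A B)) lam nabla)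
    (d : ∀ p : ℕ, ↥(⋀[B]^p L) →ₗ[A] ↥(⋀[B]^(p + 1) L))
    (hd : LogDiff.IsLogRule (KaehlerDifferential.D A B) ι (⇑ω) d)
    (nablas : ∀ p : ℕ, E ⊗[B] ↥(⋀[B]^p L) →ₗ[A] E ⊗[B] ↥(⋀[B]^(p + 1) L))
    (hint : Conn.IsIntegrable nabla (fun p => lam • d p) nablas)

/-- Expansion of an element of `E ⊗ Λ^p L` along the basis `ω_K`. -/
theorem layer_expand (p : ℕ) (x : E ⊗[B] ↥(⋀[B]^p L)) :
    x = ∑ K : Set.powersetCard (Fin n) p, LogConn.coordE ω p K x ⊗ₜ[B]
      exteriorPower.ιMulti B p (fun k => ω (Set.powersetCard.ofFinEmbEquiv.symm K k)) := by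
  refine (tensor_basis_expand (ω.exteriorPower p) x).trans (Finset.sum_congr rfl fun K _ => ?_)
  rw [exteriorPower.basis_apply]
  rfl

include hbΩ hι hc hd hint in
theorem nablas_mem_layer (p : ℕ) (x : E ⊗[B] ↥(⋀[B]^p L))
    (hx : x ∈ LogConn.layer nabla ω t p) :
    nablas p x ∈ LogConn.layer nabla ω t (p + 1) := by
  classical
  have hcomm := comp_comm_of_isIntegrable lam ω ι nabla d nablas hd hint
  rw [mem_layer_iff] at hx ⊢
  intro K'
  rw [layer_expand ω p x, map_sum, map_sum]
  refine Submodule.sum_mem _ fun K _ => ?_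
  have hyK := hx K
  generalize LogConn.coordE ω p K x = y at hyK ⊢
  rw [nablas_tmul_ιMulti ω nabla nablas (fun p => lam • d p) hint.1, map_add, map_sum,
    LinearMap.smul_apply, d_ιMulti_ω ω ι d hd p _, smul_zero, TensorProduct.tmul_zero, map_zero,
    add_zero]
  refine Submodule.sum_mem _ fun i _ => ?_
  rw [coordE_tmul, ιMulti_cons_ω]
  by_cases h : ∃ x ∈ (K' : Finset (Fin n)), ∀ k,
      (Fin.cons i (fun k => Set.powersetCard.ofFinEmbEquiv.symm K k) : Fin (p + 1) → Fin n) k ≠ x
  · obtain ⟨x, hxK, hx⟩ := h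
    rw [coord_ιMulti_eq_zero ω K' _ x hxK hx, zero_smul]
    exact Submodule.zero_mem _
  · push Not at h
    have hsub : (K' : Finset (Fin n)) ⊆ insert i (K : Finset (Fin n)) := by
      intro x hxK
      obtain ⟨k, hk⟩ := h x hxK
      revert hk
      refine Fin.cases ?_ (fun k' => ?_) k
      · intro hk
        rw [Fin.cons_zero] at hk
        rw [← hk]
        exact Finset.mem_insert_self _ _
      · intro hk
        rw [Fin.cons_succ] at hk
        rw [← hk]
        exact Finset.mem_insert_of_mem (Finset.orderEmbOfFin_mem _ K.prop k')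
    have hcK : (K : Finset (Fin n)).card = p := K.prop
    have hcK' : (K' : Finset (Fin n)).card = p + 1 := K'.prop
    have heq : (K' : Finset (Fin n)) = insert i (K : Finset (Fin n)) := by
      apply Finset.eq_of_subset_of_card_le hsub
      calc (insert i (K : Finset (Fin n))).card ≤ (K : Finset (Fin n)).card + 1 :=
            Finset.card_insert_le _ _
        _ = (K' : Finset (Fin n)).card := by rw [hcK, hcK']
    have hiK : i ∉ (K : Finset (Fin n)) := by
      intro hmem
      rw [Finset.insert_eq_of_mem hmem] at heq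
      rw [heq, hcK] at hcK'
      omega
    rw [heq]
    exact smul_mem_piece lam t bΩ hbΩ ω ι hι nabla hc _ _ _
      (comp_mem_piece_insert lam t bΩ hbΩ ω ι hι nabla hc hcomm i _ hiK y hyK)

end Layer

end Main

end Groth.Agent.Lib.Helper99.LogLayer
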