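import Groth.Agent.Lib.Helper99.LogLayer

/-!
Independence of the layers of a logarithmic λ-connection of the choice of coordinates with the same
branches (helper99).
-/

set_option autoImplicit false
set_option linter.unusedSectionVars false
set_option linter.unusedVariables false
universe v u
open TensorProduct

namespace Groth.Agent.Lib.Helper99.LogLayer

open Groth.Agent.Lib.Helper84.LogC

section Alt
variable {B L N : Type*} [CommRing B] [AddCommGroup L] [Module B L] [AddCommGroup N] [Module B N]

theorem alt_split {q : ℕ} (f : L [⋀^Fin q]→ₗ[B] N) (w : Fin q → L) (k : Fin q) (a y : L) (c : B)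
    (hw : w k = a + c • y) :
    f w = f (Function.update w k a) + c • f (Function.update w k y) := by
  conv_lhs => rw [← Function.update_eq_self k w, hw]
  rw [AlternatingMap.map_update_add, AlternatingMap.map_update_smul]

theorem alt_cons_add {q : ℕ} (f : L [⋀^Fin (q + 1)]→ₗ[B] N) (v : Fin q → L) (x y : L) :
    f (Fin.cons (x + y) v) = f (Fin.cons x v) + f (Fin.cons y v) :=
  f.map_vecCons_add v x y

theorem alt_cons_smul {q : ℕ} (f : L [⋀^Fin (q + 1)]→ₗ[B] N) (v : Fin q → L) (c : B) (x : L) :
    f (Fin.cons (c • x) v) = c • f (Fin.cons x v) :=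
  f.map_vecCons_smul v c x

end Alt

section Main
variable {A : Type v} {B L E : Type u} [CommRing A] [CommRing B]
    [Algebra A B] [AddCommGroup L] [Module B L] [Module A L] [IsScalarTower A B L]
    [AddCommGroup E] [Module B E] [Module A E] [IsScalarTower A B E]
    {n : ℕ}

/-- The logarithmic de Rham rule is insensitive to replacing `ωᵢ` by `ωᵢ + uᵢ⁻¹ ι(duᵢ)`. -/
theorem isLogRule_shift (ι : KaehlerDifferential A B →ₗ[B] L) (ω ω' : Fin n → L)
    (d : ∀ p : ℕ, ↥(⋀[B]^p L) →ₗ[A] ↥(⋀[B]^(p + 1) L))
    (hd : LogDiff.IsLogRule (KaehlerDifferential.D A B) ι ω d)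
    (u : Fin n → Bˣ)
    (hω' : ∀ i, ω' i = ω i + ((u i)⁻¹ : Bˣ).val • ι (KaehlerDifferential.D A B (u i : B))) :
    LogDiff.IsLogRule (KaehlerDifferential.D A B) ι ω' d := by
  classical
  intro p b₀ e he
  have claim : ∀ (m : ℕ) (e : Fin p → L),
      (∀ k, (∃ b, e k = ι (KaehlerDifferential.D A B b)) ∨ (∃ i, e k = ω i) ∨ ∃ i, e k = ω' i) →
      (Finset.univ.filter (fun k =>
        ¬ ((∃ b, e k = ι (KaehlerDifferential.D A B b)) ∨ ∃ i, e k = ω i))).card ≤ m →
      ∀ b₀ : B, d p (b₀ • exteriorPower.ιMulti B p e) =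
        exteriorPower.ιMulti B (p + 1) (Fin.cons (ι (KaehlerDifferential.D A B b₀)) e) := by
    intro m
    induction m with
    | zero =>
      intro e hgood hcard b₀
      apply hd p b₀ e
      intro k
      by_contra hk
      have hmem : k ∈ Finset.univ.filter (fun k =>
          ¬ ((∃ b, e k = ι (KaehlerDifferential.D A B b)) ∨ ∃ i, e k = ω i)) :=
        Finset.mem_filter.mpr ⟨Finset.mem_univ _, hk⟩
      have := Finset.card_pos.mpr ⟨k, hmem⟩
      omega
    | succ m ih =>
      intro e hgood hcard b₀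
      by_cases hall : ∀ k, (∃ b, e k = ι (KaehlerDifferential.D A B b)) ∨ ∃ i, e k = ω i
      · exact hd p b₀ e hall
      · obtain ⟨k₀, hk₀⟩ := not_forall.mp hall
        obtain ⟨i, hi⟩ : ∃ i, e k₀ = ω' i := by
          rcases hgood k₀ with h | h | h
          · exact absurd (Or.inl h) hk₀
          · exact absurd (Or.inr h) hk₀
          · exact h
        obtain ⟨c, hc⟩ : ∃ c : B, c = ((u i)⁻¹ : Bˣ).val := ⟨_, rfl⟩
        obtain ⟨y, hy⟩ : ∃ y : L, y = ι (KaehlerDifferential.D A B (u i : B)) := ⟨_, rfl⟩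
        have hcu : c * (u i : B) = 1 := by rw [hc]; exact Units.inv_mul (u i)
        have hek : e k₀ = ω i + c • y := by rw [hi, hω' i, hc, hy]
        have hbad : ∀ z : L, ((∃ b, z = ι (KaehlerDifferential.D A B b)) ∨ ∃ i, z = ω i) →
            (∀ k, (∃ b, Function.update e k₀ z k = ι (KaehlerDifferential.D A B b)) ∨
              (∃ i, Function.update e k₀ z k = ω i) ∨ ∃ i, Function.update e k₀ z k = ω' i) ∧
            (Finset.univ.filter (fun k =>
              ¬ ((∃ b, Function.update e k₀ z k = ι (KaehlerDifferential.D A B b)) ∨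
                ∃ i, Function.update e k₀ z k = ω i))).card ≤ m := by
          intro z hz
          constructor
          · intro k
            by_cases hk : k = k₀
            · rw [hk, Function.update_self]
              rcases hz with h | h
              · exact Or.inl h
              · exact Or.inr (Or.inl h)
            · rw [Function.update_of_ne hk]
              exact hgood k
          · have hsub : (Finset.univ.filter (fun k =>
                ¬ ((∃ b, Function.update e k₀ z k = ι (KaehlerDifferential.D A B b)) ∨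
                  ∃ i, Function.update e k₀ z k = ω i))) ⊆
                (Finset.univ.filter (fun k =>
                  ¬ ((∃ b, e k = ι (KaehlerDifferential.D A B b)) ∨ ∃ i, e k = ω i))).erase k₀ := by
              intro k hk
              rw [Finset.mem_filter] at hk
              have hkk : k ≠ k₀ := by
                intro h
                apply hk.2
                rw [h, Function.update_self]
                exact hz
              rw [Function.update_of_ne hkk] at hk
              exact Finset.mem_erase.mpr ⟨hkk, Finset.mem_filter.mpr hk⟩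
            have hk₀mem : k₀ ∈ Finset.univ.filter (fun k =>
                ¬ ((∃ b, e k = ι (KaehlerDifferential.D A B b)) ∨ ∃ i, e k = ω i)) :=
              Finset.mem_filter.mpr ⟨Finset.mem_univ _, hk₀⟩
            have h1 := Finset.card_le_card hsub
            rw [Finset.card_erase_of_mem hk₀mem] at h1
            omega
        obtain ⟨hg1, hc1⟩ := hbad (ω i) (Or.inr ⟨i, rfl⟩)
        obtain ⟨hg2, hc2⟩ := hbad y (Or.inl ⟨(u i : B), hy⟩)
        have ih1 := ih _ hg1 hc1 b₀
        have ih2 := ih _ hg2 hc2 (b₀ * c)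
        rw [alt_split (exteriorPower.ιMulti B p) e k₀ (ω i) y c hek, smul_add, smul_smul, map_add,
          ih1, ih2]
        have hcons : (Fin.cons (ι (KaehlerDifferential.D A B b₀)) e : Fin (p + 1) → L) k₀.succ =
            ω i + c • y := by rw [Fin.cons_succ, hek]
        rw [alt_split (exteriorPower.ιMulti B (p + 1))
          (Fin.cons (ι (KaehlerDifferential.D A B b₀)) e) k₀.succ (ω i) y c hcons,
          ← Fin.cons_update, ← Fin.cons_update]
        congr 1
        rw [Derivation.leibniz, map_add, map_smul, map_smul, alt_cons_add, alt_cons_smul,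
          alt_cons_smul]
        have hzero : exteriorPower.ιMulti B (p + 1)
            (Fin.cons (ι (KaehlerDifferential.D A B c)) (Function.update e k₀ y)) = 0 := by
          have hDc : KaehlerDifferential.D A B c = -c ^ 2 • KaehlerDifferential.D A B (u i : B) :=
            Derivation.leibniz_of_mul_eq_one _ hcu
          rw [hDc, map_smul, ← hy, alt_cons_smul]
          have h0 : exteriorPower.ιMulti B (p + 1) (Fin.cons y (Function.update e k₀ y)) = 0 := by
            refine AlternatingMap.map_eq_zero_of_eq _ _ (i := 0) (j := k₀.succ) ?_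
              (Fin.succ_ne_zero k₀).symm
            rw [Fin.cons_zero, Fin.cons_succ, Function.update_self]
          rw [h0, smul_zero]
        rw [hzero, smul_zero, zero_add]
  exact claim p e (fun k => (he k).elim Or.inl (fun h => Or.inr (Or.inr h)))
    ((Finset.card_filter_le _ _).trans (by rw [Finset.card_univ, Fintype.card_fin])) b₀

section Pieces
variable (lam : B) (t : Fin n → B) (bΩ : Module.Basis (Fin n) B (KaehlerDifferential A B))
    (hbΩ : ∀ i, bΩ i = KaehlerDifferential.D A B (t i))
    (ω : Module.Basis (Fin n) B L) (ι : KaehlerDifferential A B →ₗ[B] L)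
    (hι : ∀ i, ι (KaehlerDifferential.D A B (t i)) = t i • ω i)
    (nabla : E →ₗ[A] E ⊗[B] L)
    (hc : Conn.IsLamConn (ι.compDer (KaehlerDifferential.D A B)) lam nabla)
    (hcomm : ∀ (i j : Fin n) (e : E), LogConn.comp nabla ω i (LogConn.comp nabla ω j e) =
      LogConn.comp nabla ω j (LogConn.comp nabla ω i e))

include hbΩ hι in
theorem coord_iota (i : Fin n) (η : KaehlerDifferential A B) :
    ω.coord i (ι η) = bΩ.coord i η * t i := by
  have h1 : η = ∑ j, bΩ.coord j η • bΩ j := by
    simp only [Module.Basis.coord_apply]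
    exact (bΩ.sum_repr _).symm
  conv_lhs => rw [h1]
  simp only [map_sum, map_smul, hbΩ, hι, Module.Basis.coord_apply, Module.Basis.repr_self,
    smul_eq_mul]
  rw [Finset.sum_eq_single i]
  · simp
  · intro j _ hji
    simp [hji]
  · simp

include hbΩ in
theorem pd_tt_mul (m : Fin n) (S : Finset (Fin n)) :
    pd bΩ m (tt t S) * t m = if m ∈ S then tt t S else 0 := by
  classical
  by_cases hm : m ∈ S
  · rw [if_pos hm]
    have h1 : tt t S = t m * tt t (S.erase m) := by
      unfold tt
      exact (Finset.mul_prod_erase S t hm).symm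
    rw [h1, pd_mul, pd_tt t bΩ hbΩ m (S.erase m) (Finset.notMem_erase m S), pd_t t bΩ hbΩ,
      if_pos rfl]
    ring
  · rw [if_neg hm, pd_tt t bΩ hbΩ m S hm, zero_mul]

include hbΩ hι hc hcomm in
/-- Every component `∇_m` preserves every piece `E_K`. -/
theorem comp_mem_piece (m : Fin n) (K : Finset (Fin n)) (x : E)
    (hx : x ∈ LogConn.piece nabla ω t K) :
    LogConn.comp nabla ω m x ∈ LogConn.piece nabla ω t K := by
  classical
  have key : LogConn.piece nabla ω t K ≤
      (LogConn.piece nabla ω t K).comap (LogConn.comp nabla ω m) := by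
    apply piece_le
    intro J hJ e
    rw [Submodule.mem_comap, comp_smul lam t bΩ hbΩ ω ι hι nabla hc,
      comp_compProd_comm ω nabla hcomm m J e, mul_assoc, pd_tt_mul t bΩ hbΩ]
    refine Submodule.add_mem _ (mem_piece nabla ω t K J hJ _) ?_
    split_ifs with h
    · rw [mul_smul]
      exact smul_mem_piece lam t bΩ hbΩ ω ι hι nabla hc K lam _ (mem_piece nabla ω t K J hJ e)
    · rw [mul_zero, zero_smul]
      exact Submodule.zero_mem _
  exact key hx

include hbΩ hι hc hcomm in
theorem piece_insert_le (i : Fin n) (K : Finset (Fin n)) (hi : i ∉ K) :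
    LogConn.piece nabla ω t (insert i K) ≤ LogConn.piece nabla ω t K := by
  classical
  apply piece_le
  intro J hJ e
  by_cases hiJ : i ∈ J
  · obtain ⟨J₀, hJ₀, hiJ₀⟩ : ∃ J₀, J = insert i J₀ ∧ i ∉ J₀ :=
      ⟨J.erase i, (Finset.insert_erase hiJ).symm, Finset.notMem_erase i J⟩
    subst hJ₀
    have hJ₀K : J₀ ⊆ K := by
      intro x hx
      rcases Finset.mem_insert.mp (hJ (Finset.mem_insert_of_mem hx)) with h | h
      · exact absurd (h ▸ hx) hiJ₀
      · exact h
    rw [compProd_insert_of_comm ω nabla hcomm i J₀ hiJ₀ e, comp_compProd_comm ω nabla hcomm i J₀ e,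
      ← sdiff_insert_insert i K J₀ hi]
    exact mem_piece nabla ω t K J₀ hJ₀K _
  · have hJK : J ⊆ K := by
      intro x hx
      rcases Finset.mem_insert.mp (hJ hx) with h | h
      · exact absurd (h ▸ hx) hiJ
      · exact h
    have h1 : tt t (insert i K \ J) = t i * tt t (K \ J) := by
      unfold tt
      rw [Finset.insert_sdiff_of_notMem K hiJ, Finset.prod_insert]
      exact fun h => hi (Finset.mem_sdiff.mp h).1
    rw [h1, mul_smul]
    exact smul_mem_piece lam t bΩ hbΩ ω ι hι nabla hc K (t i) _ (mem_piece nabla ω t K J hJK e)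

include hbΩ hι hc hcomm in
theorem piece_antitone (K₁ K₂ : Finset (Fin n)) (h : K₁ ⊆ K₂) :
    LogConn.piece nabla ω t K₂ ≤ LogConn.piece nabla ω t K₁ := by
  classical
  have key : ∀ S : Finset (Fin n),
      LogConn.piece nabla ω t (K₁ ∪ S) ≤ LogConn.piece nabla ω t K₁ := by
    intro S
    induction S using Finset.induction_on with
    | empty => rw [Finset.union_empty]
    | insert a S ha ih =>
      rw [Finset.union_insert]
      by_cases hmem : a ∈ K₁ ∪ S
      · rw [Finset.insert_eq_of_mem hmem]
        exact ih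
      · exact (piece_insert_le lam t bΩ hbΩ ω ι hι nabla hc hcomm a _ hmem).trans ih
  have := key (K₂ \ K₁)
  rwa [Finset.union_sdiff_of_subset h] at this

end Pieces

section Compare
variable (lam : B) (t : Fin n → B) (bΩ : Module.Basis (Fin n) B (KaehlerDifferential A B))
    (hbΩ : ∀ i, bΩ i = KaehlerDifferential.D A B (t i))
    (ω : Module.Basis (Fin n) B L) (ι : KaehlerDifferential A B →ₗ[B] L)
    (hι : ∀ i, ι (KaehlerDifferential.D A B (t i)) = t i • ω i)
    (nabla : E →ₗ[A] E ⊗[B] L)
    (hc : Conn.IsLamConn (ι.compDer (KaehlerDifferential.D A B)) lam nabla)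
    (hcomm : ∀ (i j : Fin n) (e : E), LogConn.comp nabla ω i (LogConn.comp nabla ω j e) =
      LogConn.comp nabla ω j (LogConn.comp nabla ω i e))
    (t' : Fin n → B) (ω' : Module.Basis (Fin n) B L)
    (hshift : ∀ j m : Fin n, ∃ a : B, ω'.coord j (ω m) = (if m = j then 1 else 0) + a * t j)
    (httu : ∀ S : Finset (Fin n), ∃ c : B, tt t' S = c * tt t S)

theorem comp_change (j : Fin n) (e : E) :
    LogConn.comp nabla ω' j e = ∑ m, (ω'.coord j (ω m)) • LogConn.comp nabla ω m e := by
  show TensorProduct.rid B E (TensorProduct.map LinearMap.id (ω'.coord j) (nabla e)) = _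
  rw [nabla_expand nabla ω e, map_sum, map_sum]
  refine Finset.sum_congr rfl fun m _ => ?_
  rw [TensorProduct.map_tmul, TensorProduct.rid_tmul, LinearMap.id_apply]

include hbΩ hι hc hcomm hshift in
/-- The ordered composites of the components in the new basis land in the old pieces. -/
theorem compProd'_mem_piece (J : Finset (Fin n)) :
    ∀ e : E, LogConn.compProd nabla ω' J e ∈ LogConn.piece nabla ω t J := by
  classical
  induction J using Finset.induction_on_min with
  | empty =>
    intro e
    have := mem_piece nabla ω t ∅ ∅ (subset_refl _) e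
    simpa [tt, compProd_empty] using this
  | insert j J' hj ih =>
    intro e
    have hjJ' : j ∉ J' := fun h => lt_irrefl _ (hj j h)
    rw [compProd_insert nabla ω' j J' hj, LinearMap.comp_apply, comp_change ω nabla ω' j]
    refine Submodule.sum_mem _ fun m _ => ?_
    obtain ⟨a, ha⟩ := hshift j m
    rw [ha, add_smul]
    refine Submodule.add_mem _ ?_ ?_
    · split_ifs with h
      · rw [one_smul, h]
        exact comp_mem_piece_insert lam t bΩ hbΩ ω ι hι nabla hc hcomm j J' hjJ' _ (ih e)
      · rw [zero_smul]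
        exact Submodule.zero_mem _
    · rw [mul_smul]
      apply smul_mem_piece lam t bΩ hbΩ ω ι hι nabla hc
      have h1 := tt_smul_mem_piece nabla ω t (insert j J') J' (Finset.subset_insert j J') _
        (comp_mem_piece lam t bΩ hbΩ ω ι hι nabla hc hcomm m J' _ (ih e))
      rw [Finset.insert_sdiff_cancel hjJ'] at h1
      simpa [tt] using h1

include hbΩ hι hc hcomm hshift httu in
theorem piece'_le_piece (I : Finset (Fin n)) :
    LogConn.piece nabla ω' t' I ≤ LogConn.piece nabla ω t I := by
  apply piece_le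
  intro J hJ e
  obtain ⟨c, hcc⟩ := httu (I \ J)
  rw [hcc, mul_smul]
  apply smul_mem_piece lam t bΩ hbΩ ω ι hι nabla hc
  exact tt_smul_mem_piece nabla ω t I J hJ _
    (compProd'_mem_piece lam t bΩ hbΩ ω ι hι nabla hc hcomm ω' hshift J e)

include hbΩ hι hc hcomm hshift in
theorem layer_le_layer
    (hP : ∀ I, LogConn.piece nabla ω t I ≤ LogConn.piece nabla ω' t' I) (p : ℕ) :
    LogConn.layer nabla ω t p ≤ LogConn.layer nabla ω' t' p := by
  classical
  intro x hx
  rw [mem_layer_iff] at hx ⊢
  intro K'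
  apply hP
  rw [layer_expand ω p x, map_sum]
  refine Submodule.sum_mem _ fun K _ => ?_
  have hyK := hx K
  generalize LogConn.coordE ω p K x = y at hyK ⊢
  rw [coordE_tmul, exteriorPower.basis_coord, exteriorPower.ιMultiDual_apply_ιMulti]
  obtain ⟨N, hN⟩ : ∃ N : Matrix (Fin p) (Fin p) B, N = Matrix.of fun k j =>
      ω'.coord (Set.powersetCard.ofFinEmbEquiv.symm K' j)
        (ω (Set.powersetCard.ofFinEmbEquiv.symm K k)) := ⟨_, rfl⟩
  rw [← hN]
  obtain ⟨s, hs⟩ : ∃ s : Fin p → B, s = fun j =>
      if Set.powersetCard.ofFinEmbEquiv.symm K' j ∈ (K : Finset (Fin n)) then 1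
      else t (Set.powersetCard.ofFinEmbEquiv.symm K' j) := ⟨_, rfl⟩
  have hdiv : ∀ k j, ∃ c, N k j = s j * c := by
    intro k j
    obtain ⟨a, ha⟩ := hshift (Set.powersetCard.ofFinEmbEquiv.symm K' j)
      (Set.powersetCard.ofFinEmbEquiv.symm K k)
    by_cases hj : Set.powersetCard.ofFinEmbEquiv.symm K' j ∈ (K : Finset (Fin n))
    · refine ⟨N k j, ?_⟩
      rw [hs]
      simp only [if_pos hj, one_mul]
    · refine ⟨a, ?_⟩
      have hne : Set.powersetCard.ofFinEmbEquiv.symm K k ≠
          Set.powersetCard.ofFinEmbEquiv.symm K' j :=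
        fun h => hj (h ▸ Finset.orderEmbOfFin_mem _ K.prop k)
      rw [hs, hN]
      simp only [if_neg hj, Matrix.of_apply, ha, if_neg hne, zero_add, mul_comm]
  choose M' hM' using hdiv
  have hNM : N = Matrix.of fun k j => s j * M' k j := by
    ext k j
    exact hM' k j
  have hprod : ∏ j, s j = tt t ((K' : Finset (Fin n)) \ (K : Finset (Fin n))) := by
    have h1 : ∀ f : Fin n → B, ∏ j, f (Set.powersetCard.ofFinEmbEquiv.symm K' j) =
        ∏ x ∈ (K' : Finset (Fin n)), f x := by
      intro f
      conv_rhs => rw [← Finset.image_orderEmbOfFin_univ (K' : Finset (Fin n)) K'.prop]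
      rw [Finset.prod_image (fun a _ b _ h => (Finset.orderEmbOfFin _ K'.prop).injective h)]
      rfl
    rw [hs, h1 (fun x => if x ∈ (K : Finset (Fin n)) then 1 else t x), Finset.prod_ite,
      Finset.prod_const_one, one_mul, Finset.sdiff_eq_filter]
    rfl
  rw [hNM, Matrix.det_mul_row s (M' : Matrix (Fin p) (Fin p) B), hprod, mul_comm, mul_smul]
  apply smul_mem_piece lam t bΩ hbΩ ω ι hι nabla hc
  have h1 : y ∈ LogConn.piece nabla ω t ((K : Finset (Fin n)) ∩ (K' : Finset (Fin n))) :=
    piece_antitone lam t bΩ hbΩ ω ι hι nabla hc hcomm _ _ Finset.inter_subset_left hyK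
  have h2 := tt_smul_mem_piece nabla ω t (K' : Finset (Fin n))
    ((K : Finset (Fin n)) ∩ (K' : Finset (Fin n))) Finset.inter_subset_right y h1
  have h3 : (K' : Finset (Fin n)) \ ((K : Finset (Fin n)) ∩ (K' : Finset (Fin n))) =
      (K' : Finset (Fin n)) \ (K : Finset (Fin n)) := by
    ext x
    simp only [Finset.mem_sdiff, Finset.mem_inter]
    tauto
  rwa [h3] at h2

end Compare

section Units
variable (lam : B) (t : Fin n → B) (bΩ : Module.Basis (Fin n) B (KaehlerDifferential A B))
    (hbΩ : ∀ i, bΩ i = KaehlerDifferential.D A B (t i))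
    (ω : Module.Basis (Fin n) B L) (ι : KaehlerDifferential A B →ₗ[B] L)
    (hι : ∀ i, ι (KaehlerDifferential.D A B (t i)) = t i • ω i)
    (nabla : E →ₗ[A] E ⊗[B] L)
    (hc : Conn.IsLamConn (ι.compDer (KaehlerDifferential.D A B)) lam nabla)
    (d : ∀ p : ℕ, ↥(⋀[B]^p L) →ₗ[A] ↥(⋀[B]^(p + 1) L))
    (hd : LogDiff.IsLogRule (KaehlerDifferential.D A B) ι (⇑ω) d)
    (nablas : ∀ p : ℕ, E ⊗[B] ↥(⋀[B]^p L) →ₗ[A] E ⊗[B] ↥(⋀[B]^(p + 1) L))
    (hint : Conn.IsIntegrable nabla (fun p => lam • d p) nablas)
    (u : Fin n → Bˣ) (bΩ' : Module.Basis (Fin n) B (KaehlerDifferential A B))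
    (hbΩ' : ∀ i, bΩ' i = KaehlerDifferential.D A B ((u i : B) * t i))
    (ω' : Module.Basis (Fin n) B L)
    (hω' : ∀ i, ω' i = ω i + ((u i)⁻¹ : Bˣ).val • ι (KaehlerDifferential.D A B (u i : B)))

include hι hω' in
theorem hι'_of_units (i : Fin n) :
    ι (KaehlerDifferential.D A B ((u i : B) * t i)) = ((u i : B) * t i) • ω' i := by
  rw [hω' i, Derivation.leibniz, map_add, map_smul, map_smul, hι i, smul_add, smul_smul, smul_smul]
  congr 1
  have h1 : (u i : B) * t i * ((u i)⁻¹ : Bˣ).val = t i := by
    rw [mul_comm (u i : B) (t i), mul_assoc, Units.mul_inv, mul_one]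
  rw [h1]

include hι hω' hbΩ' in
theorem hshift_fwd (j m : Fin n) :
    ∃ a : B, ω'.coord j (ω m) = (if m = j then 1 else 0) + a * t j := by
  have hι' := hι'_of_units t ω ι hι u ω' hω'
  have h1 : ω m = ω' m - ((u m)⁻¹ : Bˣ).val • ι (KaehlerDifferential.D A B (u m : B)) := by
    rw [hω' m, add_sub_cancel_right]
  refine ⟨-(((u m)⁻¹ : Bˣ).val * bΩ'.repr (KaehlerDifferential.D A B (u m : B)) j * (u j : B)), ?_⟩
  rw [h1, map_sub, map_smul, coord_iota (fun i => (u i : B) * t i) bΩ' hbΩ' ω' ι hι' j]
  simp only [Module.Basis.coord_apply, Module.Basis.repr_self, Finsupp.single_apply, smul_eq_mul]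
  ring

include hbΩ hι hω' in
theorem hshift_bwd (j m : Fin n) :
    ∃ a : B, ω.coord j (ω' m) = (if m = j then 1 else 0) + a * ((u j : B) * t j) := by
  have hu : ((u j)⁻¹ : Bˣ).val * (u j : B) = 1 := Units.inv_mul _
  refine ⟨((u m)⁻¹ : Bˣ).val * bΩ.repr (KaehlerDifferential.D A B (u m : B)) j *
    ((u j)⁻¹ : Bˣ).val, ?_⟩
  rw [hω' m, map_add, map_smul, coord_iota t bΩ hbΩ ω ι hι j]
  simp only [Module.Basis.coord_apply, Module.Basis.repr_self, Finsupp.single_apply, smul_eq_mul]
  linear_combination
    (-(((u m)⁻¹ : Bˣ).val * bΩ.repr (KaehlerDifferential.D A B (u m : B)) j * t j)) * hu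

theorem httu_fwd (S : Finset (Fin n)) :
    ∃ c : B, tt (fun i => (u i : B) * t i) S = c * tt t S := by
  refine ⟨∏ i ∈ S, (u i : B), ?_⟩
  unfold tt
  rw [Finset.prod_mul_distrib]

theorem httu_bwd (S : Finset (Fin n)) :
    ∃ c : B, tt t S = c * tt (fun i => (u i : B) * t i) S := by
  refine ⟨∏ i ∈ S, ((u i)⁻¹ : Bˣ).val, ?_⟩
  unfold tt
  rw [← Finset.prod_mul_distrib]
  refine Finset.prod_congr rfl fun i _ => ?_
  rw [← mul_assoc, Units.inv_mul, one_mul]

include hbΩ hι hc hd hint hbΩ' hω' in
/-- The layers do not depend on the choice of coordinates with the same branches. -/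
theorem layer_eq_layer_of_units (p : ℕ) :
    LogConn.layer nabla ω t p = LogConn.layer nabla ω' (fun i => (u i : B) * t i) p := by
  have hι' := hι'_of_units t ω ι hι u ω' hω'
  have hd' : LogDiff.IsLogRule (KaehlerDifferential.D A B) ι (⇑ω') d :=
    isLogRule_shift ι (⇑ω) (⇑ω') d hd u hω'
  have hcomm := comp_comm_of_isIntegrable lam ω ι nabla d nablas hd hint
  have hcomm' := comp_comm_of_isIntegrable lam ω' ι nabla d nablas hd' hint
  have hs1 := hshift_fwd t ω ι hι u bΩ' hbΩ' ω' hω'
  have hs2 := hshift_bwd t bΩ hbΩ ω ι hι u ω' hω'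
  have ht1 := httu_fwd t u
  have ht2 := httu_bwd t u
  have hP1 : ∀ I, LogConn.piece nabla ω' (fun i => (u i : B) * t i) I ≤
      LogConn.piece nabla ω t I :=
    piece'_le_piece lam t bΩ hbΩ ω ι hι nabla hc hcomm (fun i => (u i : B) * t i) ω' hs1 ht1
  have hP2 : ∀ I, LogConn.piece nabla ω t I ≤
      LogConn.piece nabla ω' (fun i => (u i : B) * t i) I :=
    piece'_le_piece lam (fun i => (u i : B) * t i) bΩ' hbΩ' ω' ι hι' nabla hc hcomm' t ω hs2 ht2
  apply le_antisymm
  · exact layer_le_layer lam t bΩ hbΩ ω ι hι nabla hc hcomm (fun i => (u i : B) * t i) ω' hs1 hP2 p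
  · exact layer_le_layer lam (fun i => (u i : B) * t i) bΩ' hbΩ' ω' ι hι' nabla hc hcomm' t ω hs2
      hP1 p

end Units

end Main

end Groth.Agent.Lib.Helper99.LogLayer
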