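import Groth.Agent.Lib.Helper99.LogLayerCoord

/-!
The layers of a logarithmic λ-connection are spanned by the generators
`∇_I(e) ⊗ (ω_I ∧ ι η₁ ∧ ⋯)` (helper99).
-/

set_option autoImplicit false
set_option linter.unusedSectionVars false
set_option linter.unusedVariables false
universe v u
open TensorProduct

namespace Groth.Agent.Lib.Helper99.LogLayer

open Groth.Agent.Lib.Helper84.LogC

section Main
variable {A : Type v} {B L E : Type u} [CommRing A] [CommRing B]
    [Algebra A B] [AddCommGroup L] [Module B L] [Module A L] [IsScalarTower A B L]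
    [AddCommGroup E] [Module B E] [Module A E] [IsScalarTower A B E]
    {n : ℕ}

theorem prod_orderEmbOfFin (S : Finset (Fin n)) {r : ℕ} (h : S.card = r) (f : Fin n → B) :
    ∏ j, f (S.orderEmbOfFin h j) = ∏ x ∈ S, f x := by
  conv_rhs => rw [← Finset.image_orderEmbOfFin_univ S h]
  rw [Finset.prod_image (fun a _ b _ hab => (S.orderEmbOfFin h).injective hab)]

theorem prod_ite_orderEmb {p : ℕ} (K : Set.powersetCard (Fin n) p) (I : Finset (Fin n))
    (t : Fin n → B) :
    ∏ j, (if Set.powersetCard.ofFinEmbEquiv.symm K j ∈ I then 1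
      else t (Set.powersetCard.ofFinEmbEquiv.symm K j)) = tt t ((K : Finset (Fin n)) \ I) := by
  classical
  refine (prod_orderEmbOfFin (K : Finset (Fin n)) K.prop
    (fun x => if x ∈ I then (1 : B) else t x)).trans ?_
  rw [Finset.prod_ite, Finset.prod_const_one, one_mul, Finset.sdiff_eq_filter]
  rfl

theorem isUnit_det_of_injective {p : ℕ} (K : Set.powersetCard (Fin n) p) (g : Fin p → Fin n)
    (hg : Function.Injective g) (hgK : ∀ k, g k ∈ (K : Finset (Fin n))) :
    IsUnit (Matrix.det (Matrix.of fun k j =>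
      if g k = Set.powersetCard.ofFinEmbEquiv.symm K j then (1 : B) else 0)) := by
  classical
  obtain ⟨P, hP⟩ : ∃ P : Matrix (Fin p) (Fin p) B, P = Matrix.of fun k j =>
      if g k = Set.powersetCard.ofFinEmbEquiv.symm K j then (1 : B) else 0 := ⟨_, rfl⟩
  rw [← hP]
  have h1 : P * P.transpose = 1 := by
    ext k k'
    rw [Matrix.mul_apply, Matrix.one_apply]
    obtain ⟨j₀, hj₀⟩ :=
      (Set.powersetCard.mem_range_ofFinEmbEquiv_symm_iff_mem K (g k)).mpr (hgK k)
    rw [Finset.sum_eq_single j₀]
    · have e1 : P k j₀ = 1 := by rw [hP, Matrix.of_apply, if_pos hj₀.symm]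
      have e2 : P.transpose j₀ k' = if k = k' then 1 else 0 := by
        rw [Matrix.transpose_apply, hP, Matrix.of_apply, hj₀]
        by_cases h : k = k'
        · rw [if_pos h, if_pos (by rw [h])]
        · rw [if_neg h, if_neg (fun h' => h (hg h').symm)]
      rw [e1, e2, one_mul]
    · intro j _ hj
      have hne : g k ≠ Set.powersetCard.ofFinEmbEquiv.symm K j := by
        rw [← hj₀]
        exact fun h => hj ((Set.powersetCard.ofFinEmbEquiv.symm K).injective h).symm
      rw [hP, Matrix.of_apply, if_neg hne, zero_mul]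
    · intro h
      exact absurd (Finset.mem_univ _) h
  have h2 := congrArg Matrix.det h1
  rw [Matrix.det_mul, Matrix.det_transpose, Matrix.det_one] at h2
  exact IsUnit.of_mul_eq_one _ h2

theorem ιMulti_eq_unit_smul (ω : Module.Basis (Fin n) B L) {p : ℕ}
    (K : Set.powersetCard (Fin n) p) (g : Fin p → Fin n)
    (hg : Function.Injective g) (hgK : ∀ k, g k ∈ (K : Finset (Fin n))) :
    ∃ c : B, IsUnit c ∧ exteriorPower.ιMulti B p (fun k => ω (g k)) =
      c • exteriorPower.ιMulti B p (fun k => ω (Set.powersetCard.ofFinEmbEquiv.symm K k)) := by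
  classical
  refine ⟨(ω.exteriorPower p).coord K (exteriorPower.ιMulti B p (fun k => ω (g k))), ?_, ?_⟩
  · rw [exteriorPower.basis_coord, exteriorPower.ιMultiDual_apply_ιMulti]
    have h := isUnit_det_of_injective (B := B) K g hg hgK
    have heq : (Matrix.of fun i j => ω.coord (Set.powersetCard.ofFinEmbEquiv.symm K j) (ω (g i))) =
        (Matrix.of fun k j =>
          if g k = Set.powersetCard.ofFinEmbEquiv.symm K j then (1 : B) else 0) := by
      ext k j
      rw [Matrix.of_apply, Matrix.of_apply, Module.Basis.coord_apply, Module.Basis.repr_self,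
        Finsupp.single_apply]
    rw [heq]
    exact h
  · have h := ((ω.exteriorPower p).sum_repr
      (exteriorPower.ιMulti B p (fun k => ω (g k)))).symm
    rw [Finset.sum_eq_single K] at h
    · rw [exteriorPower.basis_apply] at h
      exact h
    · intro K' _ hne
      obtain ⟨x₀, hx₀K', hx₀K⟩ := (Set.powersetCard.exists_mem_notMem_iff_ne K' K).mp hne
      have hz := coord_ιMulti_eq_zero ω K' g x₀ hx₀K' (fun k h => hx₀K (h ▸ hgK k))
      rw [Module.Basis.coord_apply] at hz
      rw [hz, zero_smul]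
    · intro h
      exact absurd (Finset.mem_univ _) h

section Span
variable (lam : B) (t : Fin n → B) (bΩ : Module.Basis (Fin n) B (KaehlerDifferential A B))
    (hbΩ : ∀ i, bΩ i = KaehlerDifferential.D A B (t i))
    (ω : Module.Basis (Fin n) B L) (ι : KaehlerDifferential A B →ₗ[B] L)
    (hι : ∀ i, ι (KaehlerDifferential.D A B (t i)) = t i • ω i)
    (nabla : E →ₗ[A] E ⊗[B] L)
    (hc : Conn.IsLamConn (ι.compDer (KaehlerDifferential.D A B)) lam nabla)

include hbΩ hι hc in
theorem gen_coord_mem {p : ℕ} (I : Finset (Fin n)) (hI : I.card ≤ p) (e : E) (v : Fin p → L)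
    (hv1 : ∀ (k : Fin p) (hk : k.val < I.card), v k = ω (I.orderEmbOfFin rfl ⟨k.val, hk⟩))
    (hv2 : ∀ k : Fin p, I.card ≤ k.val → v k ∈ LinearMap.range ι)
    (K : Set.powersetCard (Fin n) p) :
    LogConn.coordE ω p K (LogConn.compProd nabla ω I e ⊗ₜ[B] exteriorPower.ιMulti B p v) ∈
      LogConn.piece nabla ω t (K : Finset (Fin n)) := by
  classical
  rw [coordE_tmul, exteriorPower.basis_coord, exteriorPower.ιMultiDual_apply_ιMulti]
  by_cases hIK : I ⊆ (K : Finset (Fin n))
  · obtain ⟨M, hM⟩ : ∃ M : Matrix (Fin p) (Fin p) B, M = Matrix.of fun k j =>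
        ω.coord (Set.powersetCard.ofFinEmbEquiv.symm K j) (v k) := ⟨_, rfl⟩
    rw [← hM]
    obtain ⟨s, hs⟩ : ∃ s : Fin p → B, s = fun j =>
        if Set.powersetCard.ofFinEmbEquiv.symm K j ∈ I then 1
        else t (Set.powersetCard.ofFinEmbEquiv.symm K j) := ⟨_, rfl⟩
    have hdiv : ∀ k j, ∃ c, M k j = s j * c := by
      intro k j
      by_cases hj : Set.powersetCard.ofFinEmbEquiv.symm K j ∈ I
      · refine ⟨M k j, ?_⟩
        rw [hs]
        simp only [if_pos hj, one_mul]
      · by_cases hk : k.val < I.card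
        · refine ⟨0, ?_⟩
          have hne : I.orderEmbOfFin rfl ⟨k.val, hk⟩ ≠ Set.powersetCard.ofFinEmbEquiv.symm K j :=
            fun h => hj (h ▸ Finset.orderEmbOfFin_mem I rfl _)
          rw [hM, Matrix.of_apply, hv1 k hk, Module.Basis.coord_apply, Module.Basis.repr_self,
            Finsupp.single_apply, if_neg hne, mul_zero]
        · obtain ⟨η, hη⟩ := hv2 k (not_lt.mp hk)
          refine ⟨bΩ.coord (Set.powersetCard.ofFinEmbEquiv.symm K j) η, ?_⟩
          rw [hM, Matrix.of_apply, ← hη, coord_iota t bΩ hbΩ ω ι hι, hs]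
          simp only [if_neg hj, mul_comm]
    choose M' hM' using hdiv
    have hMM : M = Matrix.of fun k j => s j * M' k j := by
      ext k j
      exact hM' k j
    rw [hMM, Matrix.det_mul_row s (M' : Matrix (Fin p) (Fin p) B), hs, prod_ite_orderEmb K I t,
      mul_comm, mul_smul]
    exact smul_mem_piece lam t bΩ hbΩ ω ι hι nabla hc _ _ _ (mem_piece nabla ω t _ I hIK e)
  · obtain ⟨x, hxI, hxK⟩ := Finset.not_subset.mp hIK
    obtain ⟨k₀, hk₀⟩ : ∃ k₀ : Fin I.card, I.orderEmbOfFin rfl k₀ = x := by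
      have hx : x ∈ Set.range (I.orderEmbOfFin rfl) := by
        rw [Finset.range_orderEmbOfFin]
        exact hxI
      exact hx
    have hk₁ : k₀.val < p := lt_of_lt_of_le k₀.isLt hI
    have hv := hv1 ⟨k₀.val, hk₁⟩ k₀.isLt
    have e1 : (⟨(⟨k₀.val, hk₁⟩ : Fin p).val, k₀.isLt⟩ : Fin I.card) = k₀ := Fin.ext rfl
    rw [e1, hk₀] at hv
    have hrow : Matrix.det (Matrix.of fun k j =>
        ω.coord (Set.powersetCard.ofFinEmbEquiv.symm K j) (v k)) = 0 := by
      apply Matrix.det_eq_zero_of_row_eq_zero (⟨k₀.val, hk₁⟩ : Fin p)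
      intro j
      rw [Matrix.of_apply, hv, Module.Basis.coord_apply, Module.Basis.repr_self,
        Finsupp.single_apply,
        if_neg (fun h => hxK (by rw [h]; exact Finset.orderEmbOfFin_mem _ K.prop j))]
    rw [hrow, zero_smul]
    exact Submodule.zero_mem _

include hι in
theorem gen_mem_span {p : ℕ} (J : Finset (Fin n)) (K : Set.powersetCard (Fin n) p)
    (hJK : J ⊆ (K : Finset (Fin n))) (e : E) :
    (tt t ((K : Finset (Fin n)) \ J) • LogConn.compProd nabla ω J e) ⊗ₜ[B]
        exteriorPower.ιMulti B p (fun k => ω (Set.powersetCard.ofFinEmbEquiv.symm K k)) ∈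
      Submodule.span B (LogConn.gens nabla ω ι p) := by
  classical
  obtain ⟨S, hS⟩ : ∃ S : Finset (Fin n), S = (K : Finset (Fin n)) \ J := ⟨_, rfl⟩
  rw [← hS]
  have hdisj : Disjoint J S := by rw [hS]; exact Finset.disjoint_sdiff
  have hJS : J ∪ S = (K : Finset (Fin n)) := by rw [hS]; exact Finset.union_sdiff_of_subset hJK
  have hcard : J.card + S.card = p := by
    rw [← Finset.card_union_of_disjoint hdisj, hJS]
    exact K.prop
  obtain ⟨g₀, hg₀⟩ : ∃ g₀ : Fin (J.card + S.card) → Fin n,
      g₀ = Fin.append (J.orderEmbOfFin rfl) (S.orderEmbOfFin rfl) := ⟨_, rfl⟩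
  obtain ⟨v₀, hv₀⟩ : ∃ v₀ : Fin (J.card + S.card) → L,
      v₀ = Fin.append (fun k => ω (J.orderEmbOfFin rfl k))
        (fun k => ι (KaehlerDifferential.D A B (t (S.orderEmbOfFin rfl k)))) := ⟨_, rfl⟩
  obtain ⟨s₀, hs₀⟩ : ∃ s₀ : Fin (J.card + S.card) → B,
      s₀ = Fin.append (fun _ => 1) (fun k => t (S.orderEmbOfFin rfl k)) := ⟨_, rfl⟩
  have hvs : ∀ i, v₀ i = s₀ i • ω (g₀ i) := by
    intro i
    refine Fin.addCases (fun a => ?_) (fun b => ?_) i
    · rw [hv₀, hs₀, hg₀, Fin.append_left, Fin.append_left, Fin.append_left, one_smul]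
    · rw [hv₀, hs₀, hg₀, Fin.append_right, Fin.append_right, Fin.append_right, hι]
  have hg₀inj : Function.Injective g₀ := by
    rw [hg₀]
    refine Fin.append_injective_iff.mpr
      ⟨(J.orderEmbOfFin rfl).injective, (S.orderEmbOfFin rfl).injective, fun i j h => ?_⟩
    exact Finset.disjoint_left.mp hdisj (Finset.orderEmbOfFin_mem J rfl i)
      (h ▸ Finset.orderEmbOfFin_mem S rfl j)
  have hg₀K : ∀ i, g₀ i ∈ (K : Finset (Fin n)) := by
    intro i
    rw [← hJS]
    refine Fin.addCases (fun a => ?_) (fun b => ?_) i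
    · rw [hg₀, Fin.append_left]
      exact Finset.mem_union_left _ (Finset.orderEmbOfFin_mem J rfl a)
    · rw [hg₀, Fin.append_right]
      exact Finset.mem_union_right _ (Finset.orderEmbOfFin_mem S rfl b)
  -- the generator
  have hG : LogConn.compProd nabla ω J e ⊗ₜ[B]
      exteriorPower.ιMulti B p (fun k => v₀ (Fin.cast hcard.symm k)) ∈
        LogConn.gens nabla ω ι p := by
    refine ⟨J, by omega, e, fun k => v₀ (Fin.cast hcard.symm k), ?_, ?_, rfl⟩
    · intro k hk
      have hk' : Fin.cast hcard.symm k = Fin.castAdd S.card ⟨k.val, hk⟩ := Fin.ext rfl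
      show v₀ (Fin.cast hcard.symm k) = _
      rw [hk', hv₀, Fin.append_left]
    · intro k hk
      have hklt := k.isLt
      have hk' : Fin.cast hcard.symm k = Fin.natAdd J.card ⟨k.val - J.card, by omega⟩ :=
        Fin.ext (by simp only [Fin.val_cast, Fin.val_natAdd]; omega)
      show v₀ (Fin.cast hcard.symm k) ∈ _
      rw [hk', hv₀, Fin.append_right]
      exact ⟨_, rfl⟩
  have hιv : exteriorPower.ιMulti B p (fun k => v₀ (Fin.cast hcard.symm k)) =
      tt t S • exteriorPower.ιMulti B p (fun k => ω (g₀ (Fin.cast hcard.symm k))) := by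
    have h1 : (fun k => v₀ (Fin.cast hcard.symm k)) =
        fun k : Fin p => s₀ (Fin.cast hcard.symm k) • ω (g₀ (Fin.cast hcard.symm k)) :=
      funext fun k => hvs _
    rw [h1, AlternatingMap.map_smul_univ]
    congr 1
    rw [Fin.prod_congr' s₀ hcard.symm, Fin.prod_univ_add, hs₀]
    simp only [Fin.append_left, Fin.append_right, Finset.prod_const_one, one_mul]
    exact prod_orderEmbOfFin S rfl t
  obtain ⟨c, hcu, hcA⟩ := ιMulti_eq_unit_smul ω K (fun k => g₀ (Fin.cast hcard.symm k))
    (hg₀inj.comp (Fin.cast_injective _)) (fun k => hg₀K _)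
  obtain ⟨cu, rfl⟩ := hcu
  have hGeq : LogConn.compProd nabla ω J e ⊗ₜ[B]
      exteriorPower.ιMulti B p (fun k => v₀ (Fin.cast hcard.symm k)) =
      (cu : B) • ((tt t S • LogConn.compProd nabla ω J e) ⊗ₜ[B]
        exteriorPower.ιMulti B p (fun k => ω (Set.powersetCard.ofFinEmbEquiv.symm K k))) := by
    rw [hιv, hcA, TensorProduct.tmul_smul, TensorProduct.tmul_smul, ← TensorProduct.smul_tmul',
      smul_comm]
  have hfin : (tt t S • LogConn.compProd nabla ω J e) ⊗ₜ[B]
      exteriorPower.ιMulti B p (fun k => ω (Set.powersetCard.ofFinEmbEquiv.symm K k)) =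
      ((cu⁻¹ : Bˣ) : B) • (LogConn.compProd nabla ω J e ⊗ₜ[B]
        exteriorPower.ιMulti B p (fun k => v₀ (Fin.cast hcard.symm k))) := by
    rw [hGeq, smul_smul, Units.inv_mul, one_smul]
  rw [hfin]
  exact Submodule.smul_mem _ _ (Submodule.subset_span hG)

include hbΩ hι hc in
theorem span_gens_eq_layer (p : ℕ) :
    (Submodule.span B (LogConn.gens nabla ω ι p)).restrictScalars A =
      LogConn.layer nabla ω t p := by
  classical
  apply le_antisymm
  · let LB : Submodule B (E ⊗[B] ↥(⋀[B]^p L)) :=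
      { carrier := (LogConn.layer nabla ω t p : Set _)
        add_mem' := fun ha hb => Submodule.add_mem _ ha hb
        zero_mem' := Submodule.zero_mem _
        smul_mem' := fun b x hx => by
          rw [SetLike.mem_coe, mem_layer_iff] at hx ⊢
          intro K
          rw [map_smul]
          exact smul_mem_piece lam t bΩ hbΩ ω ι hι nabla hc _ b _ (hx K) }
    have hle : Submodule.span B (LogConn.gens nabla ω ι p) ≤ LB := by
      apply Submodule.span_le.mpr
      rintro _ ⟨I, hI, e, v, hv1, hv2, rfl⟩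
      show _ ∈ LogConn.layer nabla ω t p
      rw [mem_layer_iff]
      intro K
      exact gen_coord_mem lam t bΩ hbΩ ω ι hι nabla hc I hI e v hv1 hv2 K
    intro x hx
    exact hle hx
  · intro x hx
    rw [mem_layer_iff] at hx
    rw [Submodule.restrictScalars_mem, layer_expand ω p x]
    refine Submodule.sum_mem _ fun K _ => ?_
    have key : LogConn.piece nabla ω t (K : Finset (Fin n)) ≤
        ((Submodule.span B (LogConn.gens nabla ω ι p)).restrictScalars A).comap
          (((TensorProduct.mk B E ↥(⋀[B]^p L)).flip (exteriorPower.ιMulti B p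
            (fun k => ω (Set.powersetCard.ofFinEmbEquiv.symm K k)))).restrictScalars A) := by
      apply piece_le
      intro J hJ e
      exact gen_mem_span t ω ι hι nabla J K hJ e
    exact key (hx K)

end Span

end Main

end Groth.Agent.Lib.Helper99.LogLayer
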