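import Mathlib

/-!
# Bijectivity of substitution endomorphisms of `MvPowerSeries` (helper99)

* `bijective_of_order_sub_ge`: an additive endomorphism `ψ` of `R⟦X_σ⟧` with
  `ord (ψ f - f) ≥ ord f + 1` for all `f` is bijective.
* `bijective_of_order_sub_diag_ge`: same, modulo a diagonal rescaling of coefficients by units.
-/

set_option autoImplicit false

namespace Groth.Agent.Lib.Helper99

open MvPowerSeries

section Abstract

variable {σ : Type*} {R : Type*} [CommRing R]

theorem enat_eq_top_of_add_one_le {a : ℕ∞} (h : a + 1 ≤ a) : a = ⊤ := by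
  by_contra hne
  have := (ENat.add_one_le_iff hne).mp h
  exact lt_irrefl _ this

/-- an additive map which is the identity modulo higher order terms is bijective -/
theorem bijective_of_order_sub_ge (ψ : MvPowerSeries σ R →+ MvPowerSeries σ R)
    (h : ∀ f, f.order + 1 ≤ (ψ f - f).order) : Function.Bijective ψ := by
  classical
  -- `ψ` does not lower the order
  have hψord : ∀ f : MvPowerSeries σ R, f.order ≤ (ψ f).order := by
    intro f
    have h1 : ψ f = (ψ f - f) + f := by ring
    rw [h1]
    refine le_trans ?_ min_order_le_add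
    exact le_min (le_trans le_self_add (h f)) le_rfl
  constructor
  · rw [injective_iff_map_eq_zero]
    intro f hf
    have h1 := h f
    rw [hf, zero_sub, order_neg] at h1
    exact order_eq_top_iff.mp (enat_eq_top_of_add_one_le h1)
  · intro g
    -- the sequence `G i = (-N)^i g`
    let G : ℕ → MvPowerSeries σ R := fun i => Nat.rec g (fun _ x => x - ψ x) i
    have hG0 : G 0 = g := rfl
    have hGs : ∀ i, G (i + 1) = G i - ψ (G i) := fun i => rfl
    have hGord : ∀ i : ℕ, (i : ℕ∞) ≤ (G i).order := by
      intro i
      induction i with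
      | zero => simp
      | succ i ih =>
        rw [hGs, ← order_neg, neg_sub, Nat.cast_succ]
        exact le_trans (add_le_add_left ih 1) (h (G i))
    have hGcoeff : ∀ (i : ℕ) (d : σ →₀ ℕ), d.degree < i → coeff d (G i) = 0 := by
      intro i d hd
      apply coeff_of_lt_order
      exact lt_of_lt_of_le (by exact_mod_cast hd) (hGord i)
    let f : MvPowerSeries σ R := fun d => ∑ i ∈ Finset.range (d.degree + 1), coeff d (G i)
    have hfcoeff : ∀ d, coeff d f = ∑ i ∈ Finset.range (d.degree + 1), coeff d (G i) := fun d => rfl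
    refine ⟨f, ?_⟩
    ext d
    set n := d.degree with hn
    let F : MvPowerSeries σ R := ∑ i ∈ Finset.range (n + 1), G i
    -- `f - F` has order `> n`
    have hr : ((n + 1 : ℕ) : ℕ∞) ≤ (f - F).order := by
      apply nat_le_order
      intro d' hd'
      rw [map_sub, hfcoeff, map_sum, sub_eq_zero]
      apply Finset.sum_subset
      · intro i hi
        rw [Finset.mem_range] at hi ⊢
        omega
      · intro i hi hi'
        rw [Finset.mem_range] at hi hi'
        exact hGcoeff i d' (by omega)
    have hψr : coeff d (ψ (f - F)) = 0 := by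
      apply coeff_of_lt_order
      refine lt_of_lt_of_le ?_ (le_trans hr (hψord _))
      rw [← hn]
      exact_mod_cast Nat.lt_succ_self n
    have hψF : ψ F = G 0 - G (n + 1) := by
      rw [map_sum, ← Finset.sum_range_sub' G (n + 1)]
      refine Finset.sum_congr rfl fun i _ => ?_
      rw [hGs]
      ring
    have hsplit : ψ f = ψ (f - F) + ψ F := by rw [← map_add]; congr 1; ring
    rw [hsplit, map_add, hψr, zero_add, hψF, map_sub, hGcoeff (n + 1) d (by omega), sub_zero, hG0]

end Abstract

section Diag

variable {σ : Type*} {R : Type*} [CommRing R]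

/-- diagonal scaling of the coefficients of a power series -/
def diagMap (δ : (σ →₀ ℕ) → R) : MvPowerSeries σ R →+ MvPowerSeries σ R where
  toFun f := fun d => δ d * coeff d f
  map_zero' := by
    funext d
    simp
    rfl
  map_add' f g := by
    funext d
    simp only [map_add, mul_add]
    rfl

theorem coeff_diagMap (δ : (σ →₀ ℕ) → R) (f : MvPowerSeries σ R) (d : σ →₀ ℕ) :
    coeff d (diagMap δ f) = δ d * coeff d f := rfl

theorem order_le_order_diagMap (δ : (σ →₀ ℕ) → R) (f : MvPowerSeries σ R) :
    f.order ≤ (diagMap δ f).order := by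
  apply le_order
  intro d hd
  rw [coeff_diagMap, coeff_of_lt_order hd, mul_zero]

/-- an additive map which is a diagonal unit scaling modulo higher order terms is bijective -/
theorem bijective_of_order_sub_diag_ge (ψ : MvPowerSeries σ R →+ MvPowerSeries σ R)
    (δ : (σ →₀ ℕ) → Rˣ)
    (h : ∀ f, f.order + 1 ≤ (ψ f - diagMap (fun d => (δ d : R)) f).order) :
    Function.Bijective ψ := by
  set D := diagMap (σ := σ) (fun d => (δ d : R)) with hD
  set D' := diagMap (σ := σ) (fun d => (((δ d)⁻¹ : Rˣ) : R)) with hD'
  have hD'D : ∀ f, D' (D f) = f := by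
    intro f
    ext d
    rw [hD', hD, coeff_diagMap, coeff_diagMap, ← mul_assoc, Units.inv_mul, one_mul]
  have hDD' : ∀ f, D (D' f) = f := by
    intro f
    ext d
    rw [hD', hD, coeff_diagMap, coeff_diagMap, ← mul_assoc, Units.mul_inv, one_mul]
  have hbij : Function.Bijective (D'.comp ψ) := by
    apply bijective_of_order_sub_ge
    intro f
    have h1 : (D'.comp ψ) f - f = D' (ψ f - D f) := by
      rw [map_sub, hD'D]
      rfl
    rw [h1]
    exact le_trans (h f) (order_le_order_diagMap _ _)
  have hDbij : Function.Bijective D :=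
    Function.bijective_iff_has_inverse.mpr ⟨D', hD'D, hDD'⟩
  have hψ : ⇑ψ = D ∘ (D'.comp ψ) := by
    funext f
    simp [hDD']
  rw [hψ]
  exact hDbij.comp hbij

end Diag

section Subst

variable {σ : Type*} [Finite σ] {R : Type*} [CommRing R]

theorem hasSubst_X_mul (u : σ → MvPowerSeries σ R) :
    HasSubst (fun i => X i * u i : σ → MvPowerSeries σ R) :=
  hasSubst_of_constantCoeff_zero (fun i => by simp)

omit [Finite σ] in
theorem prod_X_mul_pow (u : σ → MvPowerSeries σ R) (d : σ →₀ ℕ) :
    (d.prod fun s n => (X s * u s) ^ n) = monomial d (1 : R) * d.prod fun s n => u s ^ n := by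
  classical
  simp only [mul_pow]
  rw [Finsupp.prod_mul]
  congr 1
  simp only [Finsupp.prod, X_pow_eq]
  have h1 : (∑ i ∈ d.support, Finsupp.single i (d i)) = d := Finsupp.sum_single d
  rw [prod_monomial, h1, Finset.prod_const_one]

omit [Finite σ] in
theorem degree_lt_of_le_of_ne {d e : σ →₀ ℕ} (hde : d ≤ e) (hne : d ≠ e) :
    d.degree < e.degree := by
  have h1 : e = d + (e - d) := (add_tsub_cancel_of_le hde).symm
  have h2 : (e - d).degree ≠ 0 := by
    intro h0
    rw [Finsupp.degree_eq_zero_iff] at h0
    apply hne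
    rw [h1, h0, add_zero]
  rw [h1, map_add]
  omega

/-- low-order coefficients of a substitution `X_i ↦ X_i u_i` -/
theorem coeff_subst_X_mul (u : σ → MvPowerSeries σ R) (f : MvPowerSeries σ R) (e : σ →₀ ℕ)
    (he : (e.degree : ℕ∞) ≤ f.order) :
    coeff e (subst (fun i => X i * u i) f) =
      (e.prod fun i n => constantCoeff (u i) ^ n) * coeff e f := by
  classical
  rw [coeff_subst (hasSubst_X_mul u) f e, finsum_eq_single _ e]
  · rw [prod_X_mul_pow, coeff_monomial_mul, if_pos le_rfl, one_mul, tsub_self,
      coeff_zero_eq_constantCoeff_apply, map_finsuppProd, smul_eq_mul, mul_comm]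
    simp only [map_pow]
  · intro d hd
    by_cases hde : d ≤ e
    · have hlt : d.degree < e.degree := degree_lt_of_le_of_ne hde hd
      have : coeff d f = 0 := by
        apply coeff_of_lt_order
        exact lt_of_lt_of_le (by exact_mod_cast hlt) he
      rw [this, zero_smul]
    · rw [prod_X_mul_pow, coeff_monomial_mul, if_neg hde, smul_zero]

end Subst

section SubstBij

variable {σ : Type*} [Finite σ] {R : Type*} [CommRing R]

theorem enat_le_of_lt_add_one {a b : ℕ∞} (h : a < b + 1) : a ≤ b := by
  by_cases hb : b = ⊤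
  · rw [hb]; exact le_top
  · exact (ENat.lt_add_one_iff hb).mp h

/-- the substitution `X_i ↦ X_i u_i` is a diagonal scaling modulo higher order terms -/
theorem order_subst_X_mul_sub_diag (u : σ → MvPowerSeries σ R) (f : MvPowerSeries σ R) :
    f.order + 1 ≤ (subst (fun i => X i * u i) f -
      diagMap (fun d => d.prod fun i n => constantCoeff (u i) ^ n) f).order := by
  apply le_order
  intro d hd
  rw [map_sub, coeff_diagMap, coeff_subst_X_mul u f d (enat_le_of_lt_add_one hd), sub_self]

/-- the substitution `X_i ↦ X_i u_i` with `u_i` units is bijective -/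
theorem bijective_subst_X_mul (u : σ → MvPowerSeries σ R)
    (hu : ∀ i, IsUnit (constantCoeff (u i))) :
    Function.Bijective (subst (fun i => X i * u i) : MvPowerSeries σ R → MvPowerSeries σ R) := by
  classical
  let c : σ → Rˣ := fun i => (hu i).unit
  have hc : ∀ i, ((c i : Rˣ) : R) = constantCoeff (u i) := fun i => (hu i).unit_spec
  let δ : (σ →₀ ℕ) → Rˣ := fun d => d.prod fun i n => c i ^ n
  have hδ : ∀ d, ((δ d : Rˣ) : R) = d.prod fun i n => constantCoeff (u i) ^ n := by
    intro d
    have := map_finsuppProd (Units.coeHom R) d (fun i n => c i ^ n)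
    simp only [Units.coeHom_apply] at this
    rw [this]
    simp only [Units.val_pow_eq_pow_val, hc]
  let ψ : MvPowerSeries σ R →+ MvPowerSeries σ R :=
    ((substAlgHom (R := R) (hasSubst_X_mul u) : MvPowerSeries σ R →ₐ[R] MvPowerSeries σ R) :
      MvPowerSeries σ R →+* MvPowerSeries σ R).toAddMonoidHom
  have hψ : ∀ f, ψ f = subst (fun i => X i * u i) f := fun f => by
    change substAlgHom (R := R) (hasSubst_X_mul u) f = _
    rw [substAlgHom_apply]
  have hbij : Function.Bijective ψ := by
    apply bijective_of_order_sub_diag_ge ψ δ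
    intro f
    rw [hψ]
    have := order_subst_X_mul_sub_diag u f
    have hfun : (fun d => ((δ d : Rˣ) : R)) = fun d => d.prod fun i n => constantCoeff (u i) ^ n :=
      funext hδ
    rw [hfun]
    exact this
  have hfun : (subst (fun i => X i * u i) : MvPowerSeries σ R → MvPowerSeries σ R) = ⇑ψ :=
    funext fun f => (hψ f).symm
  rw [hfun]
  exact hbij

/-- the substitution `X_i ↦ X_i u_i` with `u_i` units, as an algebra automorphism -/
noncomputable def substEquivXMul (u : σ → MvPowerSeries σ R)
    (hu : ∀ i, IsUnit (constantCoeff (u i))) : MvPowerSeries σ R ≃ₐ[R] MvPowerSeries σ R :=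
  AlgEquiv.ofBijective (substAlgHom (R := R) (hasSubst_X_mul u)) (by
    have := bijective_subst_X_mul u hu
    have hfun : ⇑(substAlgHom (R := R) (hasSubst_X_mul u)) =
        (subst (fun i => X i * u i) : MvPowerSeries σ R → MvPowerSeries σ R) :=
      funext fun f => substAlgHom_apply _ f
    rw [hfun]
    exact this)

theorem substEquivXMul_apply (u : σ → MvPowerSeries σ R)
    (hu : ∀ i, IsUnit (constantCoeff (u i))) (f : MvPowerSeries σ R) :
    substEquivXMul u hu f = substAlgHom (R := R) (hasSubst_X_mul u) f := rfl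

theorem substEquivXMul_X (u : σ → MvPowerSeries σ R)
    (hu : ∀ i, IsUnit (constantCoeff (u i))) (i : σ) :
    substEquivXMul u hu (X i) = X i * u i := by
  rw [substEquivXMul_apply, substAlgHom_X]

end SubstBij

section CubeRoot

variable {R : Type*} [CommRing R]

theorem mvPowerSeries_two_eq_zero [CharP R 2] {σ : Type*} : (2 : MvPowerSeries σ R) = 0 := by
  have h1 : ((2 : ℕ) : R) = 0 := CharP.cast_eq_zero R 2
  have h2 : ((2 : ℕ) : MvPowerSeries σ R) = C (((2 : ℕ) : R)) := (map_natCast C 2).symm
  have h3 : ((2 : ℕ) : MvPowerSeries σ R) = 2 := by norm_cast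
  rw [← h3, h2, h1, map_zero]

/-- in characteristic 2, `1 + T` has a cube root `1 + f` with `f(0) = 0` -/
theorem exists_cube_root_one_add_X [CharP R 2] :
    ∃ f : MvPowerSeries Unit R, constantCoeff f = 0 ∧ (1 + f) ^ 3 = 1 + X () := by
  classical
  set T : MvPowerSeries Unit R := X () with hT
  let u : Unit → MvPowerSeries Unit R := fun _ => 1 + T + T ^ 2
  have hu : ∀ i, IsUnit (constantCoeff (u i)) := fun i => by simp [u, T]
  have hbij := bijective_subst_X_mul u hu
  set g : MvPowerSeries Unit R := T * (1 + T + T ^ 2) with hg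
  have hfam : (fun i : Unit => X i * u i) = fun _ : Unit => g := rfl
  rw [hfam] at hbij
  obtain ⟨f, hf⟩ := hbij.2 T
  have hf0 : constantCoeff f = 0 := by
    have h1 := coeff_subst_X_mul u f 0 (by simp)
    rw [hfam, hf] at h1
    simpa [T] using h1.symm
  refine ⟨f, hf0, ?_⟩
  have hag : HasSubst (fun _ : Unit => g) := by
    rw [← hfam]
    exact hasSubst_X_mul u
  have haf : HasSubst (fun _ : Unit => f) := hasSubst_of_constantCoeff_zero (fun _ => hf0)
  have hcomp : subst (fun _ : Unit => g) (subst (fun _ : Unit => f) g) = g := by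
    have h1 := congrFun (subst_comp_subst (R := R) haf hag) g
    simp only [Function.comp_apply] at h1
    rw [h1]
    have h2 : (fun s : Unit => subst (fun _ : Unit => g) f) =
        (X : Unit → MvPowerSeries Unit R) := by
      funext s
      exact hf
    rw [h2, subst_self]
    rfl
  have hgT : subst (fun _ : Unit => g) T = g := subst_X hag ()
  have hgf : subst (fun _ : Unit => f) g = T := hbij.1 (hcomp.trans hgT.symm)
  have hsub : subst (fun _ : Unit => f) g = f * (1 + f + f ^ 2) := by
    rw [hg, ← substAlgHom_apply haf]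
    simp only [map_mul, map_add, map_pow, map_one, hT, substAlgHom_X]
  rw [hsub] at hgf
  have h2 : (2 : MvPowerSeries Unit R) = 0 := mvPowerSeries_two_eq_zero
  calc (1 + f) ^ 3 = 1 + f * (1 + f + f ^ 2) + 2 * (f + f ^ 2) := by ring
    _ = 1 + T := by rw [hgf, h2, zero_mul, add_zero]

end CubeRoot

section Helpers

variable {σ τ : Type*} {R : Type*} [CommRing R]

theorem substAlgHom_C_eq {a : σ → MvPowerSeries τ R} (ha : HasSubst a) (r : R) :
    substAlgHom (R := R) ha (C r : MvPowerSeries σ R) = (C r : MvPowerSeries τ R) := by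
  rw [c_eq_algebraMap, c_eq_algebraMap]
  exact AlgHom.commutes _ r

theorem substAlgHom_comp_self_of_invol {b : σ → MvPowerSeries σ R} (hb : HasSubst b)
    (hinv : ∀ s, subst b (b s) = X s) :
    (substAlgHom (R := R) hb).comp (substAlgHom (R := R) hb) = AlgHom.id R (MvPowerSeries σ R) := by
  apply AlgHom.ext
  intro f
  have h1 := congrFun (subst_comp_subst (R := R) hb hb) f
  simp only [Function.comp_apply] at h1
  have h2 : (fun s => subst b (b s)) = (X : σ → MvPowerSeries σ R) := funext hinv
  rw [AlgHom.comp_apply, substAlgHom_apply, substAlgHom_apply, h1, h2, subst_self]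
  rfl

/-- an involutive substitution is an automorphism -/
noncomputable def substEquivOfInvol {b : σ → MvPowerSeries σ R} (hb : HasSubst b)
    (hinv : ∀ s, subst b (b s) = X s) : MvPowerSeries σ R ≃ₐ[R] MvPowerSeries σ R :=
  AlgEquiv.ofAlgHom (substAlgHom (R := R) hb) (substAlgHom (R := R) hb)
    (substAlgHom_comp_self_of_invol hb hinv) (substAlgHom_comp_self_of_invol hb hinv)

theorem substEquivOfInvol_apply {b : σ → MvPowerSeries σ R} (hb : HasSubst b)
    (hinv : ∀ s, subst b (b s) = X s) (f : MvPowerSeries σ R) :
    substEquivOfInvol hb hinv f = substAlgHom (R := R) hb f := rfl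

end Helpers

end Groth.Agent.Lib.Helper99
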