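import Groth.Agent.Lib.Helper99.MvPSAut

/-!
# Cube roots of power series in characteristic 2 (helper99)
-/

set_option autoImplicit false

namespace Groth.Agent.Lib.Helper99

open MvPowerSeries

section CubeRoot2

variable {R : Type*} [CommRing R] {σ : Type*}

/-- in characteristic 2 every power series with constant term 1 has a cube root -/
theorem exists_cube_root [CharP R 2] (w : MvPowerSeries σ R) (hw : constantCoeff w = 1) :
    ∃ y : MvPowerSeries σ R, constantCoeff y = 1 ∧ y ^ 3 = w := by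
  classical
  obtain ⟨f, hf0, hf⟩ := exists_cube_root_one_add_X (R := R)
  set x : MvPowerSeries σ R := w - 1 with hx
  have hx0 : constantCoeff x = 0 := by rw [hx, map_sub, hw, map_one, sub_self]
  have hax : HasSubst (fun _ : Unit => x) := hasSubst_of_constantCoeff_zero (fun _ => hx0)
  refine ⟨substAlgHom (R := R) hax (1 + f), ?_, ?_⟩
  · rw [map_add, map_one, map_add, map_one, substAlgHom_apply,
      constantCoeff_subst_eq_zero hax (fun _ => hx0) hf0, add_zero]
  · rw [← map_pow, hf, map_add, map_one, substAlgHom_X, hx]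
    ring

/-- scaled cube roots -/
theorem exists_cube_root_scaled [CharP R 2] (U : MvPowerSeries σ R) (q : Rˣ) (κ : R)
    (h : constantCoeff U * κ ^ 3 = q) :
    ∃ u : MvPowerSeries σ R, IsUnit (constantCoeff u) ∧ C (q : R) * u ^ 3 = U := by
  have hκ : IsUnit κ := by
    apply IsUnit.of_mul_eq_one (constantCoeff U * κ ^ 2 * ((q⁻¹ : Rˣ) : R))
    have : κ * (constantCoeff U * κ ^ 2 * ((q⁻¹ : Rˣ) : R)) =
        (constantCoeff U * κ ^ 3) * ((q⁻¹ : Rˣ) : R) := by ring
    rw [this, h, Units.mul_inv]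
  obtain ⟨ku, rfl⟩ := hκ
  set w : MvPowerSeries σ R := C ((ku : R) ^ 3 * ((q⁻¹ : Rˣ) : R)) * U with hw
  have hw1 : constantCoeff w = 1 := by
    rw [hw, map_mul, constantCoeff_C]
    have : (ku : R) ^ 3 * ((q⁻¹ : Rˣ) : R) * constantCoeff U =
        (constantCoeff U * (ku : R) ^ 3) * ((q⁻¹ : Rˣ) : R) := by ring
    rw [this, h, Units.mul_inv]
  obtain ⟨y, hy1, hy3⟩ := exists_cube_root w hw1
  refine ⟨C (((ku⁻¹ : Rˣ) : R)) * y, ?_, ?_⟩
  · rw [map_mul, constantCoeff_C, hy1, mul_one]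
    exact (ku⁻¹).isUnit
  · rw [mul_pow, hy3, hw, ← map_pow, ← mul_assoc, ← mul_assoc, ← map_mul, ← map_mul]
    have : (q : R) * ((ku⁻¹ : Rˣ) : R) ^ 3 * ((ku : R) ^ 3 * ((q⁻¹ : Rˣ) : R)) = 1 := by
      have h1 : ((ku⁻¹ : Rˣ) : R) * (ku : R) = 1 := Units.inv_mul ku
      have h2 : (q : R) * ((q⁻¹ : Rˣ) : R) = 1 := Units.mul_inv q
      calc (q : R) * ((ku⁻¹ : Rˣ) : R) ^ 3 * ((ku : R) ^ 3 * ((q⁻¹ : Rˣ) : R))
          = ((q : R) * ((q⁻¹ : Rˣ) : R)) * (((ku⁻¹ : Rˣ) : R) * (ku : R)) ^ 3 := by ring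
        _ = 1 := by rw [h1, h2, one_pow, one_mul]
    rw [this, map_one, one_mul]

end CubeRoot2

section Helpers2

variable {σ : Type*} [Finite σ] {R : Type*} [CommRing R]

theorem substEquivXMul_C (u : σ → MvPowerSeries σ R)
    (hu : ∀ i, IsUnit (constantCoeff (u i))) (r : R) :
    substEquivXMul u hu (C r) = C r := by
  rw [substEquivXMul_apply, substAlgHom_C_eq]

end Helpers2

end Groth.Agent.Lib.Helper99
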