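import Mathlib
import Groth.Prelude.Def_PLie
import Groth.Agent.Lib.Helper99.JacForm
import Groth.Agent.Lib.Helper85.PBW.Rep

/-!
# `p`-mappings from embeddings into associative algebras; Jacobson's theorem on `p`-mappings
(helper99)
-/

set_option autoImplicit false
set_option linter.unusedSectionVars false
universe u v w

namespace Groth.Agent.Lib.Helper99.PLieJac

open Groth.Agent.Lib.Helper99.Jac

attribute [local instance 100] LieRing.ofAssociativeRing

section Transport

variable {R : Type u} [CommRing R] {p : ℕ} [hp : Fact p.Prime] [CharP R p]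
  {L : Type v} [LieRing L] [LieAlgebra R L] {A : Type w} [Ring A] [Algebra R A]

theorem map_bracketWord {ι : Type*} (e : L → A) (hbr : ∀ x y, e ⁅x, y⁆ = cm (e x) (e y))
    (x : ι → L) (x₁ : L) (l : List ι) :
    e (PLie.bracketWord x x₁ l) = bw (fun i => e (x i)) (e x₁) l := by
  induction l with
  | nil => rfl
  | cons i l ih => rw [PLie.bracketWord_cons, hbr, ih, bw_cons]

theorem map_jacobson (e : L →ₗ[R] A) (hbr : ∀ x y, e ⁅x, y⁆ = cm (e x) (e y)) (x₀ x₁ : L) :
    e (PLie.jacobson R p x₀ x₁) = jacA R p (e x₀) (e x₁) := by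
  unfold PLie.jacobson jacA
  rw [map_sum]
  refine Finset.sum_congr rfl fun t _ => ?_
  rw [map_smul, map_bracketWord e hbr]
  congr 2
  funext i
  cases i <;> rfl

theorem map_adn (e : L →ₗ[R] A) (hbr : ∀ x y, e ⁅x, y⁆ = cm (e x) (e y)) (x y : L) (n : ℕ) :
    e ((LieAlgebra.ad R L x ^ n) y) = adn (e x) n (e y) := by
  induction n with
  | zero => simp
  | succ n ih =>
    rw [pow_succ', Module.End.mul_apply, LieAlgebra.ad_apply, hbr, ih, adn_succ]

/-- a `p`-mapping from an embedding into an associative algebra -/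
theorem pmap_of_embedding (e : L →ₗ[R] A) (he : Function.Injective e)
    (hbr : ∀ x y, e ⁅x, y⁆ = cm (e x) (e y)) (φ : L → L) (f : L → A)
    (hφ : ∀ x, e (φ x) = e x ^ p - f x) (hfadd : ∀ x y, f (x + y) = f x + f y)
    (hfsmul : ∀ (c : R) x, f (c • x) = c ^ p • f x) (hfc : ∀ x y, cm (f x) (e y) = 0) :
    ∃ Φ : PLie.PMap R p L, ∀ x, Φ x = φ x := by
  have hA : ((p : ℕ) : A) = 0 := natCast_eq_zero_alg R p
  refine ⟨{ toFun := φ, map_smul := ?_, ad_map := ?_, map_add := ?_ }, fun x => rfl⟩
  · intro c x
    apply he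
    rw [hφ, map_smul, map_smul, hφ, hfsmul, smul_pow, smul_sub]
  · intro x
    refine LinearMap.ext fun y => he ?_
    rw [LieAlgebra.ad_apply, hbr, hφ, map_adn e hbr, adn_prime hp.out hA]
    have := hfc x y
    unfold cm at this ⊢
    rw [sub_mul, mul_sub, sub_sub_sub_comm, this, sub_zero]
  · intro x y
    apply he
    rw [hφ, map_add, jacobson_formula R p, hfadd, map_sub, map_add, hφ, hφ,
      map_jacobson e hbr]
    abel

end Transport

section Jacobson

variable (R : Type u) [CommRing R] (p : ℕ) [hp : Fact p.Prime] [CharP R p]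
  (L : Type v) [LieRing L] [LieAlgebra R L]

variable {R L} in
/-- PBW consequence: `L → U(L)` is injective when `L` is free -/
theorem iota_injective {ι : Type w} (b : Module.Basis ι R L) :
    Function.Injective (UniversalEnvelopingAlgebra.ι R : L → UniversalEnvelopingAlgebra R L) := by
  classical
  obtain ⟨_, _⟩ := exists_wellFoundedLT (α := ι)
  have hli := Groth.Agent.Lib.Helper85.PBW.linearIndependent_mon b
  have hs : ∀ i : ι, [i].SortedLE := fun i => List.sortedLE_iff_pairwise.mpr (List.pairwise_singleton _ _)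
  have hinj : Function.Injective (fun i : ι => (⟨[i], hs i⟩ : Groth.Agent.Lib.Helper85.PBW.SL ι)) := by
    intro i j hij
    have := congrArg Subtype.val hij
    simpa using this
  have hli' : LinearIndependent R (fun i : ι => UniversalEnvelopingAlgebra.ι R (b i)) := by
    have := hli.comp _ hinj
    convert this using 1
    funext i
    simp [Groth.Agent.Lib.Helper85.PBW.mon]
  intro x x' hxx'
  rw [← sub_eq_zero] at hxx' ⊢
  rw [← map_sub] at hxx'
  generalize x - x' = d at hxx'
  have h1 : (UniversalEnvelopingAlgebra.ι R : L →ₗ⁅R⁆ UniversalEnvelopingAlgebra R L) d =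
      Finsupp.linearCombination R (fun i : ι => UniversalEnvelopingAlgebra.ι R (b i)) (b.repr d) := by
    conv_lhs => rw [← b.linearCombination_repr d]
    exact Finsupp.apply_linearCombination R
      ((UniversalEnvelopingAlgebra.ι R : L →ₗ⁅R⁆ UniversalEnvelopingAlgebra R L) :
        L →ₗ[R] UniversalEnvelopingAlgebra R L) b (b.repr d)
  rw [h1] at hxx'
  have h2 := (linearIndependent_iff.mp hli') _ hxx'
  exact b.repr.map_eq_zero_iff.mp h2

/-- **Jacobson's theorem** (existence): a `p`-mapping with prescribed values on a basis. -/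
theorem exists_pmap_of_basis {ι : Type w} (b : Module.Basis ι R L) (y : ι → L)
    (hy : ∀ i : ι, LieAlgebra.ad R L (b i) ^ p = LieAlgebra.ad R L (y i)) :
    ∃ φ : PLie.PMap R p L, ∀ i : ι, φ (b i) = y i := by
  classical
  let U := UniversalEnvelopingAlgebra R L
  let e : L →ₗ[R] U := ((UniversalEnvelopingAlgebra.ι R : L →ₗ⁅R⁆ U) : L →ₗ[R] U)
  have he : Function.Injective e := iota_injective b
  have hbr : ∀ x x' : L, e ⁅x, x'⁆ = cm (e x) (e x') := fun x x' => by
    show (UniversalEnvelopingAlgebra.ι R : L →ₗ⁅R⁆ U) ⁅x, x'⁆ = _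
    rw [LieHom.map_lie, LieRing.of_associative_ring_bracket]
    rfl
  have hU : ((p : ℕ) : U) = 0 := natCast_eq_zero_alg R p
  let z : ι → U := fun i => e (b i) ^ p - e (y i)
  have hz : ∀ i x, cm (z i) (e x) = 0 := by
    intro i x
    have h1 : cm (e (b i) ^ p) (e x) = cm (e (y i)) (e x) := by
      rw [← adn_prime hp.out hU, ← map_adn e hbr, hy, LieAlgebra.ad_apply, hbr]
    simp only [z]
    unfold cm at h1 ⊢
    rw [sub_mul, mul_sub, sub_sub_sub_comm, h1, sub_self]
  let f : L → U := fun x => (b.repr x).sum fun i c => c ^ p • z i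
  have hp0 : p ≠ 0 := hp.out.ne_zero
  have hfadd : ∀ x x', f (x + x') = f x + f x' := by
    intro x x'
    simp only [f]
    rw [map_add, Finsupp.sum_add_index']
    · intro i; rw [zero_pow hp0, zero_smul]
    · intro i c c'; rw [add_pow_char, add_smul]
  have hfsmul : ∀ (c : R) x, f (c • x) = c ^ p • f x := by
    intro c x
    simp only [f]
    rw [map_smul, Finsupp.sum_smul_index', Finsupp.smul_sum]
    · refine Finsupp.sum_congr fun i _ => ?_
      rw [smul_eq_mul, mul_pow, mul_smul]
    · intro i; rw [zero_pow hp0, zero_smul]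
  have hfb : ∀ i, f (b i) = z i := by
    intro i
    simp only [f]
    rw [b.repr_self, Finsupp.sum_single_index, one_pow, one_smul]
    rw [zero_pow hp0, zero_smul]
  have hfc : ∀ x x', cm (f x) (e x') = 0 := by
    intro x x'
    simp only [f]
    unfold cm
    rw [Finsupp.sum, Finset.sum_mul, Finset.mul_sum, ← Finset.sum_sub_distrib]
    refine Finset.sum_eq_zero fun i _ => ?_
    have := hz i x'
    unfold cm at this
    rw [smul_mul_assoc, mul_smul_comm, ← smul_sub, this, smul_zero]
  -- the set of `x` with `x^p - f x ∈ L`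
  let V : Submodule R L :=
    { carrier := {x | e x ^ p - f x ∈ LinearMap.range e}
      add_mem' := by
        intro x x' hx hx'
        show e (x + x') ^ p - f (x + x') ∈ LinearMap.range e
        rw [map_add, jacobson_formula R p, hfadd, ← map_jacobson e hbr]
        have h3 : e x ^ p + e x' ^ p - e (PLie.jacobson R p x x') - (f x + f x') =
            (e x ^ p - f x) + (e x' ^ p - f x') - e (PLie.jacobson R p x x') := by abel
        rw [h3]
        exact Submodule.sub_mem _ (Submodule.add_mem _ hx hx') (LinearMap.mem_range_self _ _)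
      zero_mem' := by
        show e 0 ^ p - f 0 ∈ LinearMap.range e
        have : f 0 = 0 := by simp [f]
        rw [map_zero, zero_pow hp0, this, sub_zero]
        exact Submodule.zero_mem _
      smul_mem' := by
        intro c x hx
        show e (c • x) ^ p - f (c • x) ∈ LinearMap.range e
        rw [map_smul, smul_pow, hfsmul, ← smul_sub]
        exact Submodule.smul_mem _ _ hx }
  have hV : V = ⊤ := by
    rw [eq_top_iff, ← b.span_eq, Submodule.span_le]
    rintro _ ⟨i, rfl⟩
    show e (b i) ^ p - f (b i) ∈ LinearMap.range e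
    rw [hfb]
    exact ⟨y i, by simp only [z]; abel⟩
  have hall : ∀ x, ∃ x', e x' = e x ^ p - f x := by
    intro x
    have : x ∈ V := by rw [hV]; trivial
    exact this
  choose φ hφ using hall
  obtain ⟨Φ, hΦ⟩ := pmap_of_embedding e he hbr φ f hφ hfadd hfsmul hfc
  refine ⟨Φ, fun i => ?_⟩
  apply he
  rw [hΦ, hφ, hfb]
  simp only [z]; abel

variable {R p L} in
/-- uniqueness in Jacobson's theorem -/
theorem pmap_ext_of_basis {ι : Type w} (b : Module.Basis ι R L) (φ ψ : PLie.PMap R p L)
    (h : ∀ i, φ (b i) = ψ (b i)) : φ = ψ := by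
  have hp0 : p ≠ 0 := hp.out.ne_zero
  let V : Submodule R L :=
    { carrier := {x | φ x = ψ x}
      add_mem' := by
        intro x x' hx hx'
        show φ (x + x') = ψ (x + x')
        rw [← PLie.PMap.toFun_eq_coe, ← PLie.PMap.toFun_eq_coe, φ.map_add, ψ.map_add]
        rw [PLie.PMap.toFun_eq_coe, PLie.PMap.toFun_eq_coe]
        have hx : φ x = ψ x := hx
        have hx' : φ x' = ψ x' := hx'
        rw [hx, hx']
      zero_mem' := by
        show φ 0 = ψ 0
        have h1 := φ.map_smul 0 0
        have h2 := ψ.map_smul 0 0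
        rw [zero_smul, zero_pow hp0, zero_smul] at h1 h2
        rw [← PLie.PMap.toFun_eq_coe, ← PLie.PMap.toFun_eq_coe, h1, h2]
      smul_mem' := by
        intro c x hx
        show φ (c • x) = ψ (c • x)
        have hx : φ x = ψ x := hx
        rw [← PLie.PMap.toFun_eq_coe, ← PLie.PMap.toFun_eq_coe, φ.map_smul, ψ.map_smul,
          PLie.PMap.toFun_eq_coe, PLie.PMap.toFun_eq_coe, hx] }
  have hV : V = ⊤ := by
    rw [eq_top_iff, ← b.span_eq, Submodule.span_le]
    rintro _ ⟨i, rfl⟩
    exact h i
  have hall : ∀ x, φ x = ψ x := fun x => by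
    have : x ∈ V := by rw [hV]; trivial
    exact this
  cases φ; cases ψ
  congr
  funext x
  exact hall x

end Jacobson

end Groth.Agent.Lib.Helper99.PLieJac
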