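import Mathlib
import Groth.Prelude.Def_PLie
import Groth.Agent.Lib.Helper99.PLieJac

/-!
# First-order deformations of the Heisenberg algebra: restrictability (helper99)

Abstract version over a commutative ring `S` with an element `η`, `η * η = 0`.
-/

set_option autoImplicit false
universe u v

namespace Groth.Agent.Lib.Helper99.PLieDef

section Generic

variable {S : Type u} [CommRing S] {E : Type v} [Ring E] [Algebra S E]

theorem decomp_sq (η : S) (hη : η * η = 0) (N M : E) (hN : N * N = 0) :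
    (N + η • M) ^ 2 = η • (N * M + M * N) := by
  rw [pow_two, add_mul, mul_add, mul_add, hN, smul_mul_smul_comm, hη, zero_smul, add_zero,
    zero_add, mul_smul_comm, smul_mul_assoc, smul_add]

theorem decomp_cube (η : S) (hη : η * η = 0) (N M : E) (hN : N * N = 0) :
    (N + η • M) ^ 3 = η • (N * M * N) := by
  rw [pow_succ, decomp_sq η hη N M hN, mul_add, smul_mul_assoc, smul_mul_smul_comm, hη, zero_smul,
    add_zero, add_mul, mul_assoc M N N, hN, mul_zero, add_zero]

theorem decomp_four (η : S) (hη : η * η = 0) (N M : E) (hN : N * N = 0) :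
    (N + η • M) ^ 4 = 0 := by
  rw [show 4 = 2 + 2 from rfl, pow_add, decomp_sq η hη N M hN, smul_mul_smul_comm, hη, zero_smul]

end Generic

section H3

variable {S : Type u} [CommRing S] (p : ℕ) [hp : Fact p.Prime] [CharP S p]
  (η a b c d e f g h i : S) (hη : η * η = 0)
  {L : Type v} [LieRing L] [LieAlgebra S L] (bs : Module.Basis (Fin 3) S L)
  (hxy : ⁅bs 0, bs 1⁆ = (a * η) • bs 0 + (b * η) • bs 1 + (c * η) • bs 2)
  (hxz : ⁅bs 0, bs 2⁆ = (d * η) • bs 0 + (e * η) • bs 1 + (f * η) • bs 2)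
  (hyz : ⁅bs 1, bs 2⁆ = (1 + g * η) • bs 0 + (h * η) • bs 1 + (i * η) • bs 2)

/-- `M_x`: `ad x = η • M_x` -/
noncomputable def Mx : Module.End S L :=
  bs.constr S ![0, a • bs 0 + b • bs 1 + c • bs 2, d • bs 0 + e • bs 1 + f • bs 2]

noncomputable def Ny : Module.End S L := bs.constr S ![0, 0, bs 0]

noncomputable def My : Module.End S L :=
  bs.constr S ![-(a • bs 0 + b • bs 1 + c • bs 2), 0, g • bs 0 + h • bs 1 + i • bs 2]

noncomputable def Nz : Module.End S L := bs.constr S ![0, -bs 0, 0]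

noncomputable def Mz : Module.End S L :=
  bs.constr S ![-(d • bs 0 + e • bs 1 + f • bs 2), -(g • bs 0 + h • bs 1 + i • bs 2), 0]

include hxy hxz in
theorem adx_eq : LieAlgebra.ad S L (bs 0) = η • Mx a b c d e f bs := by
  refine bs.ext fun j => ?_
  fin_cases j <;>
    simp [Mx, Module.Basis.constr_basis, hxy, hxz, smul_smul, mul_comm]

include hxy hyz in
theorem ady_eq : LieAlgebra.ad S L (bs 1) = Ny bs + η • My a b c g h i bs := by
  have hyx : ⁅bs 1, bs 0⁆ = -((a * η) • bs 0 + (b * η) • bs 1 + (c * η) • bs 2) := by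
    rw [← lie_skew, hxy]
  refine bs.ext fun j => ?_
  fin_cases j <;>
    simp [Ny, My, Module.Basis.constr_basis, hyx, hyz, smul_smul, mul_comm, add_smul]
  abel

include hxz hyz in
theorem adz_eq : LieAlgebra.ad S L (bs 2) = Nz bs + η • Mz d e f g h i bs := by
  have hzx : ⁅bs 2, bs 0⁆ = -((d * η) • bs 0 + (e * η) • bs 1 + (f * η) • bs 2) := by
    rw [← lie_skew, hxz]
  have hzy : ⁅bs 2, bs 1⁆ = -((1 + g * η) • bs 0 + (h * η) • bs 1 + (i * η) • bs 2) := by
    rw [← lie_skew, hyz]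
  refine bs.ext fun j => ?_
  fin_cases j <;>
    simp [Nz, Mz, Module.Basis.constr_basis, hzx, hzy, smul_smul, mul_comm, add_smul]
  abel

theorem Ny_sq : Ny bs * Ny bs = 0 := by
  refine bs.ext fun j => ?_
  fin_cases j <;> simp [Ny]

theorem Nz_sq : Nz bs * Nz bs = 0 := by
  refine bs.ext fun j => ?_
  fin_cases j <;> simp [Nz, Fin.sum_univ_three]

include hη in
theorem hηη (u v : S) : (u * η) * (v * η) = 0 := by
  rw [mul_mul_mul_comm, hη, mul_zero]

include hη hxy hxz hyz in
/-- the Jacobi identity forces `(b + f) η = 0` -/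
theorem jacobi_bf : (b + f) * η = 0 := by
  have hX := adx_eq η a b c d e f bs hxy hxz
  have hxu : ∀ u : L, ⁅bs 0, u⁆ = η • Mx a b c d e f bs u := fun u => by
    rw [← LieAlgebra.ad_apply (R := S), hX]; rfl
  have hyx : ⁅bs 1, bs 0⁆ = - (η • Mx a b c d e f bs (bs 1)) := by
    rw [← lie_skew, hxu]
  have hJ := leibniz_lie (bs 0) (bs 1) (bs 2)
  have h1 : ⁅bs 0, ⁅bs 1, bs 2⁆⁆ = 0 := by
    rw [hyz, lie_add, lie_add, lie_smul, lie_smul, lie_smul, lie_self, smul_zero, zero_add, hxu,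
      hxu, smul_smul, smul_smul, mul_assoc, mul_assoc, hη, mul_zero, mul_zero, zero_smul, zero_smul,
      add_zero]
  have h2 : ⁅⁅bs 0, bs 1⁆, bs 2⁆ = (b * η) • bs 0 := by
    rw [hxy, add_lie, add_lie, smul_lie, smul_lie, smul_lie, lie_self, smul_zero, add_zero, hxu,
      smul_smul, mul_assoc, hη, mul_zero, zero_smul, zero_add, hyz]
    simp only [smul_add, smul_smul, mul_add, mul_one, hηη η hη, zero_smul, add_zero]
  have h3 : ⁅bs 1, ⁅bs 0, bs 2⁆⁆ = (f * η) • bs 0 := by
    rw [hxz, lie_add, lie_add, lie_smul, lie_smul, lie_smul, lie_self, smul_zero, add_zero, hyx,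
      smul_neg, smul_smul, mul_assoc, hη, mul_zero, zero_smul, neg_zero, zero_add, hyz]
    simp only [smul_add, smul_smul, mul_add, mul_one, hηη η hη, zero_smul, add_zero]
  rw [h1, h2, h3, ← add_smul] at hJ
  have := congrArg (fun u => bs.repr u 0) hJ
  simp at this
  rw [add_mul]
  exact this.symm

theorem NMN_y : Ny bs * My a b c g h i bs * Ny bs = (-c) • Ny bs := by
  refine bs.ext fun j => ?_
  fin_cases j <;> simp [Ny, My, Fin.sum_univ_three]

theorem NMN_z : Nz bs * Mz d e f g h i bs * Nz bs = e • Nz bs := by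
  refine bs.ext fun j => ?_
  fin_cases j <;> simp [Nz, Mz, Fin.sum_univ_three]

theorem T_y (hb : b * η = 0) (hc : c * η = 0) :
    η • (Ny bs * My a b c g h i bs + My a b c g h i bs * Ny bs) = ((i - a) * η) • Ny bs := by
  have hb' : η * b = 0 := by rw [mul_comm, hb]
  have hc' : η * c = 0 := by rw [mul_comm, hc]
  refine bs.ext fun j => ?_
  fin_cases j <;> simp [Ny, My, Fin.sum_univ_three, smul_smul, hb', hc']
  module

theorem T_z (he : e * η = 0) (hf : f * η = 0) :
    η • (Nz bs * Mz d e f g h i bs + Mz d e f g h i bs * Nz bs) = (-(d + h) * η) • Nz bs := by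
  have he' : η * e = 0 := by rw [mul_comm, he]
  have hf' : η * f = 0 := by rw [mul_comm, hf]
  refine bs.ext fun j => ?_
  fin_cases j <;> simp [Nz, Mz, Fin.sum_univ_three, smul_smul, he', hf']
  module

include hη hxy hxz hyz in
theorem h3_exists (hcond : p = 2 → b * η = 0 ∧ c * η = 0 ∧ e * η = 0) :
    Nonempty (PLie.PMap S p L) := by
  have hpp := hp.out
  have hp2 : 2 ≤ p := hpp.two_le
  have hX := adx_eq η a b c d e f bs hxy hxz
  have hY := ady_eq η a b c g h i bs hxy hyz
  have hZ := adz_eq η d e f g h i bs hxz hyz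
  have hNy := Ny_sq bs
  have hNz := Nz_sq bs
  have hbf := jacobi_bf η a b c d e f g h i hη bs hxy hxz hyz
  have hsm : ∀ (κ : S) (N M : Module.End S L), (κ * η) • (N + η • M) = (κ * η) • N := by
    intro κ N M
    rw [smul_add, smul_smul, mul_assoc, hη, mul_zero, zero_smul, add_zero]
  have hx2 : LieAlgebra.ad S L (bs 0) ^ 2 = 0 := by
    rw [hX, pow_two, smul_mul_smul_comm, hη, zero_smul]
  have hxp : LieAlgebra.ad S L (bs 0) ^ p = LieAlgebra.ad S L 0 := by
    rw [show p = 2 + (p - 2) by omega, pow_add, hx2, zero_mul, map_zero]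
  have key : ∃ y1 y2 : L, LieAlgebra.ad S L (bs 1) ^ p = LieAlgebra.ad S L y1 ∧
      LieAlgebra.ad S L (bs 2) ^ p = LieAlgebra.ad S L y2 := by
    rcases (show p = 2 ∨ p = 3 ∨ 4 ≤ p by omega) with h2 | h3 | h4
    · obtain ⟨hb, hc, he⟩ := hcond h2
      have hf : f * η = 0 := by rw [add_mul, hb, zero_add] at hbf; exact hbf
      refine ⟨((i - a) * η) • bs 1, (-(d + h) * η) • bs 2, ?_, ?_⟩
      · rw [h2, map_smul, hY, hsm, decomp_sq η hη _ _ hNy, T_y η a b c g h i bs hb hc]
      · rw [h2, map_smul, hZ, hsm, decomp_sq η hη _ _ hNz, T_z η d e f g h i bs he hf]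
    · refine ⟨(-c * η) • bs 1, (e * η) • bs 2, ?_, ?_⟩
      · rw [h3, map_smul, hY, hsm, decomp_cube η hη _ _ hNy, NMN_y, smul_smul, mul_comm]
      · rw [h3, map_smul, hZ, hsm, decomp_cube η hη _ _ hNz, NMN_z, smul_smul, mul_comm]
    · refine ⟨0, 0, ?_, ?_⟩
      · rw [show p = 4 + (p - 4) by omega, pow_add, hY, decomp_four η hη _ _ hNy, zero_mul, map_zero]
      · rw [show p = 4 + (p - 4) by omega, pow_add, hZ, decomp_four η hη _ _ hNz, zero_mul, map_zero]
  obtain ⟨y1, y2, h1, h2⟩ := key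
  obtain ⟨φ, -⟩ := Groth.Agent.Lib.Helper99.PLieJac.exists_pmap_of_basis S p L bs
    (fun j => ![0, y1, y2] j) (fun j => by
      fin_cases j
      · exact hxp
      · exact h1
      · exact h2)
  exact ⟨φ⟩

include hxy hxz hyz in
theorem ad_expand (w : L) : LieAlgebra.ad S L w =
    bs.repr w 0 • (η • Mx a b c d e f bs) + bs.repr w 1 • (Ny bs + η • My a b c g h i bs) +
      bs.repr w 2 • (Nz bs + η • Mz d e f g h i bs) := by
  conv_lhs => rw [← bs.sum_repr w]
  rw [Fin.sum_univ_three, map_add, map_add, map_smul, map_smul, map_smul,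
    adx_eq η a b c d e f bs hxy hxz, ady_eq η a b c g h i bs hxy hyz,
    adz_eq η d e f g h i bs hxz hyz]

include hη hxy hxz hyz in
theorem central_aux (w : L) (hw : η • LieAlgebra.ad S L w = 0) :
    η * bs.repr w 1 = 0 ∧ η * bs.repr w 2 = 0 := by
  rw [ad_expand η a b c d e f g h i bs hxy hxz hyz w] at hw
  have e1 : ∀ (κ : S) (M : Module.End S L), η • (κ • (η • M)) = 0 := by
    intro κ M
    rw [smul_comm κ η, smul_smul, hη, zero_smul]
  have e2 : ∀ (κ : S) (N M : Module.End S L), η • (κ • (N + η • M)) = (η * κ) • N := by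
    intro κ N M
    rw [smul_add, smul_add, e1, add_zero, smul_smul]
  rw [smul_add, smul_add, e1, e2, e2, zero_add] at hw
  have h2 := LinearMap.congr_fun hw (bs 2)
  have h1 := LinearMap.congr_fun hw (bs 1)
  have h2' := congrArg (fun u => bs.repr u 0) h2
  have h1' := congrArg (fun u => bs.repr u 0) h1
  simp [Ny, Nz] at h2' h1'
  exact ⟨h2', h1'⟩

include hxy hxz hyz in
theorem ad_apply_x (w : L) (hβ : η * bs.repr w 1 = 0) (hγ : η * bs.repr w 2 = 0) :
    LieAlgebra.ad S L w (bs 0) = 0 := by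
  rw [ad_expand η a b c d e f g h i bs hxy hxz hyz w]
  have hβ' : bs.repr w 1 * η = 0 := by rw [mul_comm, hβ]
  have hγ' : bs.repr w 2 * η = 0 := by rw [mul_comm, hγ]
  simp [Mx, Ny, Nz, smul_smul, hβ', hγ']

include hη hxy hxz hyz in
theorem h3_necessary (h2 : p = 2) (φ : PLie.PMap S p L) : b * η = 0 ∧ c * η = 0 ∧ e * η = 0 := by
  subst h2
  have hY := ady_eq η a b c g h i bs hxy hyz
  have hZ := adz_eq η d e f g h i bs hxz hyz
  have hNy := Ny_sq bs
  have hNz := Nz_sq bs
  -- analysis of `φ z`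
  have hz := φ.ad_map (bs 2)
  rw [hZ, decomp_sq η hη _ _ hNz] at hz
  have hzc : η • LieAlgebra.ad S L (φ.toFun (bs 2)) = 0 := by
    rw [hz, smul_smul, hη, zero_smul]
  obtain ⟨hzβ, hzγ⟩ := central_aux η a b c d e f g h i hη bs hxy hxz hyz _ hzc
  have hz0 := ad_apply_x η a b c d e f g h i bs hxy hxz hyz _ hzβ hzγ
  rw [hz] at hz0
  have he : e * η = 0 := by
    have := congrArg (fun u => bs.repr u 0) hz0
    simp [Nz, Mz, Fin.sum_univ_three] at this
    rw [mul_comm]; exact this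
  -- analysis of `φ y`
  have hy := φ.ad_map (bs 1)
  rw [hY, decomp_sq η hη _ _ hNy] at hy
  have hyc : η • LieAlgebra.ad S L (φ.toFun (bs 1)) = 0 := by
    rw [hy, smul_smul, hη, zero_smul]
  obtain ⟨hyβ, hyγ⟩ := central_aux η a b c d e f g h i hη bs hxy hxz hyz _ hyc
  have hy0 := ad_apply_x η a b c d e f g h i bs hxy hxz hyz _ hyβ hyγ
  rw [hy] at hy0
  have hc : c * η = 0 := by
    have := congrArg (fun u => bs.repr u 0) hy0
    simp [Ny, My, Fin.sum_univ_three] at this
    rw [mul_comm]; exact this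
  have hb : b * η = 0 := by
    have h2 := LinearMap.congr_fun hy (bs 2)
    rw [ad_expand η a b c d e f g h i bs hxy hxz hyz] at h2
    have := congrArg (fun u => bs.repr u 1) h2
    simp [Mx, Ny, My, Nz, Mz, Fin.sum_univ_three] at this
    linear_combination this - (bs.repr (φ.toFun (bs 1))) 0 * he - h * hyβ
  exact ⟨hb, hc, he⟩

include hη hxy hxz hyz in
theorem h3_iff : Nonempty (PLie.PMap S p L) ↔ (p = 2 → b * η = 0 ∧ c * η = 0 ∧ e * η = 0) := by
  constructor
  · rintro ⟨φ⟩ h2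
    exact h3_necessary p η a b c d e f g h i hη bs hxy hxz hyz h2 φ
  · exact h3_exists p η a b c d e f g h i hη bs hxy hxz hyz

end H3

end Groth.Agent.Lib.Helper99.PLieDef
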