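import Mathlib
import Groth.Prelude.Def_PLie
import Groth.Agent.Lib.Helper99.PLieJac
import Groth.Agent.Lib.Helper99.PLieH3

/-!
# First-order deformations of the Lie algebras `l_t`: restrictability (helper99)

Abstract version over a commutative ring `S` with an element `η`, `η * η = 0`, and `τ ^ p = τ`.
-/

set_option autoImplicit false
universe u v

namespace Groth.Agent.Lib.Helper99.PLieLt

open Groth.Agent.Lib.Helper99.PLieDef Finset

section Generic

variable {S : Type u} [CommRing S] {E : Type v} [Ring E] [Algebra S E]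

theorem decomp_pow (η : S) (hη : η * η = 0) (N M : E) (n : ℕ) :
    (N + η • M) ^ n = N ^ n + η • ∑ j ∈ range n, N ^ j * M * N ^ (n - 1 - j) := by
  induction n with
  | zero => simp
  | succ n ih =>
    have hS : ∑ j ∈ range (n + 1), N ^ j * M * N ^ (n + 1 - 1 - j) =
        (∑ j ∈ range n, N ^ j * M * N ^ (n - 1 - j)) * N + N ^ n * M := by
      rw [Finset.sum_range_succ, Finset.sum_mul]
      congr 1
      · refine Finset.sum_congr rfl fun j hj => ?_
        have hj' := Finset.mem_range.mp hj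
        rw [show n + 1 - 1 - j = n - 1 - j + 1 by omega, pow_succ, mul_assoc, mul_assoc, mul_assoc]
      · simp
    rw [hS, pow_succ, ih, add_mul, mul_add, mul_add, smul_mul_smul_comm, hη, zero_smul, add_zero,
      ← pow_succ, add_assoc, mul_smul_comm, smul_mul_assoc, ← smul_add, add_comm (N ^ n * M)]

theorem sum_p_smul (S : Type u) [CommRing S] (p : ℕ) [CharP S p] {L : Type v} [AddCommGroup L]
    [Module S L] (u : L) : ∑ _j ∈ range p, u = 0 := by
  rw [Finset.sum_const, Finset.card_range, ← Nat.cast_smul_eq_nsmul S, CharP.cast_eq_zero,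
    zero_smul]

end Generic

section Lt

variable {S : Type u} [CommRing S] (p : ℕ) [hp : Fact p.Prime] [CharP S p]
  (η τ a b c d e f g h i : S) (hη : η * η = 0) (hτ : τ ^ p = τ)
  {L : Type v} [LieRing L] [LieAlgebra S L] (bs : Module.Basis (Fin 3) S L)
  (hxy : ⁅bs 0, bs 1⁆ = (a * η) • bs 0 + (1 + b * η) • bs 1 + (c * η) • bs 2)
  (hxz : ⁅bs 0, bs 2⁆ = (d * η) • bs 0 + (e * η) • bs 1 + (τ + f * η) • bs 2)
  (hyz : ⁅bs 1, bs 2⁆ = (g * η) • bs 0 + (h * η) • bs 1 + (i * η) • bs 2)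

noncomputable def Nx : Module.End S L := bs.constr S ![0, bs 1, τ • bs 2]

noncomputable def Mx : Module.End S L :=
  bs.constr S ![0, a • bs 0 + b • bs 1 + c • bs 2, d • bs 0 + e • bs 1 + f • bs 2]

noncomputable def Ny : Module.End S L := bs.constr S ![-bs 1, 0, 0]

noncomputable def My : Module.End S L :=
  bs.constr S ![-(a • bs 0 + b • bs 1 + c • bs 2), 0, g • bs 0 + h • bs 1 + i • bs 2]

noncomputable def Nz : Module.End S L := bs.constr S ![-(τ • bs 2), 0, 0]

noncomputable def Mz : Module.End S L :=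
  bs.constr S ![-(d • bs 0 + e • bs 1 + f • bs 2), -(g • bs 0 + h • bs 1 + i • bs 2), 0]

include hxy hxz in
theorem adx_eq : LieAlgebra.ad S L (bs 0) = Nx τ bs + η • Mx a b c d e f bs := by
  refine bs.ext fun j => ?_
  fin_cases j <;>
    simp [Nx, Mx, hxy, hxz, smul_smul, mul_comm, add_smul]
  · abel
  · abel

include hxy hyz in
theorem ady_eq : LieAlgebra.ad S L (bs 1) = Ny bs + η • My a b c g h i bs := by
  have hyx : ⁅bs 1, bs 0⁆ = -((a * η) • bs 0 + (1 + b * η) • bs 1 + (c * η) • bs 2) := by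
    rw [← lie_skew, hxy]
  refine bs.ext fun j => ?_
  fin_cases j <;>
    simp [Ny, My, hyx, hyz, smul_smul, mul_comm, add_smul]
  abel

include hxz hyz in
theorem adz_eq : LieAlgebra.ad S L (bs 2) = Nz τ bs + η • Mz d e f g h i bs := by
  have hzx : ⁅bs 2, bs 0⁆ = -((d * η) • bs 0 + (e * η) • bs 1 + (τ + f * η) • bs 2) := by
    rw [← lie_skew, hxz]
  have hzy : ⁅bs 2, bs 1⁆ = -((g * η) • bs 0 + (h * η) • bs 1 + (i * η) • bs 2) := by
    rw [← lie_skew, hyz]
  refine bs.ext fun j => ?_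
  fin_cases j <;>
    simp [Nz, Mz, hzx, hzy, smul_smul, mul_comm, add_smul]
  abel

theorem Ny_sq : Ny bs * Ny bs = 0 := by
  refine bs.ext fun j => ?_
  fin_cases j <;> simp [Ny, Fin.sum_univ_three]

theorem Nz_sq : Nz τ bs * Nz τ bs = 0 := by
  refine bs.ext fun j => ?_
  fin_cases j <;> simp [Nz, Fin.sum_univ_three]

theorem Nx_pow_x (k : ℕ) : (Nx τ bs ^ (k + 1)) (bs 0) = 0 := by
  rw [pow_succ, Module.End.mul_apply]
  simp [Nx]

theorem Nx_pow_y (k : ℕ) : (Nx τ bs ^ k) (bs 1) = bs 1 := by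
  induction k with
  | zero => simp
  | succ k ih =>
    rw [pow_succ', Module.End.mul_apply, ih]
    simp [Nx]

theorem Nx_pow_z (k : ℕ) : (Nx τ bs ^ k) (bs 2) = τ ^ k • bs 2 := by
  induction k with
  | zero => simp
  | succ k ih =>
    rw [pow_succ', Module.End.mul_apply, ih, map_smul]
    simp [Nx, smul_smul, pow_succ]

/-- the first-order part of `(ad x)^p` -/
noncomputable def Sx : Module.End S L :=
  ∑ j ∈ range p, Nx τ bs ^ j * Mx a b c d e f bs * Nx τ bs ^ (p - 1 - j)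

theorem Sx_x : Sx p τ a b c d e f bs (bs 0) = 0 := by
  unfold Sx
  rw [LinearMap.sum_apply]
  refine Finset.sum_eq_zero fun j _ => ?_
  rw [Module.End.mul_apply, Module.End.mul_apply]
  rcases Nat.eq_zero_or_pos (p - 1 - j) with h0 | h0
  · rw [h0, pow_zero, Module.End.one_apply]
    simp [Mx]
  · obtain ⟨k, hk⟩ : ∃ k, p - 1 - j = k + 1 := ⟨p - 1 - j - 1, by omega⟩
    rw [hk, Nx_pow_x]
    simp


theorem Sx_y : Sx p τ a b c d e f bs (bs 1) =
    a • bs 0 + (c * ∑ j ∈ range p, τ ^ j) • bs 2 := by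
  have hp1 : 1 ≤ p := hp.out.one_le
  unfold Sx
  rw [LinearMap.sum_apply]
  have h1 : ∀ j ∈ range p, (Nx τ bs ^ j * Mx a b c d e f bs * Nx τ bs ^ (p - 1 - j)) (bs 1) =
      a • (Nx τ bs ^ j) (bs 0) + b • bs 1 + (c * τ ^ j) • bs 2 := by
    intro j _
    rw [Module.End.mul_apply, Module.End.mul_apply, Nx_pow_y]
    simp [Mx, Nx_pow_y, Nx_pow_z, smul_smul]
  rw [Finset.sum_congr rfl h1, Finset.sum_add_distrib, Finset.sum_add_distrib,
    sum_p_smul S p, add_zero, ← Finset.sum_smul, ← Finset.mul_sum,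
    Groth.Agent.Lib.Helper99.Jac.sum_range_pred _ hp1]
  simp [Nx_pow_x]

theorem Sx_z : Sx p τ a b c d e f bs (bs 2) =
    (τ ^ (p - 1) * d) • bs 0 + ((∑ j ∈ range p, τ ^ j) * e) • bs 1 := by
  have hp1 : 1 ≤ p := hp.out.one_le
  unfold Sx
  rw [LinearMap.sum_apply]
  have h1 : ∀ j ∈ range p, (Nx τ bs ^ j * Mx a b c d e f bs * Nx τ bs ^ (p - 1 - j)) (bs 2) =
      (τ ^ (p - 1 - j) * d) • (Nx τ bs ^ j) (bs 0) + (τ ^ (p - 1 - j) * e) • bs 1 +
        (f * τ ^ (p - 1)) • bs 2 := by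
    intro j hj
    have hj' := Finset.mem_range.mp hj
    rw [Module.End.mul_apply, Module.End.mul_apply, Nx_pow_z]
    simp only [map_smul, Mx, Module.Basis.constr_basis, Matrix.cons_val, map_add, Nx_pow_y, Nx_pow_z,
      smul_add, smul_smul]
    congr 2
    have : τ ^ (p - 1) = τ ^ (p - 1 - j) * τ ^ j := by
      rw [← pow_add]; congr 1; omega
    rw [this]; ring
  rw [Finset.sum_congr rfl h1, Finset.sum_add_distrib, Finset.sum_add_distrib,
    sum_p_smul S p, add_zero, ← Finset.sum_smul, ← Finset.sum_mul,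
    Finset.sum_range_reflect (fun j => τ ^ j) p,
    Groth.Agent.Lib.Helper99.Jac.sum_range_pred _ hp1]
  simp [Nx_pow_x]

include hη hxy hxz hyz in
theorem jacobi_lt : (d - τ * h) * η = 0 ∧ (i + τ * a) * η = 0 := by
  have hyx : ⁅bs 1, bs 0⁆ = -((a * η) • bs 0 + (1 + b * η) • bs 1 + (c * η) • bs 2) := by
    rw [← lie_skew, hxy]
  have hJ := leibniz_lie (bs 0) (bs 1) (bs 2)
  rw [hyz, hxy, hxz] at hJ
  simp only [lie_add, add_lie, lie_smul, smul_lie, hxy, hxz, hyz, hyx, lie_self, smul_zero,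
    add_zero, zero_add] at hJ
  have h1 := congrArg (fun u => bs.repr u 1) hJ
  have h2 := congrArg (fun u => bs.repr u 2) hJ
  simp at h1 h2
  constructor
  · linear_combination h1 + (-(d * b) + h * f + a * e - e * i) * hη
  · linear_combination (-1) * h2 + (h * c - a * f - b * i + d * c) * hη

include hτ in
theorem Nx_pow_p : Nx τ bs ^ p = Nx τ bs := by
  have hp1 : 1 ≤ p := hp.out.one_le
  refine bs.ext fun j => ?_
  fin_cases j
  · show (Nx τ bs ^ p) (bs 0) = Nx τ bs (bs 0)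
    rw [show p = (p - 1) + 1 by omega, Nx_pow_x]
    simp [Nx]
  · show (Nx τ bs ^ p) (bs 1) = Nx τ bs (bs 1)
    rw [Nx_pow_y]; simp [Nx]
  · show (Nx τ bs ^ p) (bs 2) = Nx τ bs (bs 2)
    rw [Nx_pow_z, hτ]; simp [Nx]

theorem NMN_y : Ny bs * My a b c g h i bs * Ny bs = 0 := by
  refine bs.ext fun j => ?_
  fin_cases j <;> simp [Ny, My, Fin.sum_univ_three]

theorem NMN_z : Nz τ bs * Mz d e f g h i bs * Nz τ bs = 0 := by
  refine bs.ext fun j => ?_
  fin_cases j <;> simp [Nz, Mz, Fin.sum_univ_three]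

theorem T_y (hg : g * η = 0) :
    η • (Ny bs * My a b c g h i bs + My a b c g h i bs * Ny bs) = (-a * η) • Ny bs := by
  have hg' : η * g = 0 := by rw [mul_comm, hg]
  refine bs.ext fun j => ?_
  fin_cases j <;> simp [Ny, My, Fin.sum_univ_three, smul_smul, hg']
  module

theorem T_z (hg : g * η = 0) :
    η • (Nz τ bs * Mz d e f g h i bs + Mz d e f g h i bs * Nz τ bs) = (-d * η) • Nz τ bs := by
  have hg' : η * g = 0 := by rw [mul_comm, hg]
  have hg'' : η * (g * τ) = 0 := by rw [← mul_assoc, hg', zero_mul]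
  refine bs.ext fun j => ?_
  fin_cases j <;> simp [Nz, Mz, Fin.sum_univ_three, smul_smul, hg', hg'']
  module

include hτ in
theorem Sx_key (h1 : (f - b * τ) * η = 0) (h2c : (1 - ∑ j ∈ range p, τ ^ j) * c * η = 0)
    (h2e : (1 - ∑ j ∈ range p, τ ^ j) * e * η = 0) (hd : (d - τ * h) * η = 0) :
    η • Sx p τ a b c d e f bs = η • (Mx a b c d e f bs - b • Nx τ bs) := by
  have hp1 : 1 ≤ p := hp.out.one_le
  have hτ' : τ ^ (p - 1) * τ = τ := by
    rw [← pow_succ, Nat.sub_add_cancel hp1, hτ]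
  refine bs.ext fun j => ?_
  fin_cases j
  · show (η • Sx p τ a b c d e f bs) (bs 0) = (η • (Mx a b c d e f bs - b • Nx τ bs)) (bs 0)
    rw [LinearMap.smul_apply, Sx_x]
    simp [Mx, Nx]
  · show (η • Sx p τ a b c d e f bs) (bs 1) = (η • (Mx a b c d e f bs - b • Nx τ bs)) (bs 1)
    rw [LinearMap.smul_apply, Sx_y]
    apply bs.repr.injective
    ext r
    fin_cases r
    · simp [Mx, Nx]
    · simp [Mx, Nx]
    · simp [Mx, Nx]
      linear_combination (-1) * h2c
  · show (η • Sx p τ a b c d e f bs) (bs 2) = (η • (Mx a b c d e f bs - b • Nx τ bs)) (bs 2)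
    rw [LinearMap.smul_apply, Sx_z]
    apply bs.repr.injective
    ext r
    fin_cases r
    · simp [Mx, Nx]
      linear_combination (τ ^ (p - 1) - 1) * hd + (h * η) * hτ'
    · simp [Mx, Nx]
      linear_combination (-1) * h2e
    · simp [Mx, Nx]
      linear_combination (-1) * h1

include hη hτ hxy hxz hyz in
theorem lt_exists (h1 : (f - b * τ) * η = 0) (h2c : (1 - ∑ j ∈ range p, τ ^ j) * c * η = 0)
    (h2e : (1 - ∑ j ∈ range p, τ ^ j) * e * η = 0) (h3 : p = 2 → g * η = 0) :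
    Nonempty (PLie.PMap S p L) := by
  have hpp := hp.out
  have hp2 : 2 ≤ p := hpp.two_le
  have hX := adx_eq η τ a b c d e f bs hxy hxz
  have hY := ady_eq η a b c g h i bs hxy hyz
  have hZ := adz_eq η τ d e f g h i bs hxz hyz
  have hNy := Ny_sq bs
  have hNz := Nz_sq τ bs
  obtain ⟨hd, -⟩ := jacobi_lt η τ a b c d e f g h i hη bs hxy hxz hyz
  have hsm : ∀ (κ : S) (N M : Module.End S L), (κ * η) • (N + η • M) = (κ * η) • N := by
    intro κ N M
    rw [smul_add, smul_smul, mul_assoc, hη, mul_zero, zero_smul, add_zero]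
  have hxp : LieAlgebra.ad S L (bs 0) ^ p = LieAlgebra.ad S L ((1 - b * η) • bs 0) := by
    rw [map_smul, hX, decomp_pow η hη, Nx_pow_p p τ hτ bs]
    change _ + η • Sx p τ a b c d e f bs = _
    rw [Sx_key p η τ a b c d e f h hτ bs h1 h2c h2e hd, sub_smul, one_smul, hsm, smul_sub,
      smul_smul, mul_comm η b]
    abel
  have key : ∃ y1 y2 : L, LieAlgebra.ad S L (bs 1) ^ p = LieAlgebra.ad S L y1 ∧
      LieAlgebra.ad S L (bs 2) ^ p = LieAlgebra.ad S L y2 := by
    rcases (show p = 2 ∨ p = 3 ∨ 4 ≤ p by omega) with h2 | h3' | h4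
    · have hg := h3 h2
      refine ⟨(-a * η) • bs 1, (-d * η) • bs 2, ?_, ?_⟩
      · rw [h2, map_smul, hY, hsm, PLieDef.decomp_sq η hη _ _ hNy, T_y η a b c g h i bs hg]
      · rw [h2, map_smul, hZ, hsm, PLieDef.decomp_sq η hη _ _ hNz, T_z η τ d e f g h i bs hg]
    · refine ⟨0, 0, ?_, ?_⟩
      · rw [h3', hY, PLieDef.decomp_cube η hη _ _ hNy, NMN_y, smul_zero, map_zero]
      · rw [h3', hZ, PLieDef.decomp_cube η hη _ _ hNz, NMN_z, smul_zero, map_zero]
    · refine ⟨0, 0, ?_, ?_⟩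
      · rw [show p = 4 + (p - 4) by omega, pow_add, hY, PLieDef.decomp_four η hη _ _ hNy, zero_mul,
          map_zero]
      · rw [show p = 4 + (p - 4) by omega, pow_add, hZ, PLieDef.decomp_four η hη _ _ hNz, zero_mul,
          map_zero]
  obtain ⟨y1, y2, hy1, hy2⟩ := key
  obtain ⟨φ, -⟩ := Groth.Agent.Lib.Helper99.PLieJac.exists_pmap_of_basis S p L bs
    (fun j => ![(1 - b * η) • bs 0, y1, y2] j) (fun j => by
      fin_cases j
      · exact hxp
      · exact hy1
      · exact hy2)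
  exact ⟨φ⟩

include hxy hxz hyz in
theorem ad_expand (w : L) : LieAlgebra.ad S L w =
    bs.repr w 0 • (Nx τ bs + η • Mx a b c d e f bs) + bs.repr w 1 • (Ny bs + η • My a b c g h i bs) +
      bs.repr w 2 • (Nz τ bs + η • Mz d e f g h i bs) := by
  conv_lhs => rw [← bs.sum_repr w]
  rw [Fin.sum_univ_three, map_add, map_add, map_smul, map_smul, map_smul,
    adx_eq η τ a b c d e f bs hxy hxz, ady_eq η a b c g h i bs hxy hyz,
    adz_eq η τ d e f g h i bs hxz hyz]

include hη hτ hxy hxz hyz in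
theorem lt_necessary_x (φ : PLie.PMap S p L) :
    (f - b * τ) * η = 0 ∧ (1 - ∑ j ∈ range p, τ ^ j) * c * η = 0 ∧
      (1 - ∑ j ∈ range p, τ ^ j) * e * η = 0 := by
  obtain ⟨-, hi⟩ := jacobi_lt η τ a b c d e f g h i hη bs hxy hxz hyz
  have hX := adx_eq η τ a b c d e f bs hxy hxz
  have hw := φ.ad_map (bs 0)
  rw [hX, decomp_pow η hη, Nx_pow_p p τ hτ bs] at hw
  change _ = _ + η • Sx p τ a b c d e f bs at hw
  rw [ad_expand η τ a b c d e f g h i bs hxy hxz hyz] at hw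
  obtain ⟨α, hα⟩ : ∃ α, α = bs.repr (φ.toFun (bs 0)) 0 := ⟨_, rfl⟩
  obtain ⟨β, hβ⟩ : ∃ β, β = bs.repr (φ.toFun (bs 0)) 1 := ⟨_, rfl⟩
  obtain ⟨γ, hγ⟩ : ∃ γ, γ = bs.repr (φ.toFun (bs 0)) 2 := ⟨_, rfl⟩
  rw [← hα, ← hβ, ← hγ] at hw
  have h0 := LinearMap.congr_fun hw (bs 0)
  have h1 := LinearMap.congr_fun hw (bs 1)
  have h2 := LinearMap.congr_fun hw (bs 2)
  rw [LinearMap.add_apply _ (η • Sx p τ a b c d e f bs), LinearMap.smul_apply η, Sx_x] at h0
  rw [LinearMap.add_apply _ (η • Sx p τ a b c d e f bs), LinearMap.smul_apply η, Sx_y] at h1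
  rw [LinearMap.add_apply _ (η • Sx p τ a b c d e f bs), LinearMap.smul_apply η, Sx_z] at h2
  have Exy := congrArg (fun u => bs.repr u 1) h0
  have Exz := congrArg (fun u => bs.repr u 2) h0
  have Eyy := congrArg (fun u => bs.repr u 1) h1
  have Eyz := congrArg (fun u => bs.repr u 2) h1
  have Ezz := congrArg (fun u => bs.repr u 2) h2
  have Ezy := congrArg (fun u => bs.repr u 1) h2
  simp [Nx, Mx, Ny, My, Nz, Mz, Fin.sum_univ_three] at Exy Exz Eyy Eyz Ezz Ezy
  have hβη : η * β = 0 := by linear_combination (-η) * Exy - (β * b + γ * e) * hη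
  have hγτ : η * γ * τ = 0 := by linear_combination (-η) * Exz - (β * c + γ * f) * hη
  have hαη : η * α = η := by linear_combination η * Eyy - (α * b - γ * h) * hη
  refine ⟨?_, ?_, ?_⟩
  · linear_combination Ezz - τ * Eyy - (f - τ * b) * hαη - i * hβη - h * hγτ
  · linear_combination Eyz - c * hαη + γ * hi - a * hγτ
  · linear_combination Ezy - e * hαη - h * hβη

include hη hxy hxz hyz in
theorem lt_necessary_y (h2 : p = 2) (φ : PLie.PMap S p L) : g * η = 0 := by
  subst h2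
  have hY := ady_eq η a b c g h i bs hxy hyz
  have hw := φ.ad_map (bs 1)
  rw [hY, PLieDef.decomp_sq η hη _ _ (Ny_sq bs)] at hw
  rw [ad_expand η τ a b c d e f g h i bs hxy hxz hyz] at hw
  obtain ⟨α, hα⟩ : ∃ α, α = bs.repr (φ.toFun (bs 1)) 0 := ⟨_, rfl⟩
  obtain ⟨β, hβ⟩ : ∃ β, β = bs.repr (φ.toFun (bs 1)) 1 := ⟨_, rfl⟩
  obtain ⟨γ, hγ⟩ : ∃ γ, γ = bs.repr (φ.toFun (bs 1)) 2 := ⟨_, rfl⟩
  rw [← hα, ← hβ, ← hγ] at hw
  have h0 := LinearMap.congr_fun hw (bs 0)
  have h1 := LinearMap.congr_fun hw (bs 1)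
  have h2 := LinearMap.congr_fun hw (bs 2)
  have Exy := congrArg (fun u => bs.repr u 1) h0
  have Eyy := congrArg (fun u => bs.repr u 1) h1
  have Ezy := congrArg (fun u => bs.repr u 1) h2
  simp [Nx, Mx, Ny, My, Nz, Mz, Fin.sum_univ_three] at Exy Eyy Ezy
  have hαη : η * α = 0 := by linear_combination η * Eyy - (α * b - γ * h) * hη
  have hβη : η * β = 0 := by linear_combination (-η) * Exy - (β * b + γ * e + a) * hη
  linear_combination Ezy - e * hαη - h * hβη

include hη hτ hxy hxz hyz in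
theorem lt_iff : Nonempty (PLie.PMap S p L) ↔
    ((f - b * τ) * η = 0 ∧ (1 - ∑ j ∈ range p, τ ^ j) * c * η = 0 ∧
      (1 - ∑ j ∈ range p, τ ^ j) * e * η = 0 ∧ (p = 2 → g * η = 0)) := by
  constructor
  · rintro ⟨φ⟩
    obtain ⟨h1, h2, h3⟩ := lt_necessary_x p η τ a b c d e f g h i hη hτ bs hxy hxz hyz φ
    exact ⟨h1, h2, h3, fun hp2 => lt_necessary_y p η τ a b c d e f g h i hη bs hxy hxz hyz hp2 φ⟩
  · rintro ⟨h1, h2, h3, h4⟩
    exact lt_exists p η τ a b c d e f g h i hη hτ bs hxy hxz hyz h1 h2 h3 h4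

end Lt

end Groth.Agent.Lib.Helper99.PLieLt
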