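import Groth.Agent.Lib.Helper99.PSAut

/-!
# More on order-`p` automorphisms of `k⟦X⟧` (helper99)

* `exists_natCast_eq_of_pow_eq`: in a field of characteristic `p`, `w ^ p = w` implies `w ∈ 𝔽_p`.
* `exists_sub_eq_normal_form`: `σ (X^j g) - X^j g = X^(j+m) (j c g(0) + X (...))`.
-/

set_option autoImplicit false

namespace Groth.Agent.Lib.Helper99

open PowerSeries

section FrobFixed

/-- in a field of characteristic `p`, the fixed points of Frobenius are the prime field -/
theorem exists_natCast_eq_of_pow_eq {K : Type*} [Field K] (p : ℕ) [Fact p.Prime] [CharP K p]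
    (w : K) (hw : w ^ p = w) : ∃ n : ℕ, w = n := by
  classical
  have hp1 : 1 < p := (Fact.out : p.Prime).one_lt
  set f : Polynomial K := Polynomial.X ^ p - Polynomial.X with hf
  have hf0 : f ≠ 0 := FiniteField.X_pow_card_sub_X_ne_zero K hp1
  have hdeg : f.natDegree = p := FiniteField.X_pow_card_sub_X_natDegree_eq K hp1
  set S : Finset K := (Finset.range p).image (Nat.cast : ℕ → K) with hS
  have hScard : S.card = p := by
    rw [hS, Finset.card_image_of_injOn, Finset.card_range]
    intro a ha b hb hab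
    exact CharP.natCast_injOn_Iio K p (by simpa using ha) (by simpa using hb) hab
  have hroot : ∀ x : K, x ∈ f.roots.toFinset ↔ x ^ p = x := by
    intro x
    rw [Multiset.mem_toFinset, Polynomial.mem_roots hf0, Polynomial.IsRoot.def, hf]
    simp [sub_eq_zero]
  have hsub : S ⊆ f.roots.toFinset := by
    intro x hx
    rw [hS, Finset.mem_image] at hx
    obtain ⟨n, -, rfl⟩ := hx
    rw [hroot]
    have := map_natCast (frobenius K p) n
    rwa [frobenius_def] at this
  have hcard : f.roots.toFinset.card ≤ S.card := by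
    rw [hScard]
    calc f.roots.toFinset.card ≤ Multiset.card f.roots := Multiset.toFinset_card_le _
      _ ≤ f.natDegree := Polynomial.card_roots' f
      _ = p := hdeg
  have heq : S = f.roots.toFinset := Finset.eq_of_subset_of_card_le hsub hcard
  have hwS : w ∈ S := by
    rw [heq, hroot]
    exact hw
  rw [hS, Finset.mem_image] at hwS
  obtain ⟨n, -, hn⟩ := hwS
  exact ⟨n, hn.symm⟩

end FrobFixed

section NormalForm

variable {k : Type*} [Field k] (σ : PowerSeries k ≃ₐ[k] PowerSeries k) (m : ℕ)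

/-- uniform normal form of `σ y - y` -/
theorem exists_sub_eq_normal_form (p : ℕ) [Fact p.Prime] [CharP k p] (hσp : σ ^ p = 1)
    (hm : (σ X - X).order = ((m + 1 : ℕ) : ℕ∞)) :
    ∃ c : k, c ≠ 0 ∧ ∀ (j : ℕ) (g : PowerSeries k), ∃ w' : PowerSeries k,
      σ (X ^ j * g) - X ^ j * g =
        X ^ (j + m) * (C ((j : k) * c * constantCoeff g) + X * w') := by
  obtain ⟨m', rfl⟩ : ∃ m', m = m' + 1 :=
    Nat.exists_eq_succ_of_ne_zero (by have := one_le_of_order σ m p hσp hm; omega)
  obtain ⟨c, u, hc, hX⟩ := exists_sub_X_eq σ _ hm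
  refine ⟨c, hc, ?_⟩
  intro j g
  obtain ⟨w, hw⟩ := exists_sub_X_pow_eq σ m' c u hX j
  obtain ⟨w₂, hw₂⟩ := X_pow_dvd_sub_of_order σ (m' + 1) hm.ge (m' + 1 + 1) le_rfl g
  -- `σ g = C g₀ + X * g'`
  have hσg0 : constantCoeff (σ g) = constantCoeff g :=
    constantCoeff_algHom (σ : PowerSeries k →ₐ[k] PowerSeries k) g
  obtain ⟨g', hg'⟩ : ∃ g' : PowerSeries k, σ g = C (constantCoeff g) + X * g' := by
    refine ⟨mk fun p => coeff (p + 1) (σ g), ?_⟩
    have := eq_X_mul_shift_add_const (σ g)
    rw [hσg0] at this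
    rw [add_comm]
    exact this
  refine ⟨w * σ g + C ((j : k) * c) * g' + w₂, ?_⟩
  have hC : (C ((j : k) * c * constantCoeff g) : PowerSeries k) =
      C ((j : k) * c) * C (constantCoeff g) := by rw [← map_mul]
  rw [map_mul, hC]
  linear_combination (σ g) * hw + X ^ j * hw₂ +
    (X ^ (j + (m' + 1)) * C ((j : k) * c)) * hg'

end NormalForm

section Misc

variable {k : Type*} [Field k]

theorem exists_eq_X_pow_mul (y : PowerSeries k) (hy : y ≠ 0) :
    ∃ (j : ℕ) (g : PowerSeries k), constantCoeff g ≠ 0 ∧ y = X ^ j * g ∧ y.order = (j : ℕ∞) := by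
  refine ⟨y.order.toNat, divXPowOrder y, ?_, ?_, ?_⟩
  · rw [constantCoeff_divXPowOrder]
    exact coeff_order hy
  · exact (X_pow_order_mul_divXPowOrder (f := y)).symm
  · exact (coe_toNat_order hy).symm

theorem order_eq_zero_of_constantCoeff_ne_zero (v : PowerSeries k) (hv : constantCoeff v ≠ 0) :
    v.order = 0 := by
  apply le_antisymm _ zero_le
  have : coeff 0 v ≠ 0 := by rwa [coeff_zero_eq_constantCoeff_apply]
  exact_mod_cast order_le 0 this

end Misc

end Groth.Agent.Lib.Helper99
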