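import Mathlib

/-!
# Parity decomposition of polynomials in two variables (helper99)

`R[x, y]` is free over `R[x², y²] = expand 2 (R[x, y])` with basis `1, x, y, xy`.
-/

set_option autoImplicit false

namespace Groth.Agent.Lib.Helper99

open MvPolynomial

section General

variable {σ : Type*} {R : Type*} [CommRing R]

/-- coefficient extraction for `expand 2 A * x^ε'` at exponents of parity `ε` -/
theorem coeff_expand_two_mul_monomial [DecidableEq σ] (A : MvPolynomial σ R) (m ε ε' : σ →₀ ℕ)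
    (hε : ∀ i, ε i ≤ 1) (hε' : ∀ i, ε' i ≤ 1) :
    coeff (2 • m + ε) (expand 2 A * monomial ε' 1) = if ε = ε' then coeff m A else 0 := by
  rw [coeff_mul_monomial', mul_one]
  by_cases h : ε = ε'
  · subst h
    rw [if_pos rfl, if_pos (le_add_left le_rfl), add_tsub_cancel_right,
      coeff_expand_smul 2 (by norm_num)]
  · rw [if_neg h]
    split_ifs with hle
    · obtain ⟨i, hi⟩ : ∃ i, ε i ≠ ε' i := by
        by_contra hall
        push Not at hall
        exact h (Finsupp.ext hall)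
      apply coeff_expand_of_not_dvd (i := i)
      have h1 := hε i
      have h2 := hε' i
      have h3 : ε' i ≤ (2 • m + ε) i := hle i
      simp only [Finsupp.coe_tsub, Finsupp.coe_add, Finsupp.coe_smul, Pi.sub_apply, Pi.add_apply,
        Pi.smul_apply, smul_eq_mul] at h3 ⊢
      omega
    · rfl

/-- multiplication by a monomial is injective -/
theorem eq_zero_of_mul_monomial_eq_zero (f : MvPolynomial σ R) (k : σ →₀ ℕ)
    (h : f * monomial k 1 = 0) : f = 0 := by
  ext m
  have := congrArg (coeff (m + k)) h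
  rw [coeff_mul_monomial, mul_one, coeff_zero] at this
  rw [this, coeff_zero]

/-- derivations kill `expand 2` in characteristic 2 -/
theorem derivation_expand_two_eq_zero (h2 : (2 : R) = 0)
    (D : Derivation R (MvPolynomial σ R) (MvPolynomial σ R)) (A : MvPolynomial σ R) :
    D (expand 2 A) = 0 := by
  have h2' : (2 : MvPolynomial σ R) = 0 := by
    have : (2 : MvPolynomial σ R) = C (2 : R) := (map_ofNat C 2).symm
    rw [this, h2, map_zero]
  induction A using MvPolynomial.induction_on with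
  | C r => rw [expand_C]; exact D.map_algebraMap r
  | add p q hp hq => rw [map_add, map_add, hp, hq, add_zero]
  | mul_X p i hp =>
    rw [map_mul, expand_X, Derivation.leibniz, hp, smul_zero, add_zero, Derivation.leibniz_pow]
    simp only [smul_eq_mul, nsmul_eq_mul]
    have : ((2 : ℕ) : MvPolynomial σ R) = 0 := by exact_mod_cast h2'
    rw [this, zero_mul, mul_zero]

end General

section TwoVar

variable {R : Type*} [CommRing R]

/-- uniqueness of the parity decomposition -/
theorem parity_unique (A₀ A₁ A₂ A₃ : MvPolynomial (Fin 2) R)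
    (h : expand 2 A₀ + expand 2 A₁ * X 0 + expand 2 A₂ * X 1 + expand 2 A₃ * (X 0 * X 1) = 0) :
    A₀ = 0 ∧ A₁ = 0 ∧ A₂ = 0 ∧ A₃ = 0 := by
  classical
  set ε₀ : Fin 2 →₀ ℕ := 0 with hε₀
  set ε₁ : Fin 2 →₀ ℕ := Finsupp.single 0 1 with hε₁
  set ε₂ : Fin 2 →₀ ℕ := Finsupp.single 1 1 with hε₂
  set ε₃ : Fin 2 →₀ ℕ := Finsupp.single 0 1 + Finsupp.single 1 1 with hε₃
  have hX0 : (X 0 : MvPolynomial (Fin 2) R) = monomial ε₁ 1 := rfl
  have hX1 : (X 1 : MvPolynomial (Fin 2) R) = monomial ε₂ 1 := rfl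
  have hX01 : (X 0 * X 1 : MvPolynomial (Fin 2) R) = monomial ε₃ 1 := by
    rw [hX0, hX1, monomial_mul, mul_one]
  have h1 : (1 : MvPolynomial (Fin 2) R) = monomial ε₀ 1 := rfl
  have hb0 : ∀ i, ε₀ i ≤ 1 := fun i => by simp [hε₀]
  have hb1 : ∀ i, ε₁ i ≤ 1 := fun i => by
    rw [hε₁, Finsupp.single_apply]; split_ifs <;> omega
  have hb2 : ∀ i, ε₂ i ≤ 1 := fun i => by
    rw [hε₂, Finsupp.single_apply]; split_ifs <;> omega
  have hb3 : ∀ i, ε₃ i ≤ 1 := fun i => by
    fin_cases i <;> simp [hε₃]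
  have hne01 : ε₀ ≠ ε₁ := fun h => by
    have := DFunLike.congr_fun h 0; simp [hε₀, hε₁] at this
  have hne02 : ε₀ ≠ ε₂ := fun h => by
    have := DFunLike.congr_fun h 1; simp [hε₀, hε₂] at this
  have hne03 : ε₀ ≠ ε₃ := fun h => by
    have := DFunLike.congr_fun h 0; simp [hε₀, hε₃] at this
  have hne12 : ε₁ ≠ ε₂ := fun h => by
    have := DFunLike.congr_fun h 0; simp [hε₁, hε₂] at this
  have hne13 : ε₁ ≠ ε₃ := fun h => by
    have := DFunLike.congr_fun h 1; simp [hε₁, hε₃] at this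
  have hne23 : ε₂ ≠ ε₃ := fun h => by
    have := DFunLike.congr_fun h 0; simp [hε₂, hε₃] at this
  have h' : expand 2 A₀ * monomial ε₀ 1 + expand 2 A₁ * monomial ε₁ 1 +
      expand 2 A₂ * monomial ε₂ 1 + expand 2 A₃ * monomial ε₃ 1 = 0 := by
    rw [← h1, mul_one, ← hX0, ← hX1, ← hX01]
    exact h
  have key : ∀ (ε : Fin 2 →₀ ℕ) (hb : ∀ i, ε i ≤ 1) (m : Fin 2 →₀ ℕ),
      (if ε = ε₀ then coeff m A₀ else 0) + (if ε = ε₁ then coeff m A₁ else 0) +
      (if ε = ε₂ then coeff m A₂ else 0) + (if ε = ε₃ then coeff m A₃ else 0) = 0 := by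
    intro ε hb m
    have := congrArg (coeff (2 • m + ε)) h'
    rw [coeff_add, coeff_add, coeff_add, coeff_expand_two_mul_monomial _ _ _ _ hb hb0,
      coeff_expand_two_mul_monomial _ _ _ _ hb hb1, coeff_expand_two_mul_monomial _ _ _ _ hb hb2,
      coeff_expand_two_mul_monomial _ _ _ _ hb hb3, coeff_zero] at this
    exact this
  refine ⟨?_, ?_, ?_, ?_⟩
  · ext m
    have := key ε₀ hb0 m
    rw [if_pos rfl, if_neg hne01, if_neg hne02, if_neg hne03, add_zero, add_zero, add_zero] at this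
    rw [this, coeff_zero]
  · ext m
    have := key ε₁ hb1 m
    rw [if_neg hne01.symm, if_pos rfl, if_neg hne12, if_neg hne13, zero_add, add_zero,
      add_zero] at this
    rw [this, coeff_zero]
  · ext m
    have := key ε₂ hb2 m
    rw [if_neg hne02.symm, if_neg hne12.symm, if_pos rfl, if_neg hne23, zero_add, zero_add,
      add_zero] at this
    rw [this, coeff_zero]
  · ext m
    have := key ε₃ hb3 m
    rw [if_neg hne03.symm, if_neg hne13.symm, if_neg hne23.symm, if_pos rfl, zero_add, zero_add,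
      zero_add] at this
    rw [this, coeff_zero]

/-- existence of the parity decomposition -/
theorem parity_exists (f : MvPolynomial (Fin 2) R) :
    ∃ A₀ A₁ A₂ A₃ : MvPolynomial (Fin 2) R,
      f = expand 2 A₀ + expand 2 A₁ * X 0 + expand 2 A₂ * X 1 + expand 2 A₃ * (X 0 * X 1) := by
  induction f using MvPolynomial.induction_on with
  | C r => exact ⟨C r, 0, 0, 0, by simp⟩
  | add p q hp hq =>
    obtain ⟨A₀, A₁, A₂, A₃, rfl⟩ := hp
    obtain ⟨B₀, B₁, B₂, B₃, rfl⟩ := hq
    exact ⟨A₀ + B₀, A₁ + B₁, A₂ + B₂, A₃ + B₃, by simp only [map_add]; ring⟩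
  | mul_X p i hp =>
    obtain ⟨A₀, A₁, A₂, A₃, rfl⟩ := hp
    fin_cases i
    · refine ⟨A₁ * X 0, A₀, A₃ * X 0, A₂, ?_⟩
      simp only [map_mul, expand_X, Fin.zero_eta]
      ring
    · refine ⟨A₂ * X 1, A₃ * X 1, A₀, A₁, ?_⟩
      simp only [map_mul, expand_X, Fin.mk_one]
      ring

end TwoVar

section Three

variable {R : Type*} [CommRing R]

/-- the inclusion `R[a,b] → R[a,b,c]` -/
noncomputable def incl3 : MvPolynomial (Fin 2) R →ₐ[R] MvPolynomial (Fin 3) R :=
  rename Fin.castSucc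

theorem incl3_X0 : incl3 (X 0 : MvPolynomial (Fin 2) R) = X 0 := by
  rw [incl3, rename_X]; rfl

theorem incl3_X1 : incl3 (X 1 : MvPolynomial (Fin 2) R) = X 1 := by
  rw [incl3, rename_X]; rfl

theorem incl3_C (r : R) : incl3 (C r : MvPolynomial (Fin 2) R) = C r := by
  rw [incl3, rename_C]

/-- division with remainder by `c² + G(a,b)` -/
theorem exists_div_quadratic (G' : MvPolynomial (Fin 2) R) (P : MvPolynomial (Fin 3) R) :
    ∃ (Q : MvPolynomial (Fin 3) R) (P₁ P₀ : MvPolynomial (Fin 2) R),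
      P = Q * (X 2 ^ 2 + incl3 G') + incl3 P₁ * X 2 + incl3 P₀ := by
  induction P using MvPolynomial.induction_on with
  | C r => exact ⟨0, 0, C r, by rw [incl3_C]; simp⟩
  | add p q hp hq =>
    obtain ⟨Q, P₁, P₀, rfl⟩ := hp
    obtain ⟨Q', P₁', P₀', rfl⟩ := hq
    exact ⟨Q + Q', P₁ + P₁', P₀ + P₀', by simp only [map_add]; ring⟩
  | mul_X p i hp =>
    obtain ⟨Q, P₁, P₀, rfl⟩ := hp
    fin_cases i
    · refine ⟨Q * X 0, P₁ * X 0, P₀ * X 0, ?_⟩
      simp only [map_mul, incl3_X0, Fin.zero_eta]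
      ring
    · refine ⟨Q * X 1, P₁ * X 1, P₀ * X 1, ?_⟩
      simp only [map_mul, incl3_X1, Fin.mk_one]
      ring
    · refine ⟨Q * X 2 + incl3 P₁, P₀, -(P₁ * G'), ?_⟩
      simp only [map_mul, map_neg, Fin.reduceFinMk]
      ring

/-- evaluating at `(x², y², g)` restricts to `expand 2` on `R[a,b]` -/
theorem aeval_sq_incl3 (g : MvPolynomial (Fin 2) R) (P : MvPolynomial (Fin 2) R) :
    aeval (R := R) (S₁ := MvPolynomial (Fin 2) R) ![X 0 ^ 2, X 1 ^ 2, g] (incl3 P) =
      expand 2 P := by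
  rw [incl3, aeval_rename]
  have : (aeval (R := R) (S₁ := MvPolynomial (Fin 2) R)
      ((![X 0 ^ 2, X 1 ^ 2, g] : Fin 3 → MvPolynomial (Fin 2) R) ∘ Fin.castSucc)) =
      expand 2 := by
    apply MvPolynomial.algHom_ext
    intro i
    rw [aeval_X, expand_X]
    fin_cases i <;> rfl
  rw [this]

end Three

end Groth.Agent.Lib.Helper99
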