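import Groth.Agent.Lib.Helper3.IntegralHensSplit
import Mathlib

/-!
# An unramified integral extension of a henselian DVR with perfect residue field (helper99)

Zorn's lemma on subalgebras of an algebraic closure of the fraction field: the "good" subalgebras
are the directed unions of finite free subalgebras of `p`-power rank which are "DVRs with the same
uniformizer" and whose residue field is purely inseparable over the original one.  A maximal good
subalgebra has perfect residue field, since otherwise one can adjoin a `p`-th root of a lift of a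
non-`p`-th power.
-/

set_option autoImplicit false
set_option linter.style.haveILetI false
set_option linter.unusedSectionVars false
set_option linter.unusedVariables false

universe u

open Polynomial

namespace Groth.Agent.Lib.Helper99.PerfRes

section Abstract
variable {S T : Type*} [CommRing S] [CommRing T] [Algebra S T]

/-- Every polynomial expression in `θ` is a combination of `1, θ, …, θ^(p-1)` when `θ^p ∈ S`. -/
theorem aeval_eq_sum_fin [Nontrivial S] (p : ℕ) (hp : 0 < p) (y : S) (θ : T)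
    (hθ : θ ^ p = algebraMap S T y) (f : S[X]) :
    ∃ c : Fin p → S, aeval θ f = ∑ j : Fin p, c j • θ ^ (j : ℕ) := by
  have hq : (X ^ p - C y : S[X]).Monic := monic_X_pow_sub_C y hp.ne'
  have h0 : aeval θ (X ^ p - C y : S[X]) = 0 := by
    rw [map_sub, map_pow, aeval_X, aeval_C, hθ, sub_self]
  have hne1 : (X ^ p - C y : S[X]) ≠ 1 := by
    intro h
    have := congrArg natDegree h
    rw [natDegree_X_pow_sub_C, natDegree_one] at this
    omega
  have hdeg : (f %ₘ (X ^ p - C y)).natDegree < p := by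
    have := natDegree_modByMonic_lt f hq hne1
    rwa [natDegree_X_pow_sub_C] at this
  refine ⟨fun j => (f %ₘ (X ^ p - C y)).coeff j, ?_⟩
  conv_lhs => rw [← modByMonic_add_div f (X ^ p - C y)]
  rw [map_add, map_mul, h0, zero_mul, add_zero, aeval_eq_sum_range' hdeg, Finset.sum_range]

/-- The key unit lemma: in `S[θ]`, `θ^p = y` not a `p`-th power mod `ϖ`, a combination of
`1, …, θ^(p-1)` with a coefficient not divisible by `ϖ` is a unit. -/
theorem isUnit_sum_of_not_dvd [Nontrivial T]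
    (ϖ : S) (hloc : ∀ x : S, ¬ ϖ ∣ x → IsUnit x)
    (hjac : ∀ ρ : T, IsUnit (1 + algebraMap S T ϖ * ρ))
    (p : ℕ) (hp : p.Prime) (y : S) (hy : ∀ z : S, ¬ ϖ ∣ (z ^ p - y))
    (θ : T) (hθ : θ ^ p = algebraMap S T y)
    (c : Fin p → S) (j₀ : Fin p) (hc : ¬ ϖ ∣ c j₀) :
    IsUnit (∑ j : Fin p, c j • θ ^ (j : ℕ)) := by
  classical
  have hϖnu : ¬ IsUnit ϖ := by
    intro hu
    obtain ⟨v, hv⟩ := hu.exists_right_inv
    have h1 := hjac (algebraMap S T (-v))
    rw [← map_mul, mul_neg, hv, map_neg, map_one, add_neg_cancel] at h1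
    exact not_isUnit_zero h1
  have hmax : (Ideal.span {ϖ}).IsMaximal := by
    rw [Ideal.isMaximal_iff]
    constructor
    · intro h1
      rw [Ideal.mem_span_singleton] at h1
      exact hϖnu (isUnit_of_dvd_one h1)
    · intro J x hJ hx hxJ
      have hxu : IsUnit x := hloc x (fun h => hx (Ideal.mem_span_singleton.mpr h))
      obtain ⟨v, hv⟩ := hxu.exists_left_inv
      rw [← hv]
      exact J.mul_mem_left v hxJ
  letI : Field (S ⧸ Ideal.span {ϖ}) := Ideal.Quotient.field _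
  have hirr : Irreducible (X ^ p - C (Ideal.Quotient.mk (Ideal.span {ϖ}) y) :
      (S ⧸ Ideal.span {ϖ})[X]) := by
    apply X_pow_sub_C_irreducible_of_prime hp
    intro b hb
    obtain ⟨z, rfl⟩ := Ideal.Quotient.mk_surjective b
    rw [← map_pow, ← sub_eq_zero, ← map_sub, Ideal.Quotient.eq_zero_iff_mem,
      Ideal.mem_span_singleton] at hb
    exact hy z hb
  -- the polynomials
  obtain ⟨g, hg⟩ : ∃ g : S[X], g = ∑ j : Fin p, C (c j) * X ^ (j : ℕ) := ⟨_, rfl⟩
  have hgθ : aeval θ g = ∑ j : Fin p, c j • θ ^ (j : ℕ) := by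
    rw [hg, map_sum]
    refine Finset.sum_congr rfl fun j _ => ?_
    rw [map_mul, aeval_C, map_pow, aeval_X, Algebra.smul_def]
  obtain ⟨gb, hgb⟩ : ∃ gb : (S ⧸ Ideal.span {ϖ})[X],
      gb = ∑ j : Fin p, C (Ideal.Quotient.mk (Ideal.span {ϖ}) (c j)) * X ^ (j : ℕ) := ⟨_, rfl⟩
  have hgmap : g.map (Ideal.Quotient.mk (Ideal.span {ϖ})) = gb := by
    rw [hg, hgb, Polynomial.map_sum]
    refine Finset.sum_congr rfl fun j _ => ?_
    rw [Polynomial.map_mul, Polynomial.map_C, Polynomial.map_pow, Polynomial.map_X]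
  have hgbdeg : gb.degree < p := by
    rw [hgb]
    exact degree_sum_fin_lt _
  have hgbcoeff : gb.coeff j₀ = Ideal.Quotient.mk (Ideal.span {ϖ}) (c j₀) := by
    rw [hgb, finsetSum_coeff, Finset.sum_eq_single j₀]
    · rw [coeff_C_mul, coeff_X_pow, if_pos rfl, mul_one]
    · intro j _ hj
      rw [coeff_C_mul, coeff_X_pow, if_neg (fun h => hj (Fin.ext h).symm), mul_zero]
    · intro h
      exact absurd (Finset.mem_univ _) h
  have hgbne : gb ≠ 0 := by
    intro h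
    rw [h, coeff_zero] at hgbcoeff
    exact hc (Ideal.mem_span_singleton.mp (Ideal.Quotient.eq_zero_iff_mem.mp hgbcoeff.symm))
  have hndvd : ¬ (X ^ p - C (Ideal.Quotient.mk (Ideal.span {ϖ}) y) :
      (S ⧸ Ideal.span {ϖ})[X]) ∣ gb := by
    intro hd
    have h1 := degree_le_of_dvd hd hgbne
    rw [degree_X_pow_sub_C hp.pos] at h1
    exact absurd (lt_of_le_of_lt h1 hgbdeg) (lt_irrefl _)
  obtain ⟨ab, bb, hab⟩ := (hirr.coprime_iff_not_dvd).mpr hndvd
  obtain ⟨a, rfl⟩ := Polynomial.map_surjective (Ideal.Quotient.mk (Ideal.span {ϖ}))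
    Ideal.Quotient.mk_surjective ab
  obtain ⟨b, rfl⟩ := Polynomial.map_surjective (Ideal.Quotient.mk (Ideal.span {ϖ}))
    Ideal.Quotient.mk_surjective bb
  have hmap : (a * (X ^ p - C y) + b * g - 1).map (Ideal.Quotient.mk (Ideal.span {ϖ})) = 0 := by
    rw [Polynomial.map_sub, Polynomial.map_add, Polynomial.map_mul, Polynomial.map_mul,
      Polynomial.map_sub, Polynomial.map_pow, Polynomial.map_X, Polynomial.map_C, hgmap,
      Polynomial.map_one, hab, sub_self]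
  have hdvd : C ϖ ∣ a * (X ^ p - C y) + b * g - 1 := by
    rw [C_dvd_iff_dvd_coeff]
    intro i
    have h1 := congrArg (fun f => f.coeff i) hmap
    simp only [coeff_map, coeff_zero] at h1
    exact Ideal.mem_span_singleton.mp (Ideal.Quotient.eq_zero_iff_mem.mp h1)
  obtain ⟨r, hr⟩ := hdvd
  have h0 : aeval θ (X ^ p - C y : S[X]) = 0 := by
    rw [map_sub, map_pow, aeval_X, aeval_C, hθ, sub_self]
  have heval := congrArg (aeval θ) hr
  rw [map_sub, map_add, map_mul, map_mul, h0, mul_zero, zero_add, map_one, map_mul, aeval_C]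
    at heval
  have h2 : aeval θ b * aeval θ g = 1 + algebraMap S T ϖ * aeval θ r := by
    rw [← heval]
    ring
  have h3 : IsUnit (aeval θ b * aeval θ g) := h2 ▸ hjac _
  rw [← hgθ]
  exact isUnit_of_mul_isUnit_right h3

/-- The Frobenius computation: modulo `ϖ ∣ p`, the `p`-th power of a combination of powers of
`θ` lies in the image of `S`. -/
theorem insep_step (ϖ : T) (p : ℕ) (hp : p.Prime) (hpϖ : ϖ ∣ ((p : ℕ) : T)) (hnu : ¬ IsUnit ϖ)
    (y : S) (θ : T) (hθ : θ ^ p = algebraMap S T y) (c : Fin p → S) (m : ℕ) (z : T)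
    (hz : ϖ ∣ z - (algebraMap S T (∑ j : Fin p, c j ^ p * y ^ (j : ℕ))) ^ (p ^ m)) :
    ϖ ∣ z - (∑ j : Fin p, c j • θ ^ (j : ℕ)) ^ (p ^ (m + 1)) := by
  haveI : Nontrivial (T ⧸ Ideal.span {ϖ}) :=
    Ideal.Quotient.nontrivial_iff.mpr (by rw [Ne, Ideal.span_singleton_eq_top]; exact hnu)
  have hp0 : ((p : ℕ) : T ⧸ Ideal.span {ϖ}) = 0 := by
    rw [← map_natCast (Ideal.Quotient.mk (Ideal.span {ϖ}))]
    exact Ideal.Quotient.eq_zero_iff_mem.mpr (Ideal.mem_span_singleton.mpr hpϖ)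
  haveI : CharP (T ⧸ Ideal.span {ϖ}) p := (CharP.charP_iff_prime_eq_zero hp).mpr hp0
  haveI : ExpChar (T ⧸ Ideal.span {ϖ}) p := ExpChar.prime hp
  have hterm : ∀ j : Fin p, (c j • θ ^ (j : ℕ)) ^ p = algebraMap S T (c j ^ p * y ^ (j : ℕ)) := by
    intro j
    rw [Algebra.smul_def, mul_pow, ← pow_mul, mul_comm (j : ℕ) p, pow_mul, hθ, map_mul, map_pow,
      map_pow]
  have hpow : (Ideal.Quotient.mk (Ideal.span {ϖ}) (∑ j : Fin p, c j • θ ^ (j : ℕ))) ^ p =
      Ideal.Quotient.mk (Ideal.span {ϖ})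
        (algebraMap S T (∑ j : Fin p, c j ^ p * y ^ (j : ℕ))) := by
    rw [map_sum, sum_pow_char p, map_sum, map_sum]
    refine Finset.sum_congr rfl fun j _ => ?_
    rw [← map_pow, hterm j]
  rw [← Ideal.mem_span_singleton, ← Ideal.Quotient.eq] at hz ⊢
  rw [map_pow, pow_succ', pow_mul, hpow, hz, map_pow]

end Abstract

section AbstractDVR

/-- A domain in which every nonzero element is a power of a fixed nonzero nonunit `ϖ` times a unit
is a discrete valuation ring with uniformizer `ϖ`. -/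
theorem dvr_of_unit_mul_pow {A : Type*} [CommRing A] [IsDomain A] (ϖ : A) (hϖ0 : ϖ ≠ 0)
    (hϖnu : ¬ IsUnit ϖ) (h : ∀ x : A, x ≠ 0 → ∃ (n : ℕ) (u : A), IsUnit u ∧ x = ϖ ^ n * u) :
    Irreducible ϖ ∧ IsDiscreteValuationRing A := by
  have hirr : Irreducible ϖ := by
    refine ⟨hϖnu, fun a b hab => ?_⟩
    have ha0 : a ≠ 0 := by
      rintro rfl
      exact hϖ0 (by rw [hab, zero_mul])
    have hb0 : b ≠ 0 := by
      rintro rfl
      exact hϖ0 (by rw [hab, mul_zero])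
    obtain ⟨n, u, hu, hau⟩ := h a ha0
    obtain ⟨m, v, hv, hbv⟩ := h b hb0
    rcases Nat.eq_zero_or_pos n with hn | hn
    · left
      rw [hau, hn, pow_zero, one_mul]
      exact hu
    rcases Nat.eq_zero_or_pos m with hm | hm
    · right
      rw [hbv, hm, pow_zero, one_mul]
      exact hv
    exfalso
    have e1 : ϖ ^ n = ϖ * ϖ ^ (n - 1) := by rw [← pow_succ', Nat.sub_add_cancel hn]
    have e2 : ϖ ^ m = ϖ * ϖ ^ (m - 1) := by rw [← pow_succ', Nat.sub_add_cancel hm]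
    have h1 : ϖ * 1 = ϖ * (ϖ * (ϖ ^ (n - 1) * ϖ ^ (m - 1) * (u * v))) := by
      calc ϖ * 1 = ϖ := mul_one _
        _ = a * b := hab
        _ = (ϖ * ϖ ^ (n - 1)) * u * ((ϖ * ϖ ^ (m - 1)) * v) := by rw [hau, hbv, e1, e2]
        _ = ϖ * (ϖ * (ϖ ^ (n - 1) * ϖ ^ (m - 1) * (u * v))) := by ring
    have h2 := mul_left_cancel₀ hϖ0 h1
    exact hϖnu (isUnit_of_dvd_one ⟨_, h2⟩)
  refine ⟨hirr, IsDiscreteValuationRing.ofHasUnitMulPowIrreducibleFactorization
    ⟨ϖ, hirr, fun {x} hx => ?_⟩⟩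
  obtain ⟨n, u, hu, rfl⟩ := h x hx
  exact ⟨n, ⟨hu.unit, by rw [IsUnit.unit_spec]⟩⟩

end AbstractDVR

section Setting
variable {R : Type u} [CommRing R] [IsDomain R] [IsDiscreteValuationRing R]
  {Ω : Type u} [Field Ω] [Algebra R Ω]

/-- The good subalgebras: directed unions of finite free subalgebras of `p`-power rank, in which
every nonzero element is a power of `π` times a unit, and whose elements have a `p`-power-th power
congruent to an element of `R` modulo `π`. -/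
structure Good (π : R) (p : ℕ) (S : Subalgebra R Ω) : Prop where
  fin : ∀ s : Finset Ω, (↑s : Set Ω) ⊆ S → ∃ S₀ : Subalgebra R Ω, S₀ ≤ S ∧ (↑s : Set Ω) ⊆ S₀ ∧
    Module.Finite R S₀ ∧ Module.Free R S₀ ∧ ∃ m : ℕ, Module.finrank R S₀ = p ^ m
  dvr : ∀ x ∈ S, x ≠ 0 → ∃ (n : ℕ) (u u' : Ω), u ∈ S ∧ u' ∈ S ∧ u * u' = 1 ∧
    x = algebraMap R Ω π ^ n * u
  insep : ∀ y ∈ S, ∃ (m : ℕ) (z : R) (w : Ω), w ∈ S ∧
    algebraMap R Ω z - y ^ (p ^ m) = algebraMap R Ω π * w

variable (π : R) (p : ℕ) (hπ : Irreducible π) (hinj : Function.Injective (algebraMap R Ω))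
  (hnu : ∀ x : Ω, IsIntegral R x → algebraMap R Ω π * x ≠ 1)

theorem Good.isIntegral {S : Subalgebra R Ω} (hS : Good π p S) (x : Ω) (hx : x ∈ S) :
    IsIntegral R x := by
  obtain ⟨S₀, _, hs, hfin, _, _⟩ := hS.fin {x} (by simpa using hx)
  have hx₀ : x ∈ S₀ := hs (by simp)
  exact IsIntegral.of_mem_of_fg S₀ (Module.Finite.iff_fg.mp hfin) x hx₀

include hnu in
/-- a unit of a good subalgebra is not divisible by `π` -/
theorem Good.not_dvd_of_unit {S : Subalgebra R Ω} (hS : Good π p S) (u u' w : Ω)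
    (hu' : u' ∈ S) (hw : w ∈ S) (huu : u * u' = 1) : u ≠ algebraMap R Ω π * w := by
  intro h
  apply hnu (w * u') (hS.isIntegral π p _ (S.mul_mem hw hu'))
  rw [← mul_assoc, ← h, huu]

include hnu in
/-- an element of a good subalgebra not divisible by `π` is a unit -/
theorem Good.unit_of_not_dvd {S : Subalgebra R Ω} (hS : Good π p S) (x : Ω) (hx : x ∈ S)
    (hnd : ∀ w ∈ S, x ≠ algebraMap R Ω π * w) : ∃ x' ∈ S, x * x' = 1 := by
  have hx0 : x ≠ 0 := by
    intro h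
    exact hnd 0 S.zero_mem (by rw [h, mul_zero])
  obtain ⟨n, u, u', hu, hu', huu, hxu⟩ := hS.dvr x hx hx0
  rcases Nat.eq_zero_or_pos n with hn | hn
  · rw [hn, pow_zero, one_mul] at hxu
    exact ⟨u', hu', by rw [hxu, huu]⟩
  · exfalso
    apply hnd (algebraMap R Ω π ^ (n - 1) * u)
      (S.mul_mem (S.pow_mem (S.algebraMap_mem π) _) hu)
    rw [hxu, ← mul_assoc, ← pow_succ', Nat.sub_add_cancel hn]

include hπ hinj in
theorem good_bot (hp1 : 1 ≤ p) : Good π p (⊥ : Subalgebra R Ω) := by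
  have hmem : ∀ x : Ω, x ∈ (⊥ : Subalgebra R Ω) ↔ ∃ r : R, algebraMap R Ω r = x := by
    intro x
    rw [Algebra.mem_bot]
    exact Set.mem_range
  refine ⟨?_, ?_, ?_⟩
  · intro s hs
    refine ⟨⊥, le_refl _, hs, ?_, ?_, 0, ?_⟩
    · exact Module.Finite.equiv (Algebra.botEquivOfInjective hinj).symm.toLinearEquiv
    · exact Module.Free.of_equiv (Algebra.botEquivOfInjective hinj).symm.toLinearEquiv
    · rw [pow_zero, ← (Algebra.botEquivOfInjective hinj).symm.toLinearEquiv.finrank_eq,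
        Module.finrank_self]
  · intro x hx hx0
    obtain ⟨r, rfl⟩ := (hmem x).mp hx
    have hr0 : r ≠ 0 := by
      intro h
      exact hx0 (by rw [h, map_zero])
    obtain ⟨n, u, hu⟩ := IsDiscreteValuationRing.eq_unit_mul_pow_irreducible hr0 hπ
    refine ⟨n, algebraMap R Ω u, algebraMap R Ω (↑u⁻¹ : R), (hmem _).mpr ⟨_, rfl⟩,
      (hmem _).mpr ⟨_, rfl⟩, ?_, ?_⟩
    · rw [← map_mul, Units.mul_inv, map_one]
    · rw [hu, map_mul, map_pow, mul_comm]
  · intro y hy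
    obtain ⟨r, rfl⟩ := (hmem y).mp hy
    exact ⟨0, r, 0, Subalgebra.zero_mem _, by rw [pow_zero, pow_one, sub_self, mul_zero]⟩

theorem good_sSup (c : Set (Subalgebra R Ω)) (hc : IsChain (· ≤ ·) c) (hne : c.Nonempty)
    (hgood : ∀ S ∈ c, Good π p S) : Good π p (sSup c) := by
  classical
  have hmem : ∀ x : Ω, x ∈ sSup c ↔ ∃ S ∈ c, x ∈ S := by
    intro x
    haveI : Nonempty c := hne.to_subtype
    have hdir : Directed (· ≤ ·) (fun i : c => (i : Subalgebra R Ω)) :=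
      hc.directedOn.directed_val
    rw [sSup_eq_iSup', ← SetLike.mem_coe, Subalgebra.coe_iSup_of_directed hdir, Set.mem_iUnion]
    constructor
    · rintro ⟨i, hi⟩
      exact ⟨i.1, i.2, hi⟩
    · rintro ⟨S, hS, hx⟩
      exact ⟨⟨S, hS⟩, hx⟩
  have hfinset : ∀ s : Finset Ω, (↑s : Set Ω) ⊆ ((sSup c : Subalgebra R Ω) : Set Ω) →
      ∃ S ∈ c, (↑s : Set Ω) ⊆ S := by
    intro s
    induction s using Finset.induction_on with
    | empty =>
      intro _
      obtain ⟨S, hS⟩ := hne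
      exact ⟨S, hS, by simp⟩
    | insert a s ha ih =>
      intro hs
      rw [Finset.coe_insert, Set.insert_subset_iff] at hs
      obtain ⟨S₁, hS₁, hs₁⟩ := ih hs.2
      obtain ⟨S₂, hS₂, ha₂⟩ := (hmem a).mp hs.1
      rcases hc.total hS₁ hS₂ with h | h
      · refine ⟨S₂, hS₂, ?_⟩
        rw [Finset.coe_insert, Set.insert_subset_iff]
        exact ⟨ha₂, fun x hx => h (hs₁ hx)⟩
      · refine ⟨S₁, hS₁, ?_⟩
        rw [Finset.coe_insert, Set.insert_subset_iff]
        exact ⟨h ha₂, hs₁⟩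
  refine ⟨?_, ?_, ?_⟩
  · intro s hs
    obtain ⟨S, hS, hsS⟩ := hfinset s hs
    obtain ⟨S₀, h1, h2, h3⟩ := (hgood S hS).fin s hsS
    exact ⟨S₀, h1.trans (le_sSup hS), h2, h3⟩
  · intro x hx hx0
    obtain ⟨S, hS, hxS⟩ := (hmem x).mp hx
    obtain ⟨n, u, u', hu, hu', h⟩ := (hgood S hS).dvr x hxS hx0
    exact ⟨n, u, u', le_sSup hS hu, le_sSup hS hu', h⟩
  · intro y hy
    obtain ⟨S, hS, hyS⟩ := (hmem y).mp hy
    obtain ⟨m, z, w, hw, h⟩ := (hgood S hS).insep y hyS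
    exact ⟨m, z, w, le_sSup hS hw, h⟩

include hπ hinj hnu in
/-- **The extension step**: adjoining a `p`-th root of an element which is not a `p`-th power
modulo `π` preserves goodness. -/
theorem good_ext (hp : p.Prime) (hpπ : ∃ r : R, (p : R) = π * r)
    (S : Subalgebra R Ω) (hS : Good π p S)
    (y : Ω) (hyS : y ∈ S) (hy : ∀ z ∈ S, ∀ w ∈ S, z ^ p - y ≠ algebraMap R Ω π * w)
    (θ : Ω) (hθ : θ ^ p = y) :
    Good π p ((aeval θ : (↥S)[X] →ₐ[↥S] Ω).range.restrictScalars R) := by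
  classical
  obtain ⟨T, hT⟩ : ∃ T : Subalgebra S Ω, T = (aeval θ : (↥S)[X] →ₐ[↥S] Ω).range := ⟨_, rfl⟩
  rw [← hT]
  have hmemT : ∀ x : Ω, x ∈ T ↔ ∃ f : (↥S)[X], aeval θ f = x := by
    intro x
    rw [hT]
    exact AlgHom.mem_range _
  obtain ⟨ϖ, hϖ⟩ : ∃ ϖ : Ω, ϖ = algebraMap R Ω π := ⟨_, rfl⟩
  obtain ⟨ϖS, hϖS⟩ : ∃ ϖS : S, ϖS = algebraMap R S π := ⟨_, rfl⟩
  have hϖSval : (ϖS : Ω) = ϖ := by rw [hϖS, hϖ]; rfl
  have hϖ0 : ϖ ≠ 0 := by
    rw [hϖ]
    intro h
    exact hπ.ne_zero (hinj (h.trans (map_zero _).symm))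
  obtain ⟨ys, hys⟩ : ∃ ys : S, (ys : Ω) = y := ⟨⟨y, hyS⟩, rfl⟩
  have hθ' : θ ^ p = algebraMap S Ω ys := by rw [hθ, ← hys]; rfl
  have hST : ∀ x ∈ S, x ∈ T := by
    intro x hx
    refine (hmemT x).mpr ⟨C ⟨x, hx⟩, ?_⟩
    rw [aeval_C]
    rfl
  have hθT : θ ∈ T := (hmemT θ).mpr ⟨X, aeval_X θ⟩
  have hrep : ∀ x ∈ T, ∃ c : Fin p → S, x = ∑ j : Fin p, (c j : Ω) * θ ^ (j : ℕ) := by
    intro x hx
    obtain ⟨f, rfl⟩ := (hmemT x).mp hx
    obtain ⟨c, hc⟩ := aeval_eq_sum_fin p hp.pos ys θ hθ' f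
    exact ⟨c, hc.trans (Finset.sum_congr rfl fun j _ => rfl)⟩
  have hsumT : ∀ c : Fin p → S, ∑ j : Fin p, (c j : Ω) * θ ^ (j : ℕ) ∈ T := by
    intro c
    exact Subalgebra.sum_mem _ fun j _ => T.mul_mem (hST _ (c j).2) (T.pow_mem hθT _)
  have hθint : IsIntegral R θ := IsIntegral.of_pow hp.pos (hθ ▸ hS.isIntegral π p y hyS)
  have hTint : ∀ x ∈ T, IsIntegral R x := by
    intro x hx
    obtain ⟨c, rfl⟩ := hrep x hx
    exact IsIntegral.sum _ fun j _ => (hS.isIntegral π p _ (c j).2).mul (hθint.pow _)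
  haveI : Algebra.IsIntegral R T :=
    ⟨fun x => (isIntegral_algebraMap_iff (B := Ω) (fun a b h => Subtype.ext h)).mp (hTint x.1 x.2)⟩
  obtain ⟨ϖT, hϖT⟩ : ∃ ϖT : T, ϖT = algebraMap R T π := ⟨_, rfl⟩
  have hϖST : algebraMap S T ϖS = ϖT := by
    rw [hϖS, hϖT]
    exact (IsScalarTower.algebraMap_apply R S T π).symm
  have hϖTval : (ϖT : Ω) = ϖ := by rw [hϖT, hϖ]; rfl
  have hjac : ∀ ρ : T, IsUnit (1 + algebraMap S T ϖS * ρ) := by
    intro ρ
    by_contra hv
    obtain ⟨M, hM, hvM⟩ := exists_max_ideal_of_mem_nonunits (mem_nonunits_iff.mpr hv)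
    haveI := hM
    have hcomap : (M.comap (algebraMap R T)).IsMaximal :=
      Ideal.isMaximal_comap_of_isIntegral_of_isMaximal M
    have hπM : ϖT ∈ M := by
      have h1 : π ∈ M.comap (algebraMap R T) := by
        rw [IsLocalRing.eq_maximalIdeal hcomap]
        exact (IsLocalRing.mem_maximalIdeal _).mpr hπ.not_isUnit
      rw [hϖT]
      exact h1
    rw [hϖST] at hvM
    have h3 : (1 : T) ∈ M := by
      have := M.sub_mem hvM (M.mul_mem_right ρ hπM)
      rwa [add_sub_cancel_right] at this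
    exact hM.ne_top ((Ideal.eq_top_iff_one M).mpr h3)
  have hdvdS : ∀ x : S, ϖS ∣ x ↔ ∃ w ∈ S, (x : Ω) = ϖ * w := by
    intro x
    constructor
    · rintro ⟨w, rfl⟩
      exact ⟨w.1, w.2, by rw [Subalgebra.coe_mul, hϖSval]⟩
    · rintro ⟨w, hw, h⟩
      exact ⟨⟨w, hw⟩, Subtype.ext (by rw [Subalgebra.coe_mul, hϖSval]; exact h)⟩
  have hloc : ∀ x : S, ¬ ϖS ∣ x → IsUnit x := by
    intro x hx
    obtain ⟨x', hx', hxx⟩ := hS.unit_of_not_dvd π p hnu x.1 x.2
      (fun w hw h => hx ((hdvdS x).mpr ⟨w, hw, hϖ ▸ h⟩))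
    exact IsUnit.of_mul_eq_one ⟨x', hx'⟩ (Subtype.ext hxx)
  have hyS' : ∀ z : S, ¬ ϖS ∣ (z ^ p - ys) := by
    intro z hz
    obtain ⟨w, hw, h⟩ := (hdvdS _).mp hz
    rw [Subalgebra.coe_sub, Subalgebra.coe_pow, hys, hϖ] at h
    exact hy z.1 z.2 w hw h
  obtain ⟨θT, hθTval⟩ : ∃ θT : T, (θT : Ω) = θ := ⟨⟨θ, hθT⟩, rfl⟩
  have hθTp : θT ^ p = algebraMap S T ys := by
    apply Subtype.ext
    rw [Subalgebra.coe_pow, hθTval, hθ']
    rfl
  have hvalsum : ∀ c : Fin p → S,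
      ((∑ j : Fin p, c j • θT ^ (j : ℕ) : T) : Ω) = ∑ j : Fin p, (c j : Ω) * θ ^ (j : ℕ) := by
    intro c
    have h1 : T.val (∑ j : Fin p, c j • θT ^ (j : ℕ)) = ∑ j : Fin p, (c j : Ω) * θ ^ (j : ℕ) := by
      rw [map_sum]
      refine Finset.sum_congr rfl fun j _ => ?_
      rw [map_smul, map_pow]
      show c j • (θT : Ω) ^ (j : ℕ) = _
      rw [hθTval]
      rfl
    exact h1
  have hunit : ∀ (c : Fin p → S) (j₀ : Fin p), ¬ ϖS ∣ c j₀ →
      ∃ x' ∈ T, (∑ j : Fin p, (c j : Ω) * θ ^ (j : ℕ)) * x' = 1 := by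
    intro c j₀ hc
    have h1 := isUnit_sum_of_not_dvd (S := S) (T := T) ϖS hloc hjac p hp ys hyS' θT hθTp c j₀ hc
    obtain ⟨x', hx'⟩ := h1.exists_right_inv
    refine ⟨x'.1, x'.2, ?_⟩
    have h2 := congrArg Subtype.val hx'
    rw [Subalgebra.coe_mul, hvalsum c] at h2
    exact h2
  have hnf : ∀ c : Fin p → S, c ≠ 0 → ∃ (n : ℕ) (c' : Fin p → S) (j₀ : Fin p),
      (∀ j, c j = ϖS ^ n * c' j) ∧ ¬ ϖS ∣ c' j₀ := by
    intro c hc
    have hval : ∀ j, c j ≠ 0 → ∃ (n : ℕ) (u : S), IsUnit u ∧ c j = ϖS ^ n * u := by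
      intro j hj
      obtain ⟨n, u, u', hu, hu', huu, hxu⟩ := hS.dvr (c j).1 (c j).2
        (fun h => hj (Subtype.ext h))
      refine ⟨n, ⟨u, hu⟩, IsUnit.of_mul_eq_one ⟨u', hu'⟩ (Subtype.ext huu), Subtype.ext ?_⟩
      rw [Subalgebra.coe_mul, Subalgebra.coe_pow, hϖSval, hϖ]
      exact hxu
    choose! nf uf huf hcf using hval
    obtain ⟨j₁, hj₁⟩ : ∃ j, c j ≠ 0 := by
      by_contra h
      push Not at h
      exact hc (funext h)
    obtain ⟨j₀, hj₀mem, hj₀min⟩ := Finset.exists_min_image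
      (Finset.univ.filter fun j => c j ≠ 0) nf ⟨j₁, by simp [hj₁]⟩
    have hj₀ : c j₀ ≠ 0 := (Finset.mem_filter.mp hj₀mem).2
    refine ⟨nf j₀, fun j => if c j = 0 then 0 else ϖS ^ (nf j - nf j₀) * uf j, j₀, ?_, ?_⟩
    · intro j
      by_cases hj : c j = 0
      · simp [hj]
      · have hle : nf j₀ ≤ nf j := hj₀min j (by simp [hj])
        simp only [if_neg hj]
        rw [← mul_assoc, ← pow_add, Nat.add_sub_cancel' hle]
        exact hcf j hj
    · simp only [if_neg hj₀]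
      rw [Nat.sub_self, pow_zero, one_mul]
      intro hd
      obtain ⟨w, hw, h⟩ := (hdvdS _).mp hd
      obtain ⟨v, hv⟩ := (huf j₀ hj₀).exists_right_inv
      have hv' : (uf j₀ : Ω) * (v : Ω) = 1 := by
        have := congrArg Subtype.val hv
        rwa [Subalgebra.coe_mul] at this
      exact hS.not_dvd_of_unit π p hnu (uf j₀).1 v.1 w v.2 hw hv' (hϖ ▸ h)
  have hfactor : ∀ (n : ℕ) (c c' : Fin p → S), (∀ j, c j = ϖS ^ n * c' j) →
      ∑ j : Fin p, (c j : Ω) * θ ^ (j : ℕ) = ϖ ^ n * ∑ j : Fin p, (c' j : Ω) * θ ^ (j : ℕ) := by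
    intro n c c' hcc'
    rw [Finset.mul_sum]
    refine Finset.sum_congr rfl fun j _ => ?_
    rw [hcc' j, Subalgebra.coe_mul, Subalgebra.coe_pow, hϖSval, mul_assoc]
  have hindep : ∀ c : Fin p → S, ∑ j : Fin p, (c j : Ω) * θ ^ (j : ℕ) = 0 → c = 0 := by
    intro c hc0
    by_contra hcne
    obtain ⟨n, c', j₀, hcc', hj₀⟩ := hnf c hcne
    obtain ⟨x', _, hx'⟩ := hunit c' j₀ hj₀
    rw [hfactor n c c' hcc'] at hc0
    rcases mul_eq_zero.mp hc0 with h | h
    · exact hϖ0 (eq_zero_of_pow_eq_zero h)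
    · rw [h, zero_mul] at hx'
      exact zero_ne_one hx'
  refine ⟨?_, ?_, ?_⟩
  · -- finite free subalgebras
    intro s hs
    have hs' : ∀ x : {x // x ∈ s}, ∃ c : Fin p → S,
        x.1 = ∑ j : Fin p, (c j : Ω) * θ ^ (j : ℕ) := fun x => hrep x.1 (hs x.2)
    choose cf hcf using hs'
    obtain ⟨s₁, hs₁⟩ : ∃ s₁ : Finset Ω, s₁ = insert y
        ((Finset.univ : Finset ({x // x ∈ s} × Fin p)).image fun a => ((cf a.1 a.2 : S) : Ω)) :=
      ⟨_, rfl⟩
    have hs₁S : (↑s₁ : Set Ω) ⊆ S := by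
      intro x hx
      rw [hs₁, Finset.coe_insert, Set.mem_insert_iff] at hx
      rcases hx with rfl | hx
      · exact hyS
      · obtain ⟨a, _, rfl⟩ := Finset.mem_image.mp (Finset.mem_coe.mp hx)
        exact (cf a.1 a.2).2
    obtain ⟨S₀, hS₀S, hs₁S₀, hfin, hfree, m, hrank⟩ := hS.fin s₁ hs₁S
    haveI := hfin
    haveI := hfree
    have hyS₀ : y ∈ S₀ := hs₁S₀ (by rw [hs₁]; simp)
    have hcfS₀ : ∀ (x : {x // x ∈ s}) (j : Fin p), ((cf x j : S) : Ω) ∈ S₀ := by
      intro x j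
      apply hs₁S₀
      rw [hs₁, Finset.coe_insert]
      exact Set.mem_insert_of_mem _ (Finset.mem_coe.mpr
        (Finset.mem_image.mpr ⟨(x, j), Finset.mem_univ _, rfl⟩))
    -- the new finite subalgebra
    obtain ⟨ys₀, hys₀⟩ : ∃ ys₀ : S₀, (ys₀ : Ω) = y := ⟨⟨y, hyS₀⟩, rfl⟩
    have hθ₀ : θ ^ p = algebraMap S₀ Ω ys₀ := by rw [hθ, ← hys₀]; rfl
    obtain ⟨T₀, hT₀⟩ : ∃ T₀ : Subalgebra S₀ Ω, T₀ = (aeval θ : (↥S₀)[X] →ₐ[↥S₀] Ω).range :=
      ⟨_, rfl⟩
    have hmemT₀ : ∀ x : Ω, x ∈ T₀ ↔ ∃ f : (↥S₀)[X], aeval θ f = x := by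
      intro x
      rw [hT₀]
      exact AlgHom.mem_range _
    have hS₀T₀ : ∀ x ∈ S₀, x ∈ T₀ := by
      intro x hx
      refine (hmemT₀ x).mpr ⟨C ⟨x, hx⟩, ?_⟩
      rw [aeval_C]
      rfl
    have hθT₀ : θ ∈ T₀ := (hmemT₀ θ).mpr ⟨X, aeval_X θ⟩
    have hrep₀ : ∀ x ∈ T₀, ∃ c : Fin p → S₀, x = ∑ j : Fin p, (c j : Ω) * θ ^ (j : ℕ) := by
      intro x hx
      obtain ⟨f, rfl⟩ := (hmemT₀ x).mp hx
      haveI : Nontrivial S₀ := inferInstance
      obtain ⟨c, hc⟩ := aeval_eq_sum_fin p hp.pos ys₀ θ hθ₀ f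
      exact ⟨c, hc.trans (Finset.sum_congr rfl fun j _ => rfl)⟩
    have hsumT₀ : ∀ c : Fin p → S₀, ∑ j : Fin p, (c j : Ω) * θ ^ (j : ℕ) ∈ T₀ := by
      intro c
      exact Subalgebra.sum_mem _ fun j _ => T₀.mul_mem (hS₀T₀ _ (c j).2) (T₀.pow_mem hθT₀ _)
    refine ⟨T₀.restrictScalars R, ?_, ?_, ?_⟩
    · intro x hx
      rw [Subalgebra.mem_restrictScalars] at hx ⊢
      obtain ⟨c, rfl⟩ := hrep₀ x hx
      exact Subalgebra.sum_mem _ fun j _ =>
        T.mul_mem (hST _ (hS₀S (c j).2)) (T.pow_mem hθT _)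
    · intro x hx
      rw [SetLike.mem_coe, Subalgebra.mem_restrictScalars]
      have hx' : x = ∑ j : Fin p, ((cf ⟨x, Finset.mem_coe.mp hx⟩ j : S) : Ω) * θ ^ (j : ℕ) :=
        hcf ⟨x, Finset.mem_coe.mp hx⟩
      rw [hx']
      exact Subalgebra.sum_mem _ fun j _ =>
        T₀.mul_mem (hS₀T₀ _ (hcfS₀ _ j)) (T₀.pow_mem hθT₀ _)
    · -- the linear equivalence
      let Φ₀ : (Fin p → S₀) →ₗ[R] Ω :=
        { toFun := fun c => ∑ j : Fin p, (c j : Ω) * θ ^ (j : ℕ)
          map_add' := fun c c' => by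
            simp only [Pi.add_apply, Subalgebra.coe_add, add_mul, Finset.sum_add_distrib]
          map_smul' := fun r c => by
            simp only [Pi.smul_apply, Subalgebra.coe_smul, RingHom.id_apply, Finset.smul_sum,
              smul_mul_assoc] }
      have hΦ₀mem : ∀ c, Φ₀ c ∈ (T₀.restrictScalars R).toSubmodule := fun c => hsumT₀ c
      let Φ : (Fin p → S₀) →ₗ[R] ↥(T₀.restrictScalars R) :=
        LinearMap.codRestrict (T₀.restrictScalars R).toSubmodule Φ₀ hΦ₀mem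
      have hΦinj : Function.Injective Φ := by
        rw [← LinearMap.ker_eq_bot, LinearMap.ker_eq_bot']
        intro c hc
        have hc0 : ∑ j : Fin p, (c j : Ω) * θ ^ (j : ℕ) = 0 := congrArg Subtype.val hc
        have h1 := hindep (fun j => ⟨(c j : Ω), hS₀S (c j).2⟩) hc0
        funext j
        have h2 := congrFun h1 j
        have h3 : ((c j : S₀) : Ω) = 0 := congrArg Subtype.val h2
        exact Subtype.ext h3
      have hΦsurj : Function.Surjective Φ := by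
        rintro ⟨x, hx⟩
        obtain ⟨c, hc⟩ := hrep₀ x hx
        exact ⟨c, Subtype.ext hc.symm⟩
      let e : (Fin p → S₀) ≃ₗ[R] ↥(T₀.restrictScalars R) :=
        LinearEquiv.ofBijective Φ ⟨hΦinj, hΦsurj⟩
      refine ⟨Module.Finite.equiv e, Module.Free.of_equiv e, m + 1, ?_⟩
      rw [← e.finrank_eq, Module.finrank_pi_fintype, Finset.sum_const, Finset.card_univ,
        Fintype.card_fin, smul_eq_mul, hrank, pow_succ']
  · -- the DVR property
    intro x hx hx0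
    rw [Subalgebra.mem_restrictScalars] at hx
    obtain ⟨c, rfl⟩ := hrep x hx
    have hcne : c ≠ 0 := by
      rintro rfl
      exact hx0 (by simp)
    obtain ⟨n, c', j₀, hcc', hj₀⟩ := hnf c hcne
    obtain ⟨x', hx'T, hx'⟩ := hunit c' j₀ hj₀
    refine ⟨n, _, x', hsumT c', hx'T, hx', ?_⟩
    rw [← hϖ]
    exact hfactor n c c' hcc'
  · -- the residue field stays purely inseparable
    intro x hx
    rw [Subalgebra.mem_restrictScalars] at hx
    obtain ⟨c, rfl⟩ := hrep x hx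
    have hϖTnu : ¬ IsUnit ϖT := by
      intro hu
      obtain ⟨v, hv⟩ := hu.exists_right_inv
      apply hnu v.1 (hTint v.1 v.2)
      have h1 := congrArg Subtype.val hv
      rw [Subalgebra.coe_mul, hϖTval, hϖ] at h1
      exact h1
    have hpT : ϖT ∣ ((p : ℕ) : T) := by
      obtain ⟨r, hr⟩ := hpπ
      refine ⟨algebraMap R T r, ?_⟩
      rw [← map_natCast (algebraMap R T), hr, map_mul, hϖT]
    obtain ⟨s₁, hs₁⟩ : ∃ s₁ : S, s₁ = ∑ j : Fin p, c j ^ p * ys ^ (j : ℕ) := ⟨_, rfl⟩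
    obtain ⟨m, z, w, hw, hzw⟩ := hS.insep s₁.1 s₁.2
    have hz : ϖT ∣ algebraMap R T z - (algebraMap S T s₁) ^ (p ^ m) := by
      refine ⟨⟨w, hST w hw⟩, Subtype.ext ?_⟩
      rw [Subalgebra.coe_mul, hϖTval, hϖ, ← hzw]
      rfl
    rw [hs₁] at hz
    obtain ⟨w', hw'⟩ := insep_step (S := S) (T := T) ϖT p hp hpT hϖTnu ys θT hθTp c m
      (algebraMap R T z) hz
    refine ⟨m + 1, z, w'.1, w'.2, ?_⟩
    have h2 := congrArg Subtype.val hw'
    rw [Subalgebra.coe_mul, hϖTval, hϖ, Subalgebra.coe_sub, Subalgebra.coe_pow, hvalsum c] at h2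
    exact h2

include hπ hinj hnu in
/-- Zorn's lemma: there is a good subalgebra whose residue ring is perfect. -/
theorem exists_good_perfect [IsAlgClosed Ω] (hp : p.Prime ∨ p = 1)
    (hpπ : p.Prime → ∃ r : R, (p : R) = π * r) :
    ∃ S : Subalgebra R Ω, Good π p S ∧
      ∀ y ∈ S, ∃ z ∈ S, ∃ w ∈ S, z ^ p - y = algebraMap R Ω π * w := by
  rcases hp with hp | rfl
  · obtain ⟨S, -, hSgood, hSmax⟩ := zorn_le_nonempty₀ {S : Subalgebra R Ω | Good π p S}
      (fun c hcs hc y hy => ⟨sSup c, good_sSup π p c hc ⟨y, hy⟩ (fun S hS => hcs hS),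
        fun z hz => le_sSup hz⟩) ⊥ (good_bot π p hπ hinj hp.one_le)
    refine ⟨S, hSgood, ?_⟩
    intro y hyS
    by_contra hcon
    push Not at hcon
    obtain ⟨θ, hθ⟩ := IsAlgClosed.exists_pow_nat_eq y hp.pos
    have hgood' := good_ext π p hπ hinj hnu hp (hpπ hp) S hSgood y hyS hcon θ hθ
    have hle : S ≤ (aeval θ : (↥S)[X] →ₐ[↥S] Ω).range.restrictScalars R := by
      intro x hx
      rw [Subalgebra.mem_restrictScalars]
      refine (AlgHom.mem_range _).mpr ⟨C ⟨x, hx⟩, ?_⟩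
      rw [aeval_C]
      rfl
    have hθmem : θ ∈ (aeval θ : (↥S)[X] →ₐ[↥S] Ω).range.restrictScalars R := by
      rw [Subalgebra.mem_restrictScalars]
      exact (AlgHom.mem_range _).mpr ⟨X, aeval_X θ⟩
    have hθS : θ ∈ S := hSmax hgood' hle hθmem
    exact hcon θ hθS 0 S.zero_mem (by rw [hθ, sub_self, mul_zero])
  · exact ⟨⊥, good_bot π 1 hπ hinj le_rfl, fun y hy =>
      ⟨y, hy, 0, Subalgebra.zero_mem _, by rw [pow_one, sub_self, mul_zero]⟩⟩

include hπ hinj hnu in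
/-- A good subalgebra with perfect residue ring gives the required extension. -/
theorem final [HenselianLocalRing R] (S : Subalgebra R Ω) (hS : Good π p S)
    (hperf : ∀ y ∈ S, ∃ z ∈ S, ∃ w ∈ S, z ^ p - y = algebraMap R Ω π * w) :
    ∃ (R' : Type u) (_ : CommRing R') (_ : IsDomain R') (_ : IsDiscreteValuationRing R')
      (_ : HenselianLocalRing R') (_ : Algebra R R'),
      Function.Injective (algebraMap R R') ∧
      Ideal.map (algebraMap R R') (IsLocalRing.maximalIdeal R) = IsLocalRing.maximalIdeal R' ∧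
      (∀ s : Finset R', ∃ S₀ : Subalgebra R R', (↑s : Set R') ⊆ ↑S₀ ∧ Module.Finite R S₀ ∧
        Module.Free R S₀ ∧ ∃ m : ℕ, Module.finrank R S₀ = p ^ m) ∧
      (∀ y : R', ∃ z : R', z ^ p - y ∈ IsLocalRing.maximalIdeal R') ∧
      (∀ y : R', ∃ (m : ℕ) (z : R),
        algebraMap R R' z - y ^ (p ^ m) ∈ IsLocalRing.maximalIdeal R') := by
  classical
  obtain ⟨ϖ, hϖ⟩ : ∃ ϖ : Ω, ϖ = algebraMap R Ω π := ⟨_, rfl⟩
  obtain ⟨ϖS, hϖS⟩ : ∃ ϖS : S, ϖS = algebraMap R S π := ⟨_, rfl⟩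
  have hϖSval : (ϖS : Ω) = ϖ := by rw [hϖS, hϖ]; rfl
  have hϖ0 : ϖ ≠ 0 := by
    rw [hϖ]
    intro h
    exact hπ.ne_zero (hinj (h.trans (map_zero _).symm))
  have hϖS0 : ϖS ≠ 0 := by
    intro h
    apply hϖ0
    rw [← hϖSval, h]
    rfl
  have hϖSnu : ¬ IsUnit ϖS := by
    intro hu
    obtain ⟨v, hv⟩ := hu.exists_right_inv
    apply hnu v.1 (hS.isIntegral π p v.1 v.2)
    have h1 := congrArg Subtype.val hv
    rw [Subalgebra.coe_mul, hϖSval, hϖ] at h1
    exact h1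
  have hfact : ∀ x : S, x ≠ 0 → ∃ (n : ℕ) (u : S), IsUnit u ∧ x = ϖS ^ n * u := by
    intro x hx
    obtain ⟨n, u, u', hu, hu', huu, hxu⟩ := hS.dvr x.1 x.2 (fun h => hx (Subtype.ext h))
    refine ⟨n, ⟨u, hu⟩, IsUnit.of_mul_eq_one ⟨u', hu'⟩ (Subtype.ext huu), Subtype.ext ?_⟩
    rw [Subalgebra.coe_mul, Subalgebra.coe_pow, hϖSval, hϖ]
    exact hxu
  obtain ⟨hirr, hdvr⟩ := dvr_of_unit_mul_pow ϖS hϖS0 hϖSnu hfact
  haveI := hdvr
  haveI : Algebra.IsIntegral R S :=
    ⟨fun x => (isIntegral_algebraMap_iff (B := Ω) (fun a b h => Subtype.ext h)).mp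
      (hS.isIntegral π p x.1 x.2)⟩
  have hhens : HenselianLocalRing S :=
    Groth.Agent.Lib.Helper3.IntegralHensSplit.henselianLocalRing_of_isIntegral' R S
  have hmax : IsLocalRing.maximalIdeal S = Ideal.span {ϖS} := hirr.maximalIdeal_eq
  have hmem : ∀ x : S, x ∈ IsLocalRing.maximalIdeal S ↔ ∃ w ∈ S, (x : Ω) = ϖ * w := by
    intro x
    rw [hmax, Ideal.mem_span_singleton]
    constructor
    · rintro ⟨w, rfl⟩
      exact ⟨w.1, w.2, by rw [Subalgebra.coe_mul, hϖSval]⟩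
    · rintro ⟨w, hw, h⟩
      exact ⟨⟨w, hw⟩, Subtype.ext (by rw [Subalgebra.coe_mul, hϖSval]; exact h)⟩
  refine ⟨S, inferInstance, inferInstance, hdvr, hhens, inferInstance, ?_, ?_, ?_, ?_, ?_⟩
  · intro a b h
    exact hinj (show algebraMap R Ω a = algebraMap R Ω b from congrArg Subtype.val h)
  · rw [hmax, hπ.maximalIdeal_eq, Ideal.map_span, Set.image_singleton, hϖS]
  · intro s
    obtain ⟨S₀, hS₀S, hsS₀, hfin, hfree, m, hrank⟩ := hS.fin (s.image Subtype.val) (by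
      intro x hx
      obtain ⟨a, _, rfl⟩ := Finset.mem_image.mp (Finset.mem_coe.mp hx)
      exact a.2)
    haveI := hfin
    haveI := hfree
    let e : ↥(S₀.comap S.val) ≃ₗ[R] ↥S₀ :=
      { toFun := fun x => ⟨x.1.1, (Subalgebra.mem_comap _ _ _).mp x.2⟩
        invFun := fun y => ⟨⟨y.1, hS₀S y.2⟩,
          (Subalgebra.mem_comap _ _ _).mpr (show S.val ⟨y.1, hS₀S y.2⟩ ∈ S₀ from y.2)⟩
        map_add' := fun _ _ => rfl
        map_smul' := fun _ _ => rfl
        left_inv := fun _ => rfl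
        right_inv := fun _ => rfl }
    refine ⟨S₀.comap S.val, ?_, Module.Finite.equiv e.symm, Module.Free.of_equiv e.symm, m, ?_⟩
    · intro x hx
      exact (Subalgebra.mem_comap _ _ _).mpr (hsS₀ (Finset.mem_coe.mpr
        (Finset.mem_image_of_mem _ (Finset.mem_coe.mp hx))))
    · rw [e.finrank_eq, hrank]
  · intro y
    obtain ⟨z, hz, w, hw, h⟩ := hperf y.1 y.2
    refine ⟨⟨z, hz⟩, (hmem _).mpr ⟨w, hw, ?_⟩⟩
    rw [Subalgebra.coe_sub, Subalgebra.coe_pow, hϖ]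
    exact h
  · intro y
    obtain ⟨m, z, w, hw, h⟩ := hS.insep y.1 y.2
    refine ⟨m, z, (hmem _).mpr ⟨w, hw, ?_⟩⟩
    rw [Subalgebra.coe_sub, Subalgebra.coe_pow, hϖ]
    exact h

end Setting

/-- **Main theorem**: a henselian discrete valuation ring has an unramified henselian DVR extension
which is a directed union of finite free subalgebras of `p`-power rank and whose residue field is
a perfect closure of the original one. -/
theorem exists_extension (R : Type u) [CommRing R] [IsDomain R] [IsDiscreteValuationRing R]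
    [HenselianLocalRing R] (p : ℕ) [hE : ExpChar (IsLocalRing.ResidueField R) p] :
    ∃ (R' : Type u) (_ : CommRing R') (_ : IsDomain R') (_ : IsDiscreteValuationRing R')
      (_ : HenselianLocalRing R') (_ : Algebra R R'),
      Function.Injective (algebraMap R R') ∧
      Ideal.map (algebraMap R R') (IsLocalRing.maximalIdeal R) = IsLocalRing.maximalIdeal R' ∧
      (∀ s : Finset R', ∃ S₀ : Subalgebra R R', (↑s : Set R') ⊆ ↑S₀ ∧ Module.Finite R S₀ ∧
        Module.Free R S₀ ∧ ∃ m : ℕ, Module.finrank R S₀ = p ^ m) ∧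
      (∀ y : R', ∃ z : R', z ^ p - y ∈ IsLocalRing.maximalIdeal R') ∧
      (∀ y : R', ∃ (m : ℕ) (z : R),
        algebraMap R R' z - y ^ (p ^ m) ∈ IsLocalRing.maximalIdeal R') := by
  obtain ⟨π, hπ⟩ := IsDiscreteValuationRing.exists_irreducible R
  have hinj : Function.Injective (algebraMap R (AlgebraicClosure (FractionRing R))) := by
    rw [IsScalarTower.algebraMap_eq R (FractionRing R) (AlgebraicClosure (FractionRing R))]
    exact (algebraMap (FractionRing R) (AlgebraicClosure (FractionRing R))).injective.comp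
      (IsFractionRing.injective R (FractionRing R))
  have hnu : ∀ x : AlgebraicClosure (FractionRing R), IsIntegral R x →
      algebraMap R (AlgebraicClosure (FractionRing R)) π * x ≠ 1 := by
    intro x hx h
    have hπK : algebraMap R (FractionRing R) π ≠ 0 := fun h0 =>
      hπ.ne_zero (IsFractionRing.injective R (FractionRing R) (h0.trans (map_zero _).symm))
    have hx' : x = algebraMap (FractionRing R) (AlgebraicClosure (FractionRing R))
        (algebraMap R (FractionRing R) π)⁻¹ := by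
      rw [IsScalarTower.algebraMap_apply R (FractionRing R)
        (AlgebraicClosure (FractionRing R))] at h
      rw [map_inv₀]
      exact eq_inv_of_mul_eq_one_right h
    rw [hx'] at hx
    have h2 : IsIntegral R (algebraMap R (FractionRing R) π)⁻¹ :=
      (isIntegral_algebraMap_iff
        (algebraMap (FractionRing R) (AlgebraicClosure (FractionRing R))).injective).mp hx
    obtain ⟨r, hr⟩ := IsIntegrallyClosed.isIntegral_iff.mp h2
    apply hπ.not_isUnit
    refine IsUnit.of_mul_eq_one r ?_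
    apply IsFractionRing.injective R (FractionRing R)
    rw [map_mul, hr, map_one, mul_inv_cancel₀ hπK]
  have hp : p.Prime ∨ p = 1 := expChar_is_prime_or_one (IsLocalRing.ResidueField R) p
  have hpπ : p.Prime → ∃ r : R, (p : R) = π * r := by
    intro hprime
    haveI : CharP (IsLocalRing.ResidueField R) p := by
      cases hE with
      | zero => exact absurd hprime Nat.not_prime_one
      | prime _ => assumption
    have h1 : IsLocalRing.residue R (p : R) = 0 := by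
      rw [map_natCast]
      exact CharP.cast_eq_zero _ p
    rw [IsLocalRing.residue_eq_zero_iff, hπ.maximalIdeal_eq, Ideal.mem_span_singleton] at h1
    exact h1
  obtain ⟨S, hS, hperf⟩ := exists_good_perfect
    (Ω := AlgebraicClosure (FractionRing R)) π p hπ hinj hnu hp hpπ
  exact final π p hπ hinj hnu S hS hperf

end Groth.Agent.Lib.Helper99.PerfRes
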