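import Mathlib

/-!
# The split quadric cone: a linear functional on `W[x_i, y_i]` killing `(Σ x_i y_i, x_i^p, y_i^p)`

For `c : Fin n → T` with `Σ c i = 0` we define the `W`-linear map `Lam c : W[x_i, y_i] → T` sending a
"balanced" monomial `∏ (x_i y_i)^{a_i}` to `∏ c_i^{a_i}` and every other monomial to `0`.  It kills
multiples of the quadric `Σ x_i y_i`, sends multiples of `x_i^e`, `y_i^e` into `c_i^e T`, and this is
used to show that `(Σ x_i y_i)^p - Σ x_i^p y_i^p` is not of the form `p (w + q u + Σ_v x_v^p g_v)` when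
`p^2 = 0 ≠ p` in `W` and `n ≥ 3`.
-/

set_option autoImplicit false
set_option linter.unusedSectionVars false
set_option linter.style.haveILetI false

namespace Groth.Agent.Lib.Helper99.QuadCone

open MvPolynomial

section abstract

variable {n : ℕ} {W : Type*} [CommRing W] {T : Type*} [CommRing T] [Algebra W T]

/-- balanced exponent vectors -/
def Bal (m : (Fin n × Fin 2) →₀ ℕ) : Prop := ∀ i, m (i, 0) = m (i, 1)

open Classical in
/-- value on a monomial -/
noncomputable def phi (c : Fin n → T) (m : (Fin n × Fin 2) →₀ ℕ) : T :=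
  if Bal m then ∏ i, c i ^ m (i, 0) else 0

/-- the linear functional -/
noncomputable def Lam (c : Fin n → T) : MvPolynomial (Fin n × Fin 2) W →ₗ[W] T :=
  (basisMonomials (Fin n × Fin 2) W).constr W (phi c)

theorem Lam_monomial (c : Fin n → T) (m : (Fin n × Fin 2) →₀ ℕ) (r : W) :
    Lam c (monomial m r) = r • phi c m := by
  have h : monomial m r = r • (basisMonomials (Fin n × Fin 2) W m) := by
    rw [coe_basisMonomials, smul_monomial, smul_eq_mul, mul_one]
  rw [h, map_smul, Lam, Module.Basis.constr_basis]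

/-- the quadric `Σ x_i y_i` -/
noncomputable def quad (n : ℕ) (W : Type*) [CommRing W] : MvPolynomial (Fin n × Fin 2) W :=
  ∑ i : Fin n, X (i, 0) * X (i, 1)

theorem single_apply_zero (i j : Fin n) (e : ℕ) :
    (Finsupp.single ((i, 0) : Fin n × Fin 2) e) (j, 0) = if i = j then e else 0 := by
  rw [Finsupp.single_apply]
  by_cases h : i = j
  · subst h; simp
  · rw [if_neg h, if_neg]; intro h'; exact h (Prod.ext_iff.mp h').1

theorem single_apply_one (i j : Fin n) (e : ℕ) :
    (Finsupp.single ((i, 1) : Fin n × Fin 2) e) (j, 1) = if i = j then e else 0 := by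
  rw [Finsupp.single_apply]
  by_cases h : i = j
  · subst h; simp
  · rw [if_neg h, if_neg]; intro h'; exact h (Prod.ext_iff.mp h').1

theorem single_apply_zero_one (i j : Fin n) (e : ℕ) :
    (Finsupp.single ((i, 0) : Fin n × Fin 2) e) (j, 1) = 0 := by
  rw [Finsupp.single_apply, if_neg]
  intro h'
  have := (Prod.ext_iff.mp h').2
  simp at this

theorem single_apply_one_zero (i j : Fin n) (e : ℕ) :
    (Finsupp.single ((i, 1) : Fin n × Fin 2) e) (j, 0) = 0 := by
  rw [Finsupp.single_apply, if_neg]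
  intro h'
  have := (Prod.ext_iff.mp h').2
  simp at this

theorem prod_pow_ite (c : Fin n → T) (i : Fin n) (e : ℕ) :
    ∏ j, c j ^ (if i = j then e else 0) = c i ^ e := by
  rw [Finset.prod_eq_single i]
  · rw [if_pos rfl]
  · intro j _ hj
    rw [if_neg (Ne.symm hj), pow_zero]
  · intro h; exact absurd (Finset.mem_univ i) h

theorem phi_add_pair (c : Fin n → T) (i : Fin n) (e : ℕ) (m : (Fin n × Fin 2) →₀ ℕ) :
    phi c (Finsupp.single (i, 0) e + Finsupp.single (i, 1) e + m) = c i ^ e * phi c m := by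
  have hbal : Bal (Finsupp.single (i, 0) e + Finsupp.single (i, 1) e + m) ↔ Bal m := by
    refine forall_congr' fun j => ?_
    simp only [Finsupp.add_apply, single_apply_zero, single_apply_one, single_apply_zero_one,
      single_apply_one_zero, add_zero, zero_add]
    exact add_right_inj _
  unfold phi
  by_cases hm : Bal m
  · rw [if_pos hm, if_pos (hbal.mpr hm)]
    simp only [Finsupp.add_apply, single_apply_zero, single_apply_one_zero, add_zero, pow_add]
    rw [Finset.prod_mul_distrib, prod_pow_ite]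
  · rw [if_neg hm, if_neg (fun h => hm (hbal.mp h)), mul_zero]

theorem Lam_quad_mul (c : Fin n → T) (hc : ∑ i, c i = 0) (g : MvPolynomial (Fin n × Fin 2) W) :
    Lam c (quad n W * g) = 0 := by
  induction g using MvPolynomial.induction_on' with
  | monomial m r =>
    rw [quad, Finset.sum_mul, map_sum]
    have h : ∀ i : Fin n, Lam c (X (i, 0) * X (i, 1) * monomial m r) = r • (c i * phi c m) := by
      intro i
      have h1 : (X (i, 0) * X (i, 1) * monomial m r : MvPolynomial (Fin n × Fin 2) W) =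
          monomial (Finsupp.single (i, 0) 1 + Finsupp.single (i, 1) 1 + m) r := by
        rw [X, X, monomial_mul, monomial_mul, one_mul, one_mul]
      rw [h1, Lam_monomial, phi_add_pair, pow_one]
    simp_rw [h]
    rw [← Finset.smul_sum, ← Finset.sum_mul, hc, zero_mul, smul_zero]
  | add p q hp hq => rw [mul_add, map_add, hp, hq, add_zero]

theorem Lam_X_pow_mul (c : Fin n → T) (v : Fin n × Fin 2) (e : ℕ)
    (g : MvPolynomial (Fin n × Fin 2) W) :
    ∃ t : T, Lam c (X v ^ e * g) = c v.1 ^ e * t := by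
  induction g using MvPolynomial.induction_on' with
  | monomial m r =>
    have h1 : (X v ^ e * monomial m r : MvPolynomial (Fin n × Fin 2) W) =
        monomial (Finsupp.single v e + m) r := by
      rw [X_pow_eq_monomial, monomial_mul, one_mul]
    rw [h1, Lam_monomial]
    unfold phi
    by_cases hb : Bal (Finsupp.single v e + m)
    · rw [if_pos hb]
      have hge : e ≤ (Finsupp.single v e + m) (v.1, 0) := by
        obtain ⟨i, ε⟩ := v
        have h2 : e ≤ (Finsupp.single (i, ε) e + m) (i, ε) := by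
          rw [Finsupp.add_apply, Finsupp.single_eq_same]; exact Nat.le_add_right _ _
        fin_cases ε
        · exact h2
        · rw [hb i]; exact h2
      refine ⟨r • (c v.1 ^ ((Finsupp.single v e + m) (v.1, 0) - e) *
        ∏ j ∈ Finset.univ.erase v.1, c j ^ (Finsupp.single v e + m) (j, 0)), ?_⟩
      rw [← Finset.mul_prod_erase Finset.univ _ (Finset.mem_univ v.1), mul_smul_comm, ← mul_assoc,
        ← pow_add, Nat.add_sub_cancel' hge]
    · rw [if_neg hb]
      exact ⟨0, by rw [smul_zero, mul_zero]⟩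
  | add p q hp hq =>
    obtain ⟨t1, h1⟩ := hp
    obtain ⟨t2, h2⟩ := hq
    exact ⟨t1 + t2, by rw [mul_add, map_add, h1, h2, mul_add]⟩

theorem bal_zero : Bal (0 : (Fin n × Fin 2) →₀ ℕ) := fun _ => rfl

theorem phi_zero (c : Fin n → T) : phi c 0 = 1 := by
  rw [phi, if_pos bal_zero]
  simp

theorem Lam_C (c : Fin n → T) (w : W) : Lam c (C w) = algebraMap W T w := by
  have h : (C w : MvPolynomial (Fin n × Fin 2) W) = monomial 0 w := rfl
  rw [h, Lam_monomial, phi_zero, Algebra.algebraMap_eq_smul_one]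

theorem Lam_pair_pow (c : Fin n → T) (i : Fin n) (e : ℕ) :
    Lam (W := W) c (X (i, 0) ^ e * X (i, 1) ^ e) = c i ^ e := by
  have h1 : (X (i, 0) ^ e * X (i, 1) ^ e : MvPolynomial (Fin n × Fin 2) W) =
      monomial (Finsupp.single (i, 0) e + Finsupp.single (i, 1) e + 0) 1 := by
    rw [X_pow_eq_monomial, X_pow_eq_monomial, monomial_mul, one_mul, add_zero]
  rw [h1, Lam_monomial, phi_add_pair, one_smul, phi_zero, mul_one]

/-- The abstract non-existence statement. -/
theorem no_solution (p : ℕ) (hp : 1 ≤ p) (c : Fin n → T) (hc : ∑ i, c i = 0)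
    {N : Type*} [AddCommGroup N] [Module W N] (μ : T →ₗ[W] N)
    (h1 : ∀ (i : Fin n) (t : T), μ ((p : W) • (c i ^ p * t)) = 0)
    (h2 : ∀ w : W, μ ((p : W) • algebraMap W T w) = 0)
    (h3 : μ (∑ i, c i ^ p) ≠ 0)
    (w : W) (u : MvPolynomial (Fin n × Fin 2) W)
    (g : Fin n × Fin 2 → MvPolynomial (Fin n × Fin 2) W)
    (h : quad n W ^ p - ∑ i : Fin n, X (i, 0) ^ p * X (i, 1) ^ p =
      (p : MvPolynomial (Fin n × Fin 2) W) * (C w + quad n W * u + ∑ v, X v ^ p * g v)) : False := by
  have hL : μ (Lam c (quad n W ^ p - ∑ i : Fin n, X (i, 0) ^ p * X (i, 1) ^ p)) =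
      μ (Lam c ((p : MvPolynomial (Fin n × Fin 2) W) *
        (C w + quad n W * u + ∑ v, X v ^ p * g v))) := by rw [h]
  have hpow : quad n W ^ p = quad n W * quad n W ^ (p - 1) := by
    rw [← pow_succ', Nat.sub_add_cancel hp]
  have hlhs : Lam c (quad n W ^ p - ∑ i : Fin n, X (i, 0) ^ p * X (i, 1) ^ p) = - ∑ i, c i ^ p := by
    rw [map_sub, hpow, Lam_quad_mul c hc, zero_sub, map_sum]
    simp_rw [Lam_pair_pow]
  have hcast : (p : MvPolynomial (Fin n × Fin 2) W) = C (p : W) := by rw [map_natCast]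
  choose t ht using fun v => Lam_X_pow_mul (W := W) c v p (g v)
  have hrhs : Lam c ((p : MvPolynomial (Fin n × Fin 2) W) *
      (C w + quad n W * u + ∑ v, X v ^ p * g v)) =
      (p : W) • algebraMap W T w + ∑ v, (p : W) • (c v.1 ^ p * t v) := by
    rw [hcast, ← smul_eq_C_mul, map_smul, map_add, map_add, Lam_C, Lam_quad_mul c hc, add_zero,
      map_sum, smul_add, Finset.smul_sum]
    simp_rw [ht]
  rw [hlhs, hrhs, map_neg, map_add, h2, zero_add, map_sum (g := μ) (fun v => (p : W) • (c v.1 ^ p * t v)),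
    Finset.sum_eq_zero (fun v _ => h1 v.1 (t v)), neg_eq_zero] at hL
  exact h3 hL

end abstract

section concrete

theorem add_pow_of_sq_zero {R : Type*} [CommRing R] (a x : R) (hx : x * x = 0) (m : ℕ) :
    (a + x) ^ m = a ^ m + m * a ^ (m - 1) * x := by
  induction m with
  | zero => simp
  | succ m ih =>
    rw [pow_succ, ih]
    rcases m with _ | m
    · simp
    · simp only [Nat.add_sub_cancel, Nat.cast_add, Nat.cast_one]
      linear_combination ((m : R) + 1) * a ^ m * hx

theorem sum_fin_three {M : Type*} [AddCommMonoid M] {n : ℕ} (hn : 3 ≤ n) (g : ℕ → M)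
    (hg : ∀ j, 3 ≤ j → g j = 0) : ∑ i : Fin n, g i = g 0 + g 1 + g 2 := by
  rw [Fin.sum_univ_eq_sum_range g n,
    ← Finset.sum_subset (Finset.range_subset_range.2 hn) (fun j _ hj => hg j (by simpa using hj)),
    Finset.sum_range_succ, Finset.sum_range_succ, Finset.sum_range_succ, Finset.sum_range_zero,
    zero_add]

variable {W : Type*} [CommRing W]

open Polynomial

/-- the target ring `W[ε][b]` -/
abbrev Tt (W : Type*) [CommRing W] := Polynomial (DualNumber W)

/-- `ε` as a constant polynomial -/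
noncomputable def epsT (W : Type*) [CommRing W] : Tt W := Polynomial.C DualNumber.eps

theorem epsT_mul_epsT : epsT W * epsT W = 0 := by
  rw [epsT, ← map_mul, DualNumber.eps_mul_eps, map_zero]

/-- the three-point evaluation -/
noncomputable def ccN (W : Type*) [CommRing W] (j : ℕ) : Tt W :=
  if j = 0 then epsT W else if j = 1 then Polynomial.X else if j = 2 then -(epsT W + Polynomial.X)
  else 0

/-- the functional "coefficient of `ε b^(p-1)`" -/
noncomputable def mu (W : Type*) [CommRing W] (p : ℕ) : Tt W →ₗ[W] W :=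
  (TrivSqZeroExt.sndHom W W) ∘ₗ ((Polynomial.lcoeff (DualNumber W) (p - 1)).restrictScalars W)

theorem mu_apply (p : ℕ) (t : Tt W) : mu W p t = TrivSqZeroExt.snd (t.coeff (p - 1)) := rfl

theorem mu_X_pow_mul (p : ℕ) (hp : 1 ≤ p) (t : Tt W) : mu W p (Polynomial.X ^ p * t) = 0 := by
  rw [mu_apply, Polynomial.coeff_X_pow_mul', if_neg (by omega), TrivSqZeroExt.snd_zero]

theorem mu_algebraMap (p : ℕ) (w : W) : mu W p (algebraMap W (Tt W) w) = 0 := by
  rw [mu_apply, Polynomial.algebraMap_apply, Polynomial.coeff_C]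
  split_ifs
  · rfl
  · rfl

theorem neg_add_pow (p : ℕ) :
    (-(epsT W + Polynomial.X)) ^ p =
      (-1) ^ p * (Polynomial.X ^ p + (p : Tt W) * Polynomial.X ^ (p - 1) * epsT W) := by
  rw [show -(epsT W + Polynomial.X) = (-1) * (Polynomial.X + epsT W) by ring,
    mul_pow (-1 : Tt W) (Polynomial.X + epsT W) p,
    add_pow_of_sq_zero (Polynomial.X : Tt W) (epsT W) epsT_mul_epsT p]

theorem mu_algebraMap_mul_X_pow_mul_eps (p : ℕ) (r : W) :
    mu W p (algebraMap W (Tt W) r * Polynomial.X ^ (p - 1) * epsT W) = r := by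
  have h : algebraMap W (Tt W) r * Polynomial.X ^ (p - 1) * epsT W =
      Polynomial.C (algebraMap W (DualNumber W) r * DualNumber.eps) * Polynomial.X ^ (p - 1) := by
    rw [epsT, Polynomial.algebraMap_apply, map_mul]
    ring
  rw [h, mu_apply, Polynomial.coeff_C_mul_X_pow, if_pos rfl]
  rw [TrivSqZeroExt.snd_mul, DualNumber.snd_eps, DualNumber.fst_eps, TrivSqZeroExt.algebraMap_eq_inl]
  simp

theorem ccN_zero : ccN W 0 = epsT W := rfl
theorem ccN_one : ccN W 1 = Polynomial.X := rfl
theorem ccN_two : ccN W 2 = -(epsT W + Polynomial.X) := rfl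

theorem no_solution_of_sq_zero {n : ℕ} (hn : 3 ≤ n) (p : ℕ) (hp : 2 ≤ p)
    (hpp : (p : W) * (p : W) = 0) (hp0 : (p : W) ≠ 0)
    (w : W) (u : MvPolynomial (Fin n × Fin 2) W)
    (g : Fin n × Fin 2 → MvPolynomial (Fin n × Fin 2) W)
    (h : quad n W ^ p - ∑ i : Fin n, MvPolynomial.X (i, 0) ^ p * MvPolynomial.X (i, 1) ^ p =
      (p : MvPolynomial (Fin n × Fin 2) W) *
        (MvPolynomial.C w + quad n W * u + ∑ v, MvPolynomial.X v ^ p * g v)) : False := by
  have hpT : ((p : W) • (p : Tt W)) = 0 := by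
    rw [Algebra.smul_def, map_natCast, ← Nat.cast_mul]
    have := congrArg (algebraMap W (Tt W)) hpp
    rwa [map_mul, map_natCast, map_zero, ← Nat.cast_mul] at this
  have heps : epsT W ^ p = 0 := by
    obtain ⟨q, rfl⟩ : ∃ q, p = 2 + q := ⟨p - 2, by omega⟩
    rw [pow_add, pow_two, epsT_mul_epsT, zero_mul]
  refine no_solution (T := Tt W) p (by omega) (fun i : Fin n => ccN W i) ?_ (mu W p) ?_ ?_ ?_ w u g h
  · rw [sum_fin_three hn (ccN W) (fun j hj => by
      unfold ccN
      rw [if_neg (by omega), if_neg (by omega), if_neg (by omega)])]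
    rw [ccN_zero, ccN_one, ccN_two]
    ring
  · intro i t
    rw [map_smul]
    unfold ccN
    split_ifs with h0 h1 h2
    · rw [heps, zero_mul, map_zero, smul_zero]
    · rw [mu_X_pow_mul p (by omega), smul_zero]
    · rw [neg_add_pow, ← map_smul]
      have : (p : W) • ((-1) ^ p * (Polynomial.X ^ p + (p : Tt W) * Polynomial.X ^ (p - 1) * epsT W) * t)
          = Polynomial.X ^ p * ((p : W) • ((-1) ^ p * t)) +
            ((p : W) • (p : Tt W)) * ((-1) ^ p * Polynomial.X ^ (p - 1) * epsT W * t) := by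
        rw [smul_mul_assoc, mul_smul_comm]
        rw [← smul_add]
        congr 1
        ring
      rw [this, hpT, zero_mul, add_zero, mu_X_pow_mul p (by omega)]
    · rw [zero_pow (by omega), zero_mul, map_zero, smul_zero]
  · intro w'
    rw [map_smul, mu_algebraMap, smul_zero]
  · rw [sum_fin_three hn (fun j => ccN W j ^ p) (fun j hj => by
      unfold ccN
      rw [if_neg (by omega), if_neg (by omega), if_neg (by omega), zero_pow (by omega)])]
    rw [ccN_zero, ccN_one, ccN_two, heps, zero_add, neg_add_pow]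
    have e : Polynomial.X ^ p + (-1) ^ p * (Polynomial.X ^ p + (p : Tt W) * Polynomial.X ^ (p - 1) * epsT W)
        = Polynomial.X ^ p * (1 + (-1) ^ p) +
          algebraMap W (Tt W) ((-1) ^ p * (p : W)) * Polynomial.X ^ (p - 1) * epsT W := by
      rw [map_mul, map_pow, map_neg, map_one, map_natCast]
      ring
    rw [e, map_add, mu_X_pow_mul p (by omega), zero_add, mu_algebraMap_mul_X_pow_mul_eps]
    intro h0
    apply hp0
    have := congrArg (fun x => (-1) ^ p * x) h0
    simp only [mul_zero] at this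
    rwa [← mul_assoc, ← mul_pow, neg_one_mul, neg_neg, one_pow, one_mul] at this

end concrete

end Groth.Agent.Lib.Helper99.QuadCone
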