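import Mathlib

/-!
# The Todd series `t e^t/(e^t - 1)` over `ℚ`: coefficient identities (helper99)
-/

set_option autoImplicit false

namespace Groth.Agent.Lib.Helper99.Todd

open PowerSeries

/-- `v = (e^t - 1)/t` -/
noncomputable def v : PowerSeries ℚ := PowerSeries.mk fun n => ((n + 1).factorial : ℚ)⁻¹

theorem X_mul_v : (X : PowerSeries ℚ) * v = exp ℚ - 1 := by
  ext n
  cases n with
  | zero => simp [v, coeff_exp]
  | succ n =>
    rw [coeff_succ_X_mul]
    simp [v, coeff_exp]

theorem constantCoeff_v : constantCoeff v = 1 := by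
  simp [v]

/-- `u = t/(e^t - 1)` -/
noncomputable def u : PowerSeries ℚ := v⁻¹

theorem v_mul_u : v * u = 1 :=
  PowerSeries.mul_inv_cancel v (by rw [constantCoeff_v]; exact one_ne_zero)

theorem u_mul_v : u * v = 1 := by rw [mul_comm, v_mul_u]

theorem constantCoeff_u : constantCoeff u = 1 := by
  have := congrArg (constantCoeff (R := ℚ)) v_mul_u
  simpa [constantCoeff_v] using this

theorem exp_eq : exp ℚ = 1 + X * v := by rw [X_mul_v]; ring

theorem exp_eq' : exp ℚ = v + X * derivative ℚ v := by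
  have h := derivative_exp ℚ
  rw [← h]
  conv_lhs => rw [exp_eq]
  simp [Derivation.leibniz]
  ring

theorem derivative_u : derivative ℚ u = - (u ^ 2 * derivative ℚ v) := by
  have h := congrArg (derivative ℚ) u_mul_v
  rw [Derivation.leibniz, Derivation.map_one_eq_zero] at h
  simp only [smul_eq_mul] at h
  -- u * v' + v * u' = 0
  have h2 : u * (u * derivative ℚ v + v * derivative ℚ u) = 0 := by rw [h, mul_zero]
  have h3 : u * (u * derivative ℚ v + v * derivative ℚ u) =
      u ^ 2 * derivative ℚ v + (u * v) * derivative ℚ u := by ring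
  rw [h3, u_mul_v, one_mul] at h2
  exact eq_neg_of_add_eq_zero_right h2

theorem key_one : coeff 0 (u * exp ℚ) = 1 := by
  rw [coeff_zero_eq_constantCoeff, map_mul, constantCoeff_u, constantCoeff_exp, one_mul]

theorem key_succ (k : ℕ) : coeff (k + 1) (u ^ (k + 2) * exp ℚ) = 0 := by
  have h1 : u ^ (k + 2) * exp ℚ =
      u ^ (k + 1) + X * (-(((k : ℚ) + 1)⁻¹ • derivative ℚ (u ^ (k + 1)))) := by
    have h2 : derivative ℚ (u ^ (k + 1)) = ((k : ℚ) + 1) • (u ^ k * derivative ℚ u) := by
      rw [Derivation.leibniz_pow]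
      simp only [Nat.add_sub_cancel, smul_eq_mul]
      rw [← Nat.cast_smul_eq_nsmul ℚ]
      push_cast
      rfl
    have hk : ((k : ℚ) + 1) ≠ 0 := by positivity
    rw [h2, smul_smul, inv_mul_cancel₀ hk, one_smul, derivative_u]
    conv_lhs => rw [exp_eq']
    have : u ^ (k + 2) * (v + X * derivative ℚ v) =
        u ^ (k + 1) * (u * v) + X * (u ^ k * (u ^ 2 * derivative ℚ v)) := by ring
    rw [this, u_mul_v]
    ring
  rw [h1, map_add, coeff_succ_X_mul, map_neg, coeff_smul, coeff_derivative]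
  have hk : ((k : ℚ) + 1) ≠ 0 := by positivity
  generalize coeff (k + 1) (u ^ (k + 1)) = c
  rw [smul_eq_mul]
  field_simp
  ring

theorem key (i : ℕ) : coeff i (u ^ (i + 1) * exp ℚ) = if i = 0 then 1 else 0 := by
  cases i with
  | zero => simpa using key_one
  | succ k => simpa using key_succ k

theorem v_pow_mul_u_pow {j n : ℕ} (hj : j ≤ n) : v ^ j * u ^ (n + 1) = u ^ (n - j + 1) := by
  have : n + 1 = j + (n - j + 1) := by omega
  rw [this, pow_add, ← mul_assoc, ← mul_pow, v_mul_u, one_pow, one_mul]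

theorem term (M n j : ℕ) :
    coeff n ((M.choose j : PowerSeries ℚ) * (X ^ j * v ^ j) * (u ^ (n + 1) * exp ℚ)) =
      if j = n then (M.choose j : ℚ) else 0 := by
  have h1 : (M.choose j : PowerSeries ℚ) * (X ^ j * v ^ j) * (u ^ (n + 1) * exp ℚ) =
      X ^ j * (C (M.choose j : ℚ) * (v ^ j * u ^ (n + 1) * exp ℚ)) := by
    rw [map_natCast]; ring
  rw [h1, coeff_X_pow_mul']
  by_cases hj : j ≤ n
  · rw [if_pos hj, coeff_C_mul, v_pow_mul_u_pow hj, key]
    by_cases hjn : j = n
    · subst hjn; simp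
    · rw [if_neg hjn, if_neg (by omega), mul_zero]
  · rw [if_neg hj, if_neg (by omega)]

theorem main (M n : ℕ) : coeff n (exp ℚ ^ M * (u ^ (n + 1) * exp ℚ)) = (M.choose n : ℚ) := by
  have hE : exp ℚ ^ M = ∑ j ∈ Finset.range (M + 1), (M.choose j : PowerSeries ℚ) * (X ^ j * v ^ j) := by
    conv_lhs => rw [exp_eq, add_comm, add_pow]
    refine Finset.sum_congr rfl fun j _ => ?_
    rw [one_pow, mul_one, mul_pow, mul_comm]
  rw [hE, Finset.sum_mul, map_sum]
  simp_rw [term]
  rw [Finset.sum_ite_eq' (Finset.range (M + 1)) n]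
  by_cases h : n ∈ Finset.range (M + 1)
  · rw [if_pos h]
  · rw [if_neg h, Nat.choose_eq_zero_of_lt (by simpa using h), Nat.cast_zero]

/-- the Todd series `t e^t / (e^t - 1)` -/
noncomputable def todd : PowerSeries ℚ := exp ℚ * u

theorem todd_iff (f : PowerSeries ℚ) :
    f * (exp ℚ - 1) = X * exp ℚ ↔ f = todd := by
  rw [← X_mul_v]
  constructor
  · intro h
    have h1 : X * (f * v) = X * exp ℚ := by rw [← h]; ring
    have h2 : f * v = exp ℚ := by
      have hX : (X : PowerSeries ℚ) ≠ 0 := X_ne_zero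
      exact mul_left_cancel₀ hX h1
    unfold todd
    rw [← h2, mul_assoc, v_mul_u, mul_one]
  · rintro rfl
    unfold todd
    have : exp ℚ * u * (X * v) = X * exp ℚ * (u * v) := by ring
    rw [this, u_mul_v, mul_one]

theorem todd_pow (n : ℕ) : todd ^ (n + 1) = exp ℚ ^ n * (u ^ (n + 1) * exp ℚ) := by
  unfold todd; ring

theorem coeff_todd_pow (n : ℕ) : coeff n (todd ^ (n + 1)) = 1 := by
  rw [todd_pow, main, Nat.choose_self, Nat.cast_one]

/-- uniqueness: the conditions `coeff n (g^(n+1)) = 1` determine `g` -/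
theorem unique_of_coeff {g g' : PowerSeries ℚ} (hg : ∀ n, coeff n (g ^ (n + 1)) = 1)
    (hg' : ∀ n, coeff n (g' ^ (n + 1)) = 1) : g = g' := by
  have h0 : constantCoeff g = 1 := by simpa using hg 0
  have h0' : constantCoeff g' = 1 := by simpa using hg' 0
  ext n
  induction n using Nat.strong_induction_on with
  | _ n ih =>
    have hdvd : (X : PowerSeries ℚ) ^ n ∣ g - g' := by
      rw [X_pow_dvd_iff]
      intro m hm
      rw [map_sub, ih m hm, sub_self]
    obtain ⟨r, hr⟩ := hdvd
    have hgeom := Commute.geom_sum₂_mul (Commute.all g g') (n + 1)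
    have h1 : coeff n (g ^ (n + 1) - g' ^ (n + 1)) = 0 := by rw [map_sub, hg, hg', sub_self]
    rw [← hgeom, hr] at h1
    have h2 : (∑ i ∈ Finset.range (n + 1), g ^ i * g' ^ (n + 1 - 1 - i)) * (X ^ n * r) =
        X ^ n * (r * ∑ i ∈ Finset.range (n + 1), g ^ i * g' ^ (n + 1 - 1 - i)) := by ring
    rw [h2, coeff_X_pow_mul', if_pos le_rfl, Nat.sub_self, coeff_zero_eq_constantCoeff, map_mul,
      map_sum] at h1
    simp only [map_mul, map_pow, h0, h0', one_pow, mul_one, Finset.sum_const, Finset.card_range,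
      nsmul_eq_mul] at h1
    have hn : ((n + 1 : ℕ) : ℚ) ≠ 0 := by positivity
    have h3 : constantCoeff r = 0 := by
      rcases mul_eq_zero.mp h1 with h | h
      · exact h
      · exact absurd h hn
    have h4 : coeff n (g - g') = 0 := by
      rw [hr, coeff_X_pow_mul', if_pos le_rfl, Nat.sub_self, coeff_zero_eq_constantCoeff, h3]
    rw [map_sub] at h4
    exact sub_eq_zero.mp h4

theorem coeff_iff_todd (f : PowerSeries ℚ) :
    (∀ n : ℕ, coeff n (f ^ (n + 1)) = 1) ↔ f = todd := by
  constructor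
  · intro h
    exact unique_of_coeff h coeff_todd_pow
  · rintro rfl
    exact coeff_todd_pow

end Groth.Agent.Lib.Helper99.Todd
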