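import Mathlib
import Groth.Agent.Lib.Helper99.ToddSeries

/-!
# `[t^n] e^{mt} td(t)^{n+1} = C(m+n, n)` for all integers `m` (helper99)
-/

set_option autoImplicit false

namespace Groth.Agent.Lib.Helper99.Todd

open PowerSeries

theorem coeff_rescale_nat (m n : ℕ) :
    coeff n (rescale (m : ℚ) (exp ℚ) * todd ^ (n + 1)) = ((m + n).choose n : ℚ) := by
  rw [← exp_pow_eq_rescale_exp, todd_pow, ← mul_assoc, ← pow_add, main]

/-- the left-hand side as a polynomial in `m` -/
noncomputable def Ppoly (n : ℕ) : Polynomial ℚ :=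
  ∑ ij ∈ Finset.HasAntidiagonal.antidiagonal n,
    Polynomial.C (coeff ij.2 (todd ^ (n + 1)) / (ij.1.factorial : ℚ)) * Polynomial.X ^ ij.1

theorem eval_Ppoly (n : ℕ) (q : ℚ) :
    (Ppoly n).eval q = coeff n (rescale q (exp ℚ) * todd ^ (n + 1)) := by
  unfold Ppoly
  rw [Polynomial.eval_finset_sum, coeff_mul]
  refine Finset.sum_congr rfl fun ij _ => ?_
  rw [coeff_rescale, coeff_exp]
  simp
  ring

/-- the right-hand side as a polynomial in `m` -/
noncomputable def Qpoly (n : ℕ) : Polynomial ℚ :=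
  Polynomial.C ((n.factorial : ℚ)⁻¹) * (descPochhammer ℚ n).comp (Polynomial.X + Polynomial.C (n : ℚ))

theorem eval_Qpoly (n : ℕ) (m : ℤ) :
    (Qpoly n).eval (m : ℚ) = ((Ring.choose (m + n : ℤ) n : ℤ) : ℚ) := by
  unfold Qpoly
  rw [Polynomial.eval_mul, Polynomial.eval_C, Polynomial.eval_comp, Polynomial.eval_add,
    Polynomial.eval_X, Polynomial.eval_C]
  have h1 := Ring.descPochhammer_eq_factorial_smul_choose (m + n : ℤ) n
  rw [← Polynomial.eval_eq_smeval] at h1
  have h2 : ((descPochhammer ℚ n).eval ((m : ℚ) + n)) =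
      (((descPochhammer ℤ n).eval (m + n : ℤ) : ℤ) : ℚ) := by
    have h3 := Polynomial.eval_intCast_map (Int.castRingHom ℚ) (descPochhammer ℤ n) (m + n)
    rw [descPochhammer_map] at h3
    push_cast at h3
    exact h3
  rw [h2, h1, nsmul_eq_mul]
  have hn : (n.factorial : ℚ) ≠ 0 := by positivity
  push_cast
  field_simp

theorem Ppoly_eq_Qpoly (n : ℕ) : Ppoly n = Qpoly n := by
  apply Polynomial.eq_of_infinite_eval_eq
  refine Set.infinite_of_injective_forall_mem (f := fun m : ℕ => (m : ℚ)) Nat.cast_injective ?_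
  intro m
  show (Ppoly n).eval (m : ℚ) = (Qpoly n).eval (m : ℚ)
  rw [eval_Ppoly, coeff_rescale_nat]
  have := eval_Qpoly n (m : ℤ)
  rw [Int.cast_natCast] at this
  rw [this]
  have h3 : ((m : ℤ) + (n : ℤ)) = ((m + n : ℕ) : ℤ) := by push_cast; rfl
  rw [h3, Ring.choose_natCast]
  push_cast
  rfl

theorem coeff_rescale_int (m : ℤ) (n : ℕ) :
    coeff n (rescale (m : ℚ) (exp ℚ) * todd ^ (n + 1)) = ((Ring.choose (m + n : ℤ) n : ℤ) : ℚ) := by
  rw [← eval_Ppoly, Ppoly_eq_Qpoly, eval_Qpoly]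

end Groth.Agent.Lib.Helper99.Todd
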