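import Mathlib
import Groth.Prelude.Def_W4c1liftfrobW2

/-!
# Basic facts on `W₂(k)` for a perfect field `k` and on flat liftings over `W₂(k)`
-/

set_option autoImplicit false
set_option linter.unusedSectionVars false
set_option linter.style.haveILetI false
universe u v

namespace Groth.Agent.Lib.Helper99.W2Lift

open FrobAlg

section W2

variable (p : ℕ) [Fact p.Prime] (k : Type u) [CommRing k] [CharP k p]

theorem coeff_zero_p_mul (w : W2 p k) : ((p : W2 p k) * w).coeff 0 = 0 := by
  obtain ⟨X, rfl⟩ := WittVector.truncate_surjective p 2 k w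
  rw [← map_natCast (WittVector.truncate (p := p) (R := k) 2), ← map_mul, WittVector.coeff_truncate,
    mul_comm]
  exact WittVector.mul_charP_coeff_zero X

theorem coeff_one_p_mul (w : W2 p k) : ((p : W2 p k) * w).coeff 1 = w.coeff 0 ^ p := by
  obtain ⟨X, rfl⟩ := WittVector.truncate_surjective p 2 k w
  rw [← map_natCast (WittVector.truncate (p := p) (R := k) 2), ← map_mul, WittVector.coeff_truncate,
    WittVector.coeff_truncate, mul_comm]
  exact WittVector.mul_charP_coeff_succ X 0

theorem natCast_coeff_zero : ((p : W2 p k)).coeff 0 = 0 := by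
  have := coeff_zero_p_mul p k 1
  rwa [mul_one] at this

theorem ext2 {x y : W2 p k} (h0 : x.coeff 0 = y.coeff 0) (h1 : x.coeff 1 = y.coeff 1) : x = y := by
  apply TruncatedWittVector.ext
  exact Fin.forall_fin_two.mpr ⟨h0, h1⟩

theorem p_mul_p : (p : W2 p k) * (p : W2 p k) = 0 := by
  apply ext2
  · rw [TruncatedWittVector.coeff_zero]; exact coeff_zero_p_mul p k _
  · have := coeff_one_p_mul p k (p : W2 p k)
    rw [natCast_coeff_zero, zero_pow (Fact.out : p.Prime).ne_zero] at this
    rw [TruncatedWittVector.coeff_zero]; exact this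

end W2

section W2perf

variable (p : ℕ) [Fact p.Prime] (k : Type u) [Field k] [CharP k p] [PerfectRing k p]

theorem exists_eq_p_mul (w : W2 p k) (h : w.coeff 0 = 0) : ∃ v : W2 p k, w = (p : W2 p k) * v := by
  refine ⟨TruncatedWittVector.mk p fun _ => (frobeniusEquiv k p).symm (w.coeff 1), ?_⟩
  apply ext2
  · rw [coeff_zero_p_mul]; exact h
  · rw [coeff_one_p_mul, TruncatedWittVector.coeff_mk]
    exact (frobeniusEquiv_symm_pow_p k p (w.coeff 1)).symm

theorem ker_res : RingHom.ker (res p k) = Ideal.span {(p : W2 p k)} := by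
  apply le_antisymm
  · intro x hx
    rw [RingHom.mem_ker, res_apply] at hx
    obtain ⟨v, rfl⟩ := exists_eq_p_mul p k x hx
    exact Ideal.mul_mem_right _ _ (Ideal.subset_span rfl)
  · rw [Ideal.span_le, Set.singleton_subset_iff, SetLike.mem_coe, RingHom.mem_ker, res_apply]
    exact natCast_coeff_zero p k

theorem p_mul_eq_zero_iff (w : W2 p k) :
    (p : W2 p k) * w = 0 ↔ ∃ v : W2 p k, w = (p : W2 p k) * v := by
  constructor
  · intro h
    apply exists_eq_p_mul
    have h1 := coeff_one_p_mul p k w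
    rw [h, TruncatedWittVector.coeff_zero] at h1
    exact (pow_eq_zero_iff (Fact.out : p.Prime).ne_zero).mp h1.symm
  · rintro ⟨v, rfl⟩
    rw [← mul_assoc, p_mul_p, zero_mul]

end W2perf

section Lift

variable (p : ℕ) [Fact p.Prime] (k : Type u) [Field k] [CharP k p] [PerfectRing k p]
  (A : Type v) [CommRing A] [Algebra k A] (A' : Type v) [CommRing A']
  (ι : W2 p k →+* A') (π : A' →+* A)

include k ι in
theorem lift_p_mul_p : (p : A') * (p : A') = 0 := by
  have := congrArg ι (p_mul_p p k)
  rwa [map_mul, map_natCast, map_zero] at this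

theorem lift_ker_eq (h : IsLift p k A A' ι π) : RingHom.ker π = Ideal.span {(p : A')} := by
  rw [h.ker_eq, ker_res, Ideal.map_span, Set.image_singleton, map_natCast]

theorem lift_mem_ker_iff (h : IsLift p k A A' ι π) (x : A') :
    π x = 0 ↔ ∃ z : A', x = (p : A') * z := by
  rw [← RingHom.mem_ker, lift_ker_eq p k A A' ι π h, Ideal.mem_span_singleton']
  constructor
  · rintro ⟨a, rfl⟩; exact ⟨a, mul_comm _ _⟩
  · rintro ⟨a, rfl⟩; exact ⟨a, mul_comm _ _⟩

/-- Flatness: the annihilator of `p` in a flat lifting is generated by `p`. -/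
theorem lift_eq_p_mul_of_p_mul_eq_zero (h : IsLift p k A A' ι π) (y : A')
    (hy : (p : A') * y = 0) : ∃ z : A', y = (p : A') * z := by
  letI : Algebra (W2 p k) A' := ι.toAlgebra
  have hflat : Module.Flat (W2 p k) A' := h.flat
  have hsmul : ∀ (w : W2 p k) (a : A'), w • a = ι w * a := fun _ _ => rfl
  let f : W2 p k →ₗ[W2 p k] W2 p k := (p : W2 p k) • LinearMap.id
  have hex : Function.Exact f f := by
    intro w
    change (p : W2 p k) • w = 0 ↔ w ∈ Set.range f
    rw [smul_eq_mul, p_mul_eq_zero_iff]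
    constructor
    · rintro ⟨v, rfl⟩; exact ⟨v, rfl⟩
    · rintro ⟨v, rfl⟩; exact ⟨v, rfl⟩
  have hex' := Module.Flat.lTensor_exact A' hex
  have hlt : LinearMap.lTensor A' f = (p : W2 p k) • LinearMap.id := by
    change LinearMap.lTensor A' ((p : W2 p k) • LinearMap.id) = _
    rw [LinearMap.lTensor_smul, LinearMap.lTensor_id]
  rw [hlt] at hex'
  let e := TensorProduct.rid (W2 p k) A'
  have h0 : ((p : W2 p k) • LinearMap.id : TensorProduct (W2 p k) A' (W2 p k) →ₗ[W2 p k] _)
      (e.symm y) = 0 := by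
    change (p : W2 p k) • e.symm y = 0
    rw [← map_smul, hsmul, map_natCast, hy, map_zero]
  obtain ⟨s, hs⟩ := (hex' (e.symm y)).mp h0
  refine ⟨e s, ?_⟩
  have := congrArg e hs
  rw [LinearEquiv.apply_symm_apply] at this
  rw [← this]
  change e ((p : W2 p k) • s) = _
  rw [map_smul, hsmul, map_natCast]

end Lift

end Groth.Agent.Lib.Helper99.W2Lift
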