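import Mathlib
import Groth.Prelude.Def_W4c1liftfrobW2
import Groth.Agent.Lib.Helper99.W2Lift

/-!
# `W₂(k)` is an Artinian local ring for a perfect field `k` of characteristic `p`
-/

set_option autoImplicit false
set_option linter.unusedSectionVars false
set_option linter.style.haveILetI false
universe u v

namespace Groth.Agent.Lib.Helper99.W2Art

open FrobAlg Groth.Agent.Lib.Helper99.W2Lift

variable (p : ℕ) [Fact p.Prime] (k : Type u) [Field k] [CharP k p]

theorem res_surjective : Function.Surjective (res p k) := fun a =>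
  ⟨TruncatedWittVector.mk p fun _ => a, by rw [res_apply, TruncatedWittVector.coeff_mk]⟩

theorem isUnit_of_coeff_zero_ne_zero (w : W2 p k) (h : w.coeff 0 ≠ 0) : IsUnit w := by
  obtain ⟨X, rfl⟩ := WittVector.truncate_surjective p 2 k w
  rw [WittVector.coeff_truncate] at h
  exact (WittVector.isUnit_of_coeff_zero_ne_zero X h).map (WittVector.truncate (p := p) (R := k) 2)

theorem isUnit_iff (w : W2 p k) : IsUnit w ↔ w.coeff 0 ≠ 0 := by
  refine ⟨fun h => ?_, isUnit_of_coeff_zero_ne_zero p k w⟩
  have := h.map (res p k)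
  rw [res_apply] at this
  exact this.ne_zero

instance nontrivial_W2 : Nontrivial (W2 p k) := (res_surjective p k).nontrivial

instance isLocalRing_W2 : IsLocalRing (W2 p k) := by
  refine IsLocalRing.of_nonunits_add fun a b ha hb => ?_
  rw [mem_nonunits_iff, isUnit_iff, not_not] at ha hb ⊢
  have := map_add (res p k) a b
  rwa [res_apply, res_apply, res_apply, ha, hb, add_zero] at this

theorem ker_res_ne_top : RingHom.ker (res p k) ≠ ⊤ := RingHom.ker_ne_top _

variable [PerfectRing k p]

theorem ideal_cases (J : Ideal (W2 p k)) :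
    J = ⊥ ∨ J = Ideal.span {(p : W2 p k)} ∨ J = ⊤ := by
  by_cases h1 : ∃ x ∈ J, x.coeff 0 ≠ 0
  · obtain ⟨x, hx, hx0⟩ := h1
    exact Or.inr (Or.inr (Ideal.eq_top_of_isUnit_mem _ hx (isUnit_of_coeff_zero_ne_zero p k x hx0)))
  · push Not at h1
    by_cases h2 : J = ⊥
    · exact Or.inl h2
    · refine Or.inr (Or.inl (le_antisymm ?_ ?_))
      · intro x hx
        rw [← ker_res, RingHom.mem_ker, res_apply]
        exact h1 x hx
      · obtain ⟨x, hx, hx0⟩ := Submodule.exists_mem_ne_zero_of_ne_bot h2
        obtain ⟨v, rfl⟩ := exists_eq_p_mul p k x (h1 x hx)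
        have hv : v.coeff 0 ≠ 0 := by
          intro hv
          obtain ⟨v', rfl⟩ := exists_eq_p_mul p k v hv
          apply hx0
          rw [← mul_assoc, p_mul_p, zero_mul]
        obtain ⟨u, rfl⟩ := isUnit_of_coeff_zero_ne_zero p k v hv
        rw [Ideal.span_le, Set.singleton_subset_iff, SetLike.mem_coe]
        have := J.mul_mem_right (↑u⁻¹ : W2 p k) hx
        rwa [mul_assoc, Units.mul_inv, mul_one] at this

instance finite_ideal_W2 : Finite (Ideal (W2 p k)) := by
  have : (Set.univ : Set (Ideal (W2 p k))) ⊆ {⊥, Ideal.span {(p : W2 p k)}, ⊤} := by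
    intro J _
    rcases ideal_cases p k J with h | h | h <;> simp [h]
  exact Set.finite_univ_iff.mp ((Set.toFinite _).subset this)

instance isArtinianRing_W2 : IsArtinianRing (W2 p k) := by
  change IsArtinian (W2 p k) (W2 p k)
  change WellFoundedLT (Submodule (W2 p k) (W2 p k))
  haveI : Finite (Submodule (W2 p k) (W2 p k)) := finite_ideal_W2 p k
  infer_instance

end Groth.Agent.Lib.Helper99.W2Art
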