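import Mathlib
import Groth.Prelude.Def_W4c1liftfrobW2
import Groth.Agent.Lib.Helper99.W2Lift

/-!
# The ghost map `W₂(B) → B` and the induced map `W₂(A) → B` for a flat lifting `B` of `A`
-/

set_option autoImplicit false
set_option linter.unusedSectionVars false
set_option linter.style.haveILetI false
universe u v

namespace Groth.Agent.Lib.Helper99.W2Ghost

open FrobAlg Groth.Agent.Lib.Helper99.W2Lift

section ghost

variable (p : ℕ) [Fact p.Prime] (B : Type u) [CommRing B]

theorem ext2' {x y : W2 p B} (h0 : x.coeff 0 = y.coeff 0) (h1 : x.coeff 1 = y.coeff 1) : x = y := by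
  apply TruncatedWittVector.ext
  exact Fin.forall_fin_two.mpr ⟨h0, h1⟩

theorem ghostComponent_one (X : WittVector p B) :
    WittVector.ghostComponent 1 X = X.coeff 0 ^ p + (p : B) * X.coeff 1 := by
  rw [WittVector.ghostComponent_apply, wittPolynomial_one]
  simp [add_comm]

/-- The first ghost component on `W₂(B)`. -/
noncomputable def ghost1 : W2 p B →+* B :=
  RingHom.liftOfSurjective (WittVector.truncate 2) (WittVector.truncate_surjective p 2 B)
    ⟨WittVector.ghostComponent 1, fun x hx => by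
      rw [RingHom.mem_ker] at hx ⊢
      have h := (WittVector.mem_ker_truncate 2 x).1 (RingHom.mem_ker.2 hx)
      rw [ghostComponent_one, h 0 (by omega), h 1 (by omega), zero_pow (Fact.out : p.Prime).ne_zero,
        mul_zero, add_zero]⟩

theorem ghost1_truncate (X : WittVector p B) :
    ghost1 p B (WittVector.truncate 2 X) = WittVector.ghostComponent 1 X :=
  RingHom.liftOfRightInverse_comp_apply _ _ _ _ X

theorem ghost1_apply (x : W2 p B) : ghost1 p B x = x.coeff 0 ^ p + (p : B) * x.coeff 1 := by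
  obtain ⟨X, rfl⟩ := WittVector.truncate_surjective p 2 B x
  rw [ghost1_truncate, ghostComponent_one, WittVector.coeff_truncate, WittVector.coeff_truncate]
  rfl

end ghost

section sigma

variable (p : ℕ) [Fact p.Prime] (k : Type u) [Field k] [CharP k p] [PerfectRing k p]

/-- In `W₂(k)`, the `p`-th power only depends on the zeroth component. -/
theorem pow_p_eq_teichmuller (a : k) (t : W2 p k) (ht : t.coeff 0 = a) :
    t ^ p = WittVector.truncate 2 (WittVector.teichmuller p (a ^ p)) := by
  have hp2 : 2 ≤ p := (Fact.out : p.Prime).two_le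
  have h0 : (t - WittVector.truncate 2 (WittVector.teichmuller p a)).coeff 0 = 0 := by
    rw [← res_apply, map_sub, res_apply, res_apply, WittVector.coeff_truncate, ht]
    change a - (WittVector.teichmuller p a).coeff 0 = 0
    rw [WittVector.teichmuller_coeff_zero, sub_self]
  obtain ⟨z, hz⟩ := exists_eq_p_mul p k _ h0
  have ht' : t = WittVector.truncate 2 (WittVector.teichmuller p a) + (p : W2 p k) * z := by
    rw [← hz]; ring
  obtain ⟨c, hc⟩ := exists_add_pow_prime_eq (Fact.out : p.Prime)
    (WittVector.truncate 2 (WittVector.teichmuller p a)) ((p : W2 p k) * z)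
  have hpp : ((p : W2 p k) * z) ^ p = 0 := by
    obtain ⟨m, rfl⟩ : ∃ m, p = m + 2 := ⟨p - 2, by omega⟩
    rw [pow_add, pow_two]
    have : ((m + 2 : ℕ) : W2 (m + 2) k) * z * (((m + 2 : ℕ) : W2 (m + 2) k) * z) =
        (((m + 2 : ℕ) : W2 (m + 2) k) * ((m + 2 : ℕ) : W2 (m + 2) k)) * (z * z) := by ring
    rw [this, p_mul_p, zero_mul, mul_zero]
  rw [ht', hc, hpp, add_zero, ← map_pow, ← map_pow]
  have : (p : W2 p k) * WittVector.truncate 2 (WittVector.teichmuller p a) * ((p : W2 p k) * z) * c =
      ((p : W2 p k) * (p : W2 p k)) * (WittVector.truncate 2 (WittVector.teichmuller p a) * z * c) := by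
    ring
  rw [this, p_mul_p, zero_mul, add_zero]

/-- In `W₂(k)`: `σ(w) = t₀^p + p t₁` for any lifts `t₀, t₁` of `w₀, w₁`. -/
theorem sigma_eq (w t0 t1 : W2 p k) (h0 : t0.coeff 0 = w.coeff 0) (h1 : t1.coeff 0 = w.coeff 1) :
    sigma p k w = t0 ^ p + (p : W2 p k) * t1 := by
  rw [pow_p_eq_teichmuller p k _ t0 h0]
  obtain ⟨T1, rfl⟩ := WittVector.truncate_surjective p 2 k t1
  rw [WittVector.coeff_truncate] at h1
  rw [← map_natCast (WittVector.truncate (p := p) (R := k) 2), ← map_mul, ← map_add, mul_comm]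
  have hdisj : ∀ n, (WittVector.teichmuller p (w.coeff 0 ^ p)).coeff n = 0 ∨
      (T1 * (p : WittVector p k)).coeff n = 0 := by
    intro n
    rcases Nat.eq_zero_or_pos n with rfl | hn
    · right; exact WittVector.mul_charP_coeff_zero T1
    · left; exact WittVector.teichmuller_coeff_pos p _ n hn
  apply ext2
  · rw [WittGrp.coeff_frob, WittVector.coeff_truncate]
    change _ = (WittVector.teichmuller p (w.coeff 0 ^ p) + T1 * (p : WittVector p k)).coeff 0
    rw [WittVector.coeff_add_of_disjoint 0 _ _ hdisj, WittVector.teichmuller_coeff_zero,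
      WittVector.mul_charP_coeff_zero, add_zero]
  · rw [WittGrp.coeff_frob, WittVector.coeff_truncate]
    change _ = (WittVector.teichmuller p (w.coeff 0 ^ p) + T1 * (p : WittVector p k)).coeff 1
    rw [WittVector.coeff_add_of_disjoint 1 _ _ hdisj, WittVector.teichmuller_coeff_pos p _ 1 one_pos,
      WittVector.mul_charP_coeff_succ, zero_add]
    rw [← h1]; rfl

end sigma

section gamma

variable (p : ℕ) [Fact p.Prime] (k : Type u) [Field k] [CharP k p] [PerfectRing k p]
  (A : Type u) [CommRing A] [Algebra k A] (B : Type u) [CommRing B]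
  (ι : W2 p k →+* B) (π : B →+* A)

theorem truncMap_surjective (h : IsLift p k A B ι π) :
    Function.Surjective (WittGrp.truncMap p 2 π) := by
  intro y
  refine ⟨TruncatedWittVector.mk p fun i => Function.surjInv h.surj (y.coeff i), ?_⟩
  apply TruncatedWittVector.ext
  intro i
  rw [WittGrp.coeff_truncMap, TruncatedWittVector.coeff_mk, Function.surjInv_eq h.surj]

/-- The map `W₂(A) → B`, `(a₀, a₁) ↦ ã₀^p + p ã₁`, for a lifting `B` of `A` over `W₂(k)`. -/
noncomputable def gamma (h : IsLift p k A B ι π) : W2 p A →+* B :=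
  RingHom.liftOfSurjective (WittGrp.truncMap p 2 π) (truncMap_surjective p k A B ι π h)
    ⟨ghost1 p B, fun x hx => by
      rw [RingHom.mem_ker] at hx ⊢
      have hc : ∀ i, π (x.coeff i) = 0 := by
        intro i
        rw [← WittGrp.coeff_truncMap, hx, TruncatedWittVector.coeff_zero]
      obtain ⟨c0, hc0⟩ := (lift_mem_ker_iff p k A B ι π h _).mp (hc 0)
      obtain ⟨c1, hc1⟩ := (lift_mem_ker_iff p k A B ι π h _).mp (hc 1)
      have hpp := lift_p_mul_p p k B ι
      have hp2 : 2 ≤ p := (Fact.out : p.Prime).two_le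
      rw [ghost1_apply, hc0, hc1]
      obtain ⟨m, hm⟩ : ∃ m, p = m + 2 := ⟨p - 2, by omega⟩
      have e1 : ((p : B) * c0) ^ p = ((p : B) * (p : B)) * ((p : B) ^ m * c0 ^ p) := by
        conv_lhs => rw [mul_pow]
        conv_lhs => enter [1, 2]; rw [hm]
        rw [pow_add, pow_two]; ring
      rw [e1, hpp, zero_mul, zero_add, ← mul_assoc, hpp, zero_mul]⟩

theorem gamma_truncMap (h : IsLift p k A B ι π) (x : W2 p B) :
    gamma p k A B ι π h (WittGrp.truncMap p 2 π x) = x.coeff 0 ^ p + (p : B) * x.coeff 1 := by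
  rw [← ghost1_apply]
  exact RingHom.liftOfRightInverse_comp_apply _ _ _ _ x

theorem gamma_apply (h : IsLift p k A B ι π) (y : W2 p A) (b0 b1 : B)
    (h0 : π b0 = y.coeff 0) (h1 : π b1 = y.coeff 1) :
    gamma p k A B ι π h y = b0 ^ p + (p : B) * b1 := by
  have : y = WittGrp.truncMap p 2 π (TruncatedWittVector.mk p ![b0, b1]) := by
    apply ext2'
    · rw [WittGrp.coeff_truncMap, TruncatedWittVector.coeff_mk]; exact h0.symm
    · rw [WittGrp.coeff_truncMap, TruncatedWittVector.coeff_mk]; exact h1.symm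
  rw [this, gamma_truncMap, TruncatedWittVector.coeff_mk, TruncatedWittVector.coeff_mk]
  rfl

/-- `(res, γ) : W₂(A) → A × B` is injective. -/
theorem eq_of_res_eq_of_gamma_eq (h : IsLift p k A B ι π) (y y' : W2 p A)
    (hres : y.coeff 0 = y'.coeff 0) (hg : gamma p k A B ι π h y = gamma p k A B ι π h y') : y = y' := by
  obtain ⟨b0, hb0⟩ := h.surj (y.coeff 0)
  obtain ⟨b1, hb1⟩ := h.surj (y.coeff 1)
  obtain ⟨b1', hb1'⟩ := h.surj (y'.coeff 1)
  rw [gamma_apply p k A B ι π h y b0 b1 hb0 hb1,
    gamma_apply p k A B ι π h y' b0 b1' (hb0.trans hres) hb1'] at hg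
  have h2 : (p : B) * (b1 - b1') = 0 := by
    rw [mul_sub, sub_eq_zero]; exact add_left_cancel hg
  obtain ⟨z, hz⟩ := lift_eq_p_mul_of_p_mul_eq_zero p k A B ι π h _ h2
  have h3 : π (b1 - b1') = 0 := (lift_mem_ker_iff p k A B ι π h _).mpr ⟨z, hz⟩
  rw [map_sub, sub_eq_zero, hb1, hb1'] at h3
  exact ext2' p A hres h3

/-- `γ ∘ W₂(k → A) = ι ∘ σ`. -/
theorem gamma_truncMap_algebraMap (h : IsLift p k A B ι π) (w : W2 p k) :
    gamma p k A B ι π h (WittGrp.truncMap p 2 (algebraMap k A) w) = ι (sigma p k w) := by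
  -- lifts of the components
  let t0 : W2 p k := TruncatedWittVector.mk p fun _ => w.coeff 0
  let t1 : W2 p k := TruncatedWittVector.mk p fun _ => w.coeff 1
  have ht0 : t0.coeff 0 = w.coeff 0 := TruncatedWittVector.coeff_mk _ _
  have ht1 : t1.coeff 0 = w.coeff 1 := TruncatedWittVector.coeff_mk _ _
  have hπι : ∀ t : W2 p k, π (ι t) = algebraMap k A (t.coeff 0) := by
    intro t
    have := RingHom.congr_fun h.comm t
    rw [RingHom.comp_apply, RingHom.comp_apply, res_apply] at this
    exact this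
  rw [gamma_apply p k A B ι π h _ (ι t0) (ι t1)
    (by rw [hπι, ht0, WittGrp.coeff_truncMap]) (by rw [hπι, ht1, WittGrp.coeff_truncMap]),
    sigma_eq p k w t0 t1 ht0 ht1, map_add, map_pow, map_mul, map_natCast]

end gamma

end Groth.Agent.Lib.Helper99.W2Ghost
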