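import Mathlib
import Groth.Prelude.Def_W4c1liftfrobW2
import Groth.Agent.Lib.Helper99.W2Lift

/-!
# Polynomial rings over `W₂(k)`: Frobenius lifts and a Taylor formula modulo `p²`
-/

set_option autoImplicit false
set_option linter.unusedSectionVars false
set_option linter.style.haveILetI false
universe u v

namespace Groth.Agent.Lib.Helper99.W2Poly

open FrobAlg Groth.Agent.Lib.Helper99.W2Lift MvPolynomial

section flat

variable (p : ℕ) [Fact p.Prime] (k : Type u) [Field k] [CharP k p] [PerfectRing k p]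
  (Q : Type v) [CommRing Q] (ι : W2 p k →+* Q)

/-- Flatness: the annihilator of `p` in a flat `W₂(k)`-algebra is generated by `p`. -/
theorem eq_p_mul_of_p_mul_eq_zero_of_flat (hflat : ι.Flat) (y : Q)
    (hy : (p : Q) * y = 0) : ∃ z : Q, y = (p : Q) * z := by
  letI : Algebra (W2 p k) Q := ι.toAlgebra
  have hflat' : Module.Flat (W2 p k) Q := hflat
  have hsmul : ∀ (w : W2 p k) (a : Q), w • a = ι w * a := fun _ _ => rfl
  let f : W2 p k →ₗ[W2 p k] W2 p k := (p : W2 p k) • LinearMap.id
  have hex : Function.Exact f f := by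
    intro w
    change (p : W2 p k) • w = 0 ↔ w ∈ Set.range f
    rw [smul_eq_mul, p_mul_eq_zero_iff]
    constructor
    · rintro ⟨v, rfl⟩; exact ⟨v, rfl⟩
    · rintro ⟨v, rfl⟩; exact ⟨v, rfl⟩
  have hex' := Module.Flat.lTensor_exact Q hex
  have hlt : LinearMap.lTensor Q f = (p : W2 p k) • LinearMap.id := by
    change LinearMap.lTensor Q ((p : W2 p k) • LinearMap.id) = _
    rw [LinearMap.lTensor_smul, LinearMap.lTensor_id]
  rw [hlt] at hex'
  let e := TensorProduct.rid (W2 p k) Q
  have h0 : ((p : W2 p k) • LinearMap.id : TensorProduct (W2 p k) Q (W2 p k) →ₗ[W2 p k] _)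
      (e.symm y) = 0 := by
    change (p : W2 p k) • e.symm y = 0
    rw [← map_smul, hsmul, map_natCast, hy, map_zero]
  obtain ⟨s, hs⟩ := (hex' (e.symm y)).mp h0
  refine ⟨e s, ?_⟩
  have := congrArg e hs
  rw [LinearEquiv.apply_symm_apply] at this
  rw [← this]
  change e ((p : W2 p k) • s) = _
  rw [map_smul, hsmul, map_natCast]

end flat

section poly

variable (p : ℕ) [Fact p.Prime] (k : Type u) [Field k] [CharP k p] [PerfectRing k p] {n : ℕ}

theorem poly_p_mul_p : (p : MvPolynomial (Fin n) (W2 p k)) * (p : MvPolynomial (Fin n) (W2 p k)) = 0 := by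
  rw [← map_natCast (C (σ := Fin n) (R := W2 p k)), ← map_mul, p_mul_p, map_zero]

theorem mem_ker_map_res_iff (g : MvPolynomial (Fin n) (W2 p k)) :
    MvPolynomial.map (res p k) g = 0 ↔ ∃ u, g = (p : MvPolynomial (Fin n) (W2 p k)) * u := by
  rw [← RingHom.mem_ker, MvPolynomial.ker_map, ker_res, Ideal.map_span, Set.image_singleton,
    map_natCast, Ideal.mem_span_singleton']
  constructor
  · rintro ⟨a, rfl⟩; exact ⟨a, mul_comm _ _⟩
  · rintro ⟨a, rfl⟩; exact ⟨a, mul_comm _ _⟩

theorem map_res_natCast : MvPolynomial.map (res p k) (p : MvPolynomial (Fin n) (W2 p k)) = 0 := by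
  rw [map_natCast]
  exact CharP.cast_eq_zero _ p

theorem res_sigma (w : W2 p k) : res p k (sigma p k w) = res p k w ^ p := by
  rw [res_apply, res_apply, WittGrp.coeff_frob]

theorem map_res_polyFrob (g : MvPolynomial (Fin n) (W2 p k)) :
    MvPolynomial.map (res p k) (polyFrob p k (Fin n) g) = (MvPolynomial.map (res p k) g) ^ p := by
  have : (MvPolynomial.map (res p k)).comp (polyFrob p k (Fin n)) =
      (frobenius (MvPolynomial (Fin n) k) p).comp (MvPolynomial.map (res p k)) := by
    apply MvPolynomial.ringHom_ext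
    · intro w
      simp only [polyFrob, RingHom.comp_apply, eval₂Hom_C, map_C, frobenius_def, res_sigma, map_pow]
    · intro i
      simp only [polyFrob, RingHom.comp_apply, eval₂Hom_X', map_X, frobenius_def, map_pow]
  exact RingHom.congr_fun this g

theorem exists_polyFrob_sub_pow (g : MvPolynomial (Fin n) (W2 p k)) :
    ∃ u, polyFrob p k (Fin n) g - g ^ p = (p : MvPolynomial (Fin n) (W2 p k)) * u := by
  apply (mem_ker_map_res_iff p k _).mp
  rw [map_sub, map_res_polyFrob, map_pow, sub_self]

theorem p_mul_polyFrob (g : MvPolynomial (Fin n) (W2 p k)) :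
    (p : MvPolynomial (Fin n) (W2 p k)) * polyFrob p k (Fin n) g =
      (p : MvPolynomial (Fin n) (W2 p k)) * g ^ p := by
  obtain ⟨u, hu⟩ := exists_polyFrob_sub_pow p k g
  have : polyFrob p k (Fin n) g = g ^ p + (p : MvPolynomial (Fin n) (W2 p k)) * u := by
    rw [← hu]; ring
  rw [this, mul_add, ← mul_assoc, poly_p_mul_p, zero_mul, add_zero]

theorem p_mul_add_pow (a b : MvPolynomial (Fin n) (W2 p k)) :
    (p : MvPolynomial (Fin n) (W2 p k)) * (a + b) ^ p =
      (p : MvPolynomial (Fin n) (W2 p k)) * a ^ p + (p : MvPolynomial (Fin n) (W2 p k)) * b ^ p := by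
  obtain ⟨c, hc⟩ := exists_add_pow_prime_eq (Fact.out : p.Prime) a b
  rw [hc]
  have : (p : MvPolynomial (Fin n) (W2 p k)) * (a ^ p + b ^ p + ↑p * a * b * c) =
      ↑p * a ^ p + ↑p * b ^ p + ((p : MvPolynomial (Fin n) (W2 p k)) * ↑p) * (a * b * c) := by ring
  rw [this, poly_p_mul_p, zero_mul, add_zero]

/-- The `σ₂`-semilinear endomorphism of `W₂(k)[x]` with `x_i ↦ x_i^p - p h_i`. -/
noncomputable def twistFrob (h : Fin n → MvPolynomial (Fin n) (W2 p k)) :
    MvPolynomial (Fin n) (W2 p k) →+* MvPolynomial (Fin n) (W2 p k) :=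
  eval₂Hom (C.comp (sigma p k)) fun i => X i ^ p - (p : MvPolynomial (Fin n) (W2 p k)) * h i

theorem twistFrob_C (h : Fin n → MvPolynomial (Fin n) (W2 p k)) (w : W2 p k) :
    twistFrob p k h (C w) = C (sigma p k w) := by
  simp [twistFrob]

theorem twistFrob_X (h : Fin n → MvPolynomial (Fin n) (W2 p k)) (i : Fin n) :
    twistFrob p k h (X i) = X i ^ p - (p : MvPolynomial (Fin n) (W2 p k)) * h i := by
  simp [twistFrob]

theorem map_res_twistFrob (h : Fin n → MvPolynomial (Fin n) (W2 p k))
    (g : MvPolynomial (Fin n) (W2 p k)) :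
    MvPolynomial.map (res p k) (twistFrob p k h g) = (MvPolynomial.map (res p k) g) ^ p := by
  have : (MvPolynomial.map (res p k)).comp (twistFrob p k h) =
      (frobenius (MvPolynomial (Fin n) k) p).comp (MvPolynomial.map (res p k)) := by
    apply MvPolynomial.ringHom_ext
    · intro w
      simp only [RingHom.comp_apply, twistFrob_C, map_C, frobenius_def, res_sigma, map_pow]
    · intro i
      simp only [RingHom.comp_apply, twistFrob_X, map_X, frobenius_def, map_pow, map_sub, map_mul,
        map_res_natCast, zero_mul, sub_zero]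
  exact RingHom.congr_fun this g

/-- Taylor formula modulo `p²`. -/
theorem twistFrob_eq (h : Fin n → MvPolynomial (Fin n) (W2 p k))
    (g : MvPolynomial (Fin n) (W2 p k)) :
    twistFrob p k h g = polyFrob p k (Fin n) g -
      ∑ j, ((p : MvPolynomial (Fin n) (W2 p k)) * pderiv j g ^ p) * h j := by
  have hp0 : p ≠ 0 := (Fact.out : p.Prime).ne_zero
  induction g using MvPolynomial.induction_on with
  | C w =>
    rw [twistFrob_C]
    simp [polyFrob, hp0]
  | add g g' hg hg' =>
    rw [map_add, map_add, hg, hg']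
    have : ∀ j, ((p : MvPolynomial (Fin n) (W2 p k)) * pderiv j (g + g') ^ p) * h j =
        ((p : MvPolynomial (Fin n) (W2 p k)) * pderiv j g ^ p) * h j +
          ((p : MvPolynomial (Fin n) (W2 p k)) * pderiv j g' ^ p) * h j := by
      intro j
      rw [map_add, p_mul_add_pow, add_mul]
    simp only [this, Finset.sum_add_distrib]
    ring
  | mul_X g i hg =>
    rw [map_mul, map_mul, hg, twistFrob_X]
    have hFX : polyFrob p k (Fin n) (X i) = X i ^ p := by simp [polyFrob]
    rw [hFX]
    have hterm : ∀ j, ((p : MvPolynomial (Fin n) (W2 p k)) * pderiv j (g * X i) ^ p) * h j =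
        X i ^ p * (((p : MvPolynomial (Fin n) (W2 p k)) * pderiv j g ^ p) * h j) +
          (if i = j then (p : MvPolynomial (Fin n) (W2 p k)) * g ^ p * h j else 0) := by
      intro j
      rw [Derivation.leibniz, pderiv_X, smul_eq_mul, smul_eq_mul, p_mul_add_pow, Pi.single_apply]
      by_cases hij : i = j
      · subst hij
        simp only [if_true, mul_one]
        ring
      · rw [if_neg hij, if_neg hij, mul_zero, zero_pow hp0, mul_zero, zero_add,
          add_zero]
        ring
    simp only [hterm, Finset.sum_add_distrib, ← Finset.mul_sum, Finset.sum_ite_eq, Finset.mem_univ,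
      if_true]
    set S := ∑ j, ((p : MvPolynomial (Fin n) (W2 p k)) * pderiv j g ^ p) * h j with hS
    have hSp : S * (p : MvPolynomial (Fin n) (W2 p k)) = 0 := by
      rw [hS, Finset.sum_mul]
      apply Finset.sum_eq_zero
      intro j _
      have : (p : MvPolynomial (Fin n) (W2 p k)) * pderiv j g ^ p * h j * ↑p =
          ((p : MvPolynomial (Fin n) (W2 p k)) * ↑p) * (pderiv j g ^ p * h j) := by ring
      rw [this, poly_p_mul_p, zero_mul]
    have hF := p_mul_polyFrob p k g
    calc (polyFrob p k (Fin n) g - S) * (X i ^ p - ↑p * h i)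
        = polyFrob p k (Fin n) g * X i ^ p - (↑p * polyFrob p k (Fin n) g) * h i - X i ^ p * S
            + (S * ↑p) * h i := by ring
      _ = polyFrob p k (Fin n) g * X i ^ p - (X i ^ p * S + ↑p * g ^ p * h i) := by
        rw [hF, hSp]; ring

end poly

end Groth.Agent.Lib.Helper99.W2Poly
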