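import Mathlib
import Groth.Prelude.Def_W4c1liftfrobW2
import Groth.Agent.Lib.Helper99.W2Lift
import Groth.Agent.Lib.Helper99.W2Art
import Groth.Agent.Lib.Helper99.QuadCone

/-!
# Polynomial rings over `W₂(k)` in arbitrary variables, and presentations of flat liftings
-/

set_option autoImplicit false
set_option linter.unusedSectionVars false
set_option linter.style.haveILetI false
universe u

namespace Groth.Agent.Lib.Helper99.W2Pres

open FrobAlg MvPolynomial Groth.Agent.Lib.Helper99.W2Lift Groth.Agent.Lib.Helper99.W2Art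

section poly

variable (p : ℕ) [Fact p.Prime] (k : Type u) [Field k] [CharP k p] [PerfectRing k p]
  {σ : Type*}

theorem natCast_ne_zero : (p : W2 p k) ≠ 0 := by
  intro h
  have h1 := coeff_one_p_mul p k 1
  rw [mul_one, h, TruncatedWittVector.coeff_zero] at h1
  have h2 : (1 : W2 p k).coeff 0 = 1 := by
    have := map_one (res p k)
    rwa [res_apply] at this
  rw [h2, one_pow] at h1
  exact zero_ne_one h1

theorem poly_p_mul_p :
    (p : MvPolynomial σ (W2 p k)) * (p : MvPolynomial σ (W2 p k)) = 0 := by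
  rw [← map_natCast (C (σ := σ) (R := W2 p k)), ← map_mul, p_mul_p, map_zero]

theorem mem_ker_map_res_iff (g : MvPolynomial σ (W2 p k)) :
    MvPolynomial.map (res p k) g = 0 ↔ ∃ u, g = (p : MvPolynomial σ (W2 p k)) * u := by
  rw [← RingHom.mem_ker, MvPolynomial.ker_map, ker_res, Ideal.map_span, Set.image_singleton,
    map_natCast, Ideal.mem_span_singleton']
  constructor
  · rintro ⟨a, rfl⟩; exact ⟨a, mul_comm _ _⟩
  · rintro ⟨a, rfl⟩; exact ⟨a, mul_comm _ _⟩

theorem map_res_natCast : MvPolynomial.map (res p k) (p : MvPolynomial σ (W2 p k)) = 0 := by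
  rw [map_natCast]
  exact CharP.cast_eq_zero _ p

theorem map_res_surjective :
    Function.Surjective (MvPolynomial.map (σ := σ) (res p k)) :=
  MvPolynomial.map_surjective _ (res_surjective p k)

theorem p_mul_congr {a b : MvPolynomial σ (W2 p k)}
    (h : MvPolynomial.map (res p k) a = MvPolynomial.map (res p k) b) :
    (p : MvPolynomial σ (W2 p k)) * a = (p : MvPolynomial σ (W2 p k)) * b := by
  have h0 : MvPolynomial.map (res p k) (a - b) = 0 := by rw [map_sub, h, sub_self]
  obtain ⟨u, hu⟩ := (mem_ker_map_res_iff p k _).mp h0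
  have : a = b + (p : MvPolynomial σ (W2 p k)) * u := by rw [← hu]; ring
  rw [this, mul_add, ← mul_assoc, poly_p_mul_p, zero_mul, add_zero]

theorem add_p_mul_pow (a b : MvPolynomial σ (W2 p k)) :
    (a + (p : MvPolynomial σ (W2 p k)) * b) ^ p = a ^ p := by
  have hx : ((p : MvPolynomial σ (W2 p k)) * b) * ((p : MvPolynomial σ (W2 p k)) * b) = 0 := by
    rw [mul_mul_mul_comm, poly_p_mul_p, zero_mul]
  rw [QuadCone.add_pow_of_sq_zero a _ hx p]
  have : (p : MvPolynomial σ (W2 p k)) * a ^ (p - 1) * ((p : MvPolynomial σ (W2 p k)) * b) =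
      ((p : MvPolynomial σ (W2 p k)) * (p : MvPolynomial σ (W2 p k))) * (a ^ (p - 1) * b) := by ring
  rw [this, poly_p_mul_p, zero_mul, add_zero]

theorem res_sigma (w : W2 p k) : res p k (sigma p k w) = res p k w ^ p := by
  rw [res_apply, res_apply, WittGrp.coeff_frob]

end poly

section pres

variable (p : ℕ) [Fact p.Prime] (k : Type u) [Field k] [CharP k p] [PerfectRing k p]
  {σ : Type} (J : Ideal (MvPolynomial σ k)) (B : Type u) [CommRing B]
  (ι : W2 p k →+* B) (π : B →+* (MvPolynomial σ k ⧸ J))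

/-- A flat lifting of `k[x_σ]/J` is a quotient of `W₂(k)[x_σ]`; we record the properties of the
presentation used in the sequel. -/
theorem exists_presentation (hL : IsLift p k (MvPolynomial σ k ⧸ J) B ι π) :
    ∃ ψ : MvPolynomial σ (W2 p k) →+* B,
      (∀ w, ψ (C w) = ι w) ∧
      (∀ q, π (ψ q) = Ideal.Quotient.mk J (MvPolynomial.map (res p k) q)) ∧
      Function.Surjective ψ ∧
      (∀ e, ψ ((p : MvPolynomial σ (W2 p k)) * e) = 0 →
        ∃ j, ψ j = 0 ∧ (p : MvPolynomial σ (W2 p k)) * j = (p : MvPolynomial σ (W2 p k)) * e) ∧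
      (∀ j, ψ j = 0 → MvPolynomial.map (res p k) j ∈ J) ∧
      (∀ g ∈ J, ∃ g' : MvPolynomial σ (W2 p k), ψ g' = 0 ∧ MvPolynomial.map (res p k) g' = g) := by
  choose bv hbv using fun v : σ => hL.surj (Ideal.Quotient.mk J (X v))
  let ψ : MvPolynomial σ (W2 p k) →+* B := eval₂Hom ι bv
  have hψC : ∀ w, ψ (C w) = ι w := fun w => eval₂Hom_C _ _ _
  have hπψ : ∀ q, π (ψ q) = Ideal.Quotient.mk J (MvPolynomial.map (res p k) q) := by
    have : π.comp ψ = (Ideal.Quotient.mk J).comp (MvPolynomial.map (res p k)) := by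
      apply MvPolynomial.ringHom_ext
      · intro w
        have h1 := congrArg (fun g => g w) hL.comm
        simp only [RingHom.comp_apply] at h1
        simp only [RingHom.comp_apply, hψC, map_C]
        exact h1
      · intro v
        simp only [RingHom.comp_apply, map_X]
        rw [show ψ (X v) = bv v from eval₂Hom_X' _ _ _, hbv]
    intro q
    exact congrArg (fun g => g q) this
  have hker : ∀ y : B, π y = 0 → ∃ z : B, y = (p : B) * z := fun y hy =>
    (lift_mem_ker_iff p k _ B ι π hL y).mp hy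
  have hppB : (p : B) * (p : B) = 0 := lift_p_mul_p p k B ι
  have hρs := map_res_surjective p k (σ := σ)
  have hstep : ∀ y : B, ∃ q z, y = ψ q + (p : B) * z := by
    intro y
    obtain ⟨qbar, hq⟩ := Ideal.Quotient.mk_surjective (π y)
    obtain ⟨q, rfl⟩ := hρs qbar
    obtain ⟨z, hz⟩ := hker (y - ψ q) (by rw [map_sub, hπψ, hq, sub_self])
    exact ⟨q, z, by rw [← hz]; ring⟩
  have hsurj : Function.Surjective ψ := by
    intro y
    obtain ⟨q, z, hy⟩ := hstep y
    obtain ⟨q1, z1, hz⟩ := hstep z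
    refine ⟨q + (p : MvPolynomial σ (W2 p k)) * q1, ?_⟩
    rw [map_add, map_mul, map_natCast, hy, hz, mul_add, ← mul_assoc, hppB, zero_mul, add_zero]
  refine ⟨ψ, hψC, hπψ, hsurj, ?_, ?_, ?_⟩
  · intro e he
    rw [map_mul, map_natCast] at he
    obtain ⟨z, hz⟩ := lift_eq_p_mul_of_p_mul_eq_zero p k _ B ι π hL (ψ e) he
    obtain ⟨z', rfl⟩ := hsurj z
    refine ⟨e - (p : MvPolynomial σ (W2 p k)) * z', ?_, ?_⟩
    · rw [map_sub, map_mul, map_natCast, hz, sub_self]
    · rw [mul_sub, ← mul_assoc, poly_p_mul_p, zero_mul, sub_zero]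
  · intro j hj
    rw [← Ideal.Quotient.eq_zero_iff_mem, ← hπψ, hj, map_zero]
  · intro g hg
    obtain ⟨g0, rfl⟩ := hρs g
    obtain ⟨z, hz⟩ := hker (ψ g0) (by rw [hπψ, Ideal.Quotient.eq_zero_iff_mem]; exact hg)
    obtain ⟨z', rfl⟩ := hsurj z
    refine ⟨g0 - (p : MvPolynomial σ (W2 p k)) * z', ?_, ?_⟩
    · rw [map_sub, map_mul, map_natCast, hz, sub_self]
    · rw [map_sub, map_mul, map_res_natCast, zero_mul, sub_zero]

end pres

end Groth.Agent.Lib.Helper99.W2Pres
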