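import Mathlib
import Groth.Agent.S15790
import Groth.Agent.S15792
import Groth.Agent.S15801
import Groth.Agent.Lib.Helper90.PSUniv

/-!
# Invariant rings of `p`-group actions on complete regular local rings (helper99)

Setting: `A` a complete regular local ring of characteristic `p`, `k → A` a field mapping onto the
residue field, `G` a finite `p`-group acting on `A` by ring automorphisms fixing the image of `k`.

* `smul_sub_mem`: `G` acts trivially on the residue field.
* `exists_params`: a `G`-invariant system of parameters (norms of an admissible system).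
* `exists_phi`: the `k`-algebra map `k[[X]] → A`, `X i ↦ x i`, with invariant image.
* `exists_ringHom_finite`: `k[[X]] → A^G` with `A^G` and `A` finite over `k[[X]]`.
* `noetherian_and_finite`: `A^G` is Noetherian and `A` is finite over it.
* `isLocalRing_fixed`, `isUnit_fixed_iff`, `mem_maximalIdeal_fixed_iff`.
-/

set_option autoImplicit false
universe u v w

namespace Groth.Agent.Lib.Helper99.WildFixed

section Basic

variable {A : Type u} [CommRing A] [IsLocalRing A] {G : Type w} [Group G] [MulSemiringAction G A]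

theorem smul_mem_maximalIdeal (σ : G) {y : A} (hy : y ∈ IsLocalRing.maximalIdeal A) :
    σ • y ∈ IsLocalRing.maximalIdeal A := by
  rw [IsLocalRing.mem_maximalIdeal, mem_nonunits_iff] at hy ⊢
  intro hu
  apply hy
  have := hu.map (MulSemiringAction.toRingHom G A σ⁻¹)
  rwa [MulSemiringAction.toRingHom_apply, inv_smul_smul] at this

theorem smul_mem_pow (σ : G) (N : ℕ) {y : A} (hy : y ∈ IsLocalRing.maximalIdeal A ^ N) :
    σ • y ∈ IsLocalRing.maximalIdeal A ^ N := by
  have h1 : (IsLocalRing.maximalIdeal A).map (MulSemiringAction.toRingHom G A σ) ≤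
      IsLocalRing.maximalIdeal A := by
    rw [Ideal.map_le_iff_le_comap]
    intro z hz
    exact smul_mem_maximalIdeal σ hz
  have h2 := Ideal.mem_map_of_mem (MulSemiringAction.toRingHom G A σ) hy
  rw [Ideal.map_pow] at h2
  exact Ideal.pow_right_mono h1 N h2

variable {k : Type v} [Field k] [Algebra k A]
  (hk : Function.Surjective (IsLocalRing.residue A ∘ algebraMap k A))
  (hGk : ∀ (σ : G) (c : k), σ • algebraMap k A c = algebraMap k A c)

include hk hGk in
theorem smul_sub_mem (σ : G) (a : A) : σ • a - a ∈ IsLocalRing.maximalIdeal A := by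
  obtain ⟨c, hc⟩ := hk (IsLocalRing.residue A a)
  have hy : a - algebraMap k A c ∈ IsLocalRing.maximalIdeal A := by
    rw [← IsLocalRing.residue_eq_zero_iff, map_sub, sub_eq_zero]
    exact hc.symm
  have h1 := smul_mem_maximalIdeal σ hy
  have h2 : σ • a - a = σ • (a - algebraMap k A c) - (a - algebraMap k A c) := by
    rw [smul_sub, hGk]; ring
  rw [h2]
  exact Ideal.sub_mem _ h1 hy

/-- the `k`-algebra endomorphism given by `σ` -/
def actHom (σ : G) : A →ₐ[k] A :=
  { MulSemiringAction.toRingHom G A σ with commutes' := hGk σ }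

theorem actHom_apply (σ : G) (a : A) : actHom hGk σ a = σ • a := rfl

end Basic

section Units

variable (A : Type u) [CommRing A] (G : Type w) [Group G] [MulSemiringAction G A]

theorem isUnit_fixed_iff (b : FixedPoints.subring A G) : IsUnit b ↔ IsUnit (b : A) := by
  constructor
  · intro h
    exact h.map (FixedPoints.subring A G).subtype
  · intro h
    obtain ⟨a, ha⟩ := h.exists_right_inv
    have hinv : ∀ σ : G, σ • a = a := by
      intro σ
      have hb : σ • (b : A) = b := b.2 σ
      calc σ • a = σ • a * ((b : A) * a) := by rw [ha, mul_one]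
        _ = σ • a * (σ • (b : A)) * a := by rw [hb]; ring
        _ = σ • (a * (b : A)) * a := by rw [smul_mul']
        _ = a := by rw [mul_comm a, ha, smul_one, one_mul]
    refine IsUnit.of_mul_eq_one (⟨a, hinv⟩ : FixedPoints.subring A G) ?_
    exact Subtype.ext ha

variable [IsLocalRing A]

theorem isLocalRing_fixed : IsLocalRing (FixedPoints.subring A G) := by
  apply IsLocalRing.of_nonunits_add
  intro a b ha hb
  rw [mem_nonunits_iff, isUnit_fixed_iff] at ha hb ⊢
  exact IsLocalRing.nonunits_add ha hb

theorem mem_maximalIdeal_fixed_iff [IsLocalRing (FixedPoints.subring A G)]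
    (b : FixedPoints.subring A G) :
    b ∈ IsLocalRing.maximalIdeal (FixedPoints.subring A G) ↔
      (b : A) ∈ IsLocalRing.maximalIdeal A := by
  rw [IsLocalRing.mem_maximalIdeal, IsLocalRing.mem_maximalIdeal, mem_nonunits_iff,
    mem_nonunits_iff, isUnit_fixed_iff]

end Units

section Main

variable (p : ℕ) [hp : Fact p.Prime] (A : Type u) [CommRing A] [IsRegularLocalRing A] [CharP A p]
  [IsAdicComplete (IsLocalRing.maximalIdeal A) A]
  (k : Type v) [Field k] [Algebra k A]
  (hk : Function.Surjective (IsLocalRing.residue A ∘ algebraMap k A))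
  (G : Type w) [Group G] [Finite G] [MulSemiringAction G A] (hG : IsPGroup p G)
  (hGk : ∀ (σ : G) (c : k), σ • algebraMap k A c = algebraMap k A c)
  (n : ℕ) (hn : ringKrullDim A = n)

include hk hG hGk hn in
theorem exists_params : ∃ x : Fin n → A, (∀ i (σ : G), σ • x i = x i) ∧
    (Ideal.span (Set.range x)).radical = IsLocalRing.maximalIdeal A := by
  classical
  letI := Fintype.ofFinite G
  obtain ⟨u, hu⟩ := Groth.Agent.S15792.result p A G hG (smul_sub_mem hk hGk) n hn
  refine ⟨fun i => ∏ σ : G, σ • u i, fun i τ => ?_, ?_⟩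
  · rw [Finset.smul_prod']
    simp only [smul_smul]
    exact Fintype.prod_equiv (Equiv.mulLeft τ) _ _ (fun σ => rfl)
  · have hu1 : Ideal.span (Set.range u) = IsLocalRing.maximalIdeal A := by
      have := hu (fun _ => 1)
      simpa using this
    have hui : ∀ i, u i ∈ IsLocalRing.maximalIdeal A := fun i => by
      rw [← hu1]; exact Ideal.subset_span ⟨i, rfl⟩
    apply le_antisymm
    · have hle : Ideal.span (Set.range fun i => ∏ σ : G, σ • u i) ≤
          IsLocalRing.maximalIdeal A := by
        rw [Ideal.span_le]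
        rintro _ ⟨i, rfl⟩
        exact Ideal.prod_mem _ (Finset.mem_univ (1 : G)) (smul_mem_maximalIdeal 1 (hui i))
      calc _ ≤ (IsLocalRing.maximalIdeal A).radical := Ideal.radical_mono hle
        _ = IsLocalRing.maximalIdeal A :=
          (IsLocalRing.maximalIdeal.isMaximal A).isPrime.radical
    · rw [Groth.Agent.S15790.result A G n u hu1]
      intro τ
      rw [hu τ]
      exact Ideal.le_radical

include hGk in
theorem exists_phi (x : Fin n → A) (hxinv : ∀ i (σ : G), σ • x i = x i)
    (hxm : ∀ i, x i ∈ IsLocalRing.maximalIdeal A) :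
    ∃ φ : MvPowerSeries (Fin n) k →ₐ[k] A, (∀ i, φ (MvPowerSeries.X i) = x i) ∧
      ∀ f (σ : G), σ • φ f = φ f := by
  obtain ⟨φ, hφ1, hφ2⟩ := Groth.Agent.Lib.Helper90.PSUniv.exists_eval (B := k)
    (IsLocalRing.maximalIdeal A) x hxm
  refine ⟨φ, fun i => ?_, fun f σ => ?_⟩
  · have := hφ1 (MvPolynomial.X i)
    rwa [MvPolynomial.coe_X, MvPolynomial.aeval_X] at this
  · have hpoly : ∀ P : MvPolynomial (Fin n) k,
        σ • φ (P : MvPowerSeries (Fin n) k) = φ (P : MvPowerSeries (Fin n) k) := by
      intro P
      rw [hφ1]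
      show actHom hGk σ (MvPolynomial.aeval x P) = _
      rw [MvPolynomial.comp_aeval_apply]
      have hfun : (fun i => actHom hGk σ (x i)) = x := funext (fun i => hxinv i σ)
      rw [hfun]
    have hmem : ∀ N : ℕ, σ • φ f - φ f ∈ IsLocalRing.maximalIdeal A ^ N := by
      intro N
      obtain ⟨P, hP⟩ := Groth.Agent.Lib.Helper90.PSUniv.exists_trunc N f
      have h1 := hφ2 N (f - (P : MvPowerSeries (Fin n) k)) hP
      have h2 := smul_mem_pow σ N h1
      have h3 : σ • φ f - φ f = σ • φ (f - (P : MvPowerSeries (Fin n) k)) -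
          φ (f - (P : MvPowerSeries (Fin n) k)) := by
        rw [map_sub, smul_sub, hpoly P]; ring
      rw [h3]
      exact Ideal.sub_mem _ h2 h1
    have hbot := Ideal.iInf_pow_eq_bot_of_isLocalRing (IsLocalRing.maximalIdeal A)
      (IsLocalRing.maximalIdeal.isMaximal A).ne_top
    have : σ • φ f - φ f ∈ (⨅ i, IsLocalRing.maximalIdeal A ^ i : Ideal A) :=
      (Ideal.mem_iInf).mpr hmem
    rw [hbot, Ideal.mem_bot, sub_eq_zero] at this
    exact this

include hk hG hGk hn in
theorem exists_ringHom_finite :
    ∃ φB : MvPowerSeries (Fin n) k →+* ↥(FixedPoints.subring A G),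
      (∀ f ∈ IsLocalRing.maximalIdeal (MvPowerSeries (Fin n) k),
        ((φB f : ↥(FixedPoints.subring A G)) : A) ∈ IsLocalRing.maximalIdeal A) ∧
      @Module.Finite (MvPowerSeries (Fin n) k) ↥(FixedPoints.subring A G) _ _
        φB.toAlgebra.toModule ∧
      @Module.Finite (MvPowerSeries (Fin n) k) A _ _
        ((FixedPoints.subring A G).subtype.comp φB).toAlgebra.toModule := by
  classical
  obtain ⟨x, hxinv, hxrad⟩ := exists_params p A k hk G hG hGk n hn
  have hxm : ∀ i, x i ∈ IsLocalRing.maximalIdeal A := fun i => by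
    rw [← hxrad]
    exact Ideal.le_radical (Ideal.subset_span ⟨i, rfl⟩)
  obtain ⟨φ, hφX, hφinv⟩ := exists_phi A k G hGk n x hxinv hxm
  let φB : MvPowerSeries (Fin n) k →+* ↥(FixedPoints.subring A G) :=
    (φ : MvPowerSeries (Fin n) k →+* A).codRestrict (FixedPoints.subring A G)
      (fun f σ => hφinv f σ)
  have hφB : ∀ f, ((φB f : ↥(FixedPoints.subring A G)) : A) = φ f := fun f => rfl
  refine ⟨φB, ?_, ?_⟩
  · intro f hf
    rw [hφB]
    rw [Groth.Agent.Lib.Helper61.PSLocal.maximalIdeal_eq_span_X] at hf
    have h1 := Ideal.mem_map_of_mem (φ : MvPowerSeries (Fin n) k →+* A) hf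
    rw [Ideal.map_span, ← Set.range_comp] at h1
    have h2 : Ideal.span (Set.range ((φ : MvPowerSeries (Fin n) k →+* A) ∘
        (MvPowerSeries.X : Fin n → MvPowerSeries (Fin n) k))) ≤ IsLocalRing.maximalIdeal A := by
      rw [Ideal.span_le]
      rintro _ ⟨i, rfl⟩
      show φ (MvPowerSeries.X i) ∈ _
      rw [hφX]
      exact hxm i
    exact h2 h1
  · letI algRB : Algebra (MvPowerSeries (Fin n) k) ↥(FixedPoints.subring A G) := φB.toAlgebra
    letI algRA : Algebra (MvPowerSeries (Fin n) k) A :=
      ((FixedPoints.subring A G).subtype.comp φB).toAlgebra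
    haveI : IsScalarTower (MvPowerSeries (Fin n) k) ↥(FixedPoints.subring A G) A :=
      IsScalarTower.of_algebraMap_eq (fun r => rfl)
    obtain ⟨d, b, -, hbij⟩ := Groth.Agent.S15801.result A n hn k hk x hxrad φ hφX
    have hfinA : Module.Finite (MvPowerSeries (Fin n) k) A := by
      apply Module.Finite.of_surjective (Fintype.linearCombination (MvPowerSeries (Fin n) k) b)
      intro a
      obtain ⟨r, hr⟩ := hbij.2 a
      refine ⟨r, ?_⟩
      rw [Fintype.linearCombination_apply, ← hr]
      refine Finset.sum_congr rfl fun i _ => ?_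
      rw [Algebra.smul_def]
      rfl
    refine ⟨?_, hfinA⟩
    haveI := hfinA
    haveI : IsNoetherian (MvPowerSeries (Fin n) k) A := isNoetherian_of_isNoetherianRing_of_finite _ _
    exact Module.Finite.of_injective
      (IsScalarTower.toAlgHom (MvPowerSeries (Fin n) k) ↥(FixedPoints.subring A G) A).toLinearMap
      Subtype.val_injective

include hk hG hGk hn in
theorem noetherian_and_finite :
    IsNoetherianRing ↥(FixedPoints.subring A G) ∧ Module.Finite ↥(FixedPoints.subring A G) A := by
  obtain ⟨φB, -, h2, h3⟩ := exists_ringHom_finite p A k hk G hG hGk n hn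
  letI algRB : Algebra (MvPowerSeries (Fin n) k) ↥(FixedPoints.subring A G) := φB.toAlgebra
  letI algRA : Algebra (MvPowerSeries (Fin n) k) A :=
    ((FixedPoints.subring A G).subtype.comp φB).toAlgebra
  haveI : IsScalarTower (MvPowerSeries (Fin n) k) ↥(FixedPoints.subring A G) A :=
    IsScalarTower.of_algebraMap_eq (fun r => rfl)
  haveI : Module.Finite (MvPowerSeries (Fin n) k) ↥(FixedPoints.subring A G) := h2
  haveI : Module.Finite (MvPowerSeries (Fin n) k) A := h3
  exact ⟨IsNoetherianRing.of_finite (MvPowerSeries (Fin n) k) _,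
    Module.Finite.of_restrictScalars_finite (MvPowerSeries (Fin n) k) _ A⟩

end Main

end Groth.Agent.Lib.Helper99.WildFixed
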